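import Groth.Agent.Chevalley.CommAff.BCSA
import Groth.Agent.GrpSchLib.AffineHopfClosed

/-!
Subgroups of semi-abelian varieties.
-/

set_option autoImplicit false
set_option backward.isDefEq.respectTransparency false
set_option maxHeartbeats 1000000
set_option linter.style.haveILetI false
universe u
open CategoryTheory CategoryTheory.Limits AlgebraicGeometry MonoidalCategory CartesianMonoidalCategory
open scoped MonObj
open TensorProduct WithConv

namespace Groth.Agent.Chevalley.CommAff

open Groth.Agent.GrpSchLib Groth.Agent.GrpSchLib.AffineHopf Groth.Agent.MultTypeLib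
open Groth.Agent.GrpSchLib.UniPart Groth.Agent.ComodLib

variable {k : Type u} [Field k]

theorem J_eq_bot_of_span [IsAlgClosed k] {A : Type u} [CommRing A] [HopfAlgebra k A] [Coalgebra.IsCocomm k A]
    [Algebra.FiniteType k A] (hA : Submodule.span k {g : A | IsGroupLikeElem k g} = ⊤) : J k A = ⊥ := by
  classical
  let f : (A →ₗ[k] k) → Module.End k A := fun φ => actF φ
  let V : ((A →ₗ[k] k) → k) → Submodule k A := fun χ => ⨅ φ, (f φ).maxGenEigenspace (χ φ)
  let χ : A → (A →ₗ[k] k) → k := fun g φ => φ g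
  have hcomm : ∀ φ ψ, Commute (f φ) (f ψ) := fun φ ψ => LinearMap.ext fun x => by
    have e1 := actF_convMul (toConv φ) (toConv ψ) x
    have e2 := actF_convMul (toConv ψ) (toConv φ) x
    rw [_root_.mul_comm] at e1
    exact e1.symm.trans e2
  have hind : iSupIndep V := Module.End.independent_iInf_maxGenEigenspace_of_forall_mapsTo f
    fun φ ψ c => Module.End.mapsTo_maxGenEigenspace_of_comm (hcomm ψ φ) c
  have hV : ∀ g, IsGroupLikeElem k g → ∀ y ∈ Bs k A, g * y ∈ V (χ g) := by
    intro g hg y hy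
    obtain ⟨n, hn⟩ := (mem_Bs k A y).mp hy
    refine (Submodule.mem_iInf _).mpr fun φ => (Module.End.mem_maxGenEigenspace (f φ) (χ g φ) (g * y)).mpr ⟨n, ?_⟩
    clear hy
    induction n generalizing y with
    | zero => rw [show y = 0 from (Submodule.mem_bot k).mp hn]; simp
    | succ n ih =>
      have e : (f φ - χ g φ • 1) (g * y) =
          g * (actF (φ ∘ₗ LinearMap.mulLeft k g) y - (φ ∘ₗ LinearMap.mulLeft k g) 1 • y) := by
        simp [f, χ, isGroupLike_actF k A hg, mul_sub]
      rw [pow_succ, Module.End.mul_apply, e]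
      exact ih _ ((mem_Bn_succ k A n y).mp hn _)
  let W : Submodule k A := ⨆ (c) (_ : c ≠ χ 1), V c
  have h1mem : (1 : A) ∈ Bs k A := (mem_Bs k A 1).mpr ⟨1, one_mem k A⟩
  have hle : ⊤ ≤ Submodule.span k {(1 : A)} ⊔ W := by
    rw [← hA]
    refine Submodule.span_le.mpr fun g hg => ?_
    by_cases hc : χ g = χ 1
    · have : g = 1 := sub_eq_zero.mp ((Module.forall_dual_apply_eq_zero_iff k _).mp fun φ => by
        rw [map_sub, show φ g = φ 1 from congrFun hc φ, sub_self])
      rw [this]
      exact Submodule.mem_sup_left (Submodule.subset_span rfl)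
    · refine Submodule.mem_sup_right (le_iSup₂ (f := fun c (_ : c ≠ χ 1) => V c) _ hc ?_)
      have := hV g hg 1 h1mem
      rwa [mul_one] at this
  refine eq_bot_iff.mpr (Ideal.span_le.mpr fun b hb => ?_)
  obtain ⟨x, hx, w, hw, hxw⟩ := Submodule.mem_sup.mp (hle (Submodule.mem_top : b ∈ ⊤))
  obtain ⟨c, rfl⟩ := Submodule.mem_span_singleton.mp hx
  have h2 : b - c • 1 ∈ V (χ 1) := by
    have := hV 1 IsGroupLikeElem.one (b - c • 1) (sub_mem hb.1 ((Bs k A).smul_mem c h1mem))
    rwa [one_mul] at this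
  have h3 : b - c • 1 ∈ W := by rw [← hxw, add_sub_cancel_left]; exact hw
  have h4 := Submodule.disjoint_def.mp (hind (χ 1)) _ h2 h3
  rw [sub_eq_zero] at h4
  have h5 := congrArg (Coalgebra.counit (R := k)) h4
  rw [map_smul, Bialgebra.counit_one, show Coalgebra.counit (R := k) b = 0 from hb.2, smul_eq_mul, mul_one] at h5
  show b = 0
  rw [h4, ← h5, zero_smul]

theorem isCocomm_and_span [IsAlgClosed k] {T : Over (Spec (CommRingCat.of k))} [GrpObj T] (hT : Red.IsTorus T)
    {C : Type u} [CommRing C] [HopfAlgebra k C] (eC : Grp.mk (sp k C) ≅ Grp.mk T) :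
    Submodule.span k {g : C | IsGroupLikeElem k g} = ⊤ := by
  obtain ⟨h1, h2, h3, h4, h5⟩ := torus_props hT
  haveI : IsMonHom eC.hom.hom.hom := eC.hom.hom.isMonHom_hom
  let e : sp k C ≅ T := (Grp.forget _).mapIso eC
  haveI : IsMonHom e.hom := eC.hom.hom.isMonHom_hom
  haveI : Coalgebra.IsCocomm k C := isCocomm_of_iso e.hom
  haveI : LocallyOfFiniteType (sp k C).hom := by rw [← Over.w e.hom]; infer_instance
  haveI : Algebra.FiniteType k C :=
    RingHom.finiteType_algebraMap.mp ((HasRingHomProperty.Spec_iff (P := @LocallyOfFiniteType)).mp ‹_›)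
  obtain ⟨K₁, _, _, φ₁, r, ⟨e₁⟩⟩ := TorusBilin.exists_split hT
  letI : Algebra k K₁ := φ₁.toAlgebra
  obtain ⟨e₂⟩ := GrpSchLib.MultTypeBC.bc_iso (Spec.map (CommRingCat.ofHom (algebraMap k K₁))) eC
  obtain ⟨e₃⟩ := nonempty_bc_sp (R := k) K₁ C
  obtain ⟨ε⟩ := MultConjLib.exists_bialgEquiv (e₃.symm ≪≫ e₂ ≪≫ e₁)
  let ε' : K₁ ⊗[k] C ≃ₐc[K₁] MonoidAlgebra K₁ (ULift.{u} (Multiplicative (Fin r → ℤ))) :=
    ε.symm.trans (MonoidAlgebra.domCongrBialgEquiv K₁ K₁ MulEquiv.ulift.symm)
  let εi : K₁ ⊗[k] C →ₐc[K₁] MonoidAlgebra K₁ (ULift.{u} (Multiplicative (Fin r → ℤ))) := ε'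
  have hJ : ∀ b ∈ Bs k C, b = Coalgebra.counit (R := k) b • (1 : C) := by
    intro b hb
    obtain ⟨n, hn⟩ := (mem_Bs k C b).mp hb
    have h := monoidAlgebra_Bn n (map_mem εi n (tmul_mem_Bn n hn))
    rw [CoalgHomClass.counit_comp_apply εi, TensorProduct.counit_tmul, Bialgebra.counit_one] at h
    refine Algebra.TensorProduct.includeRight_injective (A := K₁) (algebraMap k K₁).injective (ε'.injective ?_)
    refine h.trans ?_
    show _ = ε' ((1 : K₁) ⊗ₜ[k] (Coalgebra.counit (R := k) b • (1 : C)))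
    rw [TensorProduct.tmul_smul, ← Algebra.TensorProduct.one_def,
      ← algebraMap_smul K₁ (Coalgebra.counit (R := k) b) (1 : K₁ ⊗[k] C), map_smul ε', map_one,
      ← Algebra.algebraMap_eq_smul_one (A := MonoidAlgebra K₁ (ULift.{u} (Multiplicative (Fin r → ℤ)))),
      Algebra.algebraMap_eq_smul_one (A := K₁)]
  refine eq_top_iff.mpr fun x _ => ?_
  have hx : x ∈ glSpan k C := by rw [glSpan_eq_top (k := k) (A := C)]; exact Submodule.mem_top
  clear * - hx hJ
  induction hx using Submodule.span_induction with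
  | mem a ha =>
    obtain ⟨g, y, hg, hy, rfl⟩ := ha
    rw [hJ y hy, mul_smul_comm, mul_one]
    exact Submodule.smul_mem _ _ (Submodule.subset_span hg)
  | zero => exact zero_mem _
  | add a b _ _ ha hb => exact add_mem ha hb
  | smul c a _ ha => exact Submodule.smul_mem _ c ha

/-- A closed subgroup of a torus is an extension of a finite group by a torus. -/
theorem exists_torus_pow [IsAlgClosed k] {T P : Over (Spec (CommRingCat.of k))} [GrpObj T] [GrpObj P]
    (hT : Red.IsTorus T) (z : P ⟶ T) [IsMonHom z] [IsClosedImmersion z.left] :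
    ∃ (T' : Over (Spec (CommRingCat.of k))) (_ : GrpObj T') (i : T' ⟶ P) (N : ℕ) (t : P ⟶ T'),
      IsMonHom i ∧ IsClosedImmersion i.left ∧ Red.IsTorus T' ∧ 0 < N ∧ t ≫ i = (𝟙 P) ^ N := by
  obtain ⟨h1, h2, h3, h4, h5⟩ := torus_props hT
  haveI := h2
  haveI : IsAffine P.left := isAffine_of_isAffineHom z.left
  haveI : LocallyOfFiniteType P.hom := by rw [← Over.w z]; infer_instance
  haveI := isCommMonObj_sub z
  obtain ⟨A, _, _, ⟨eP⟩⟩ := exists_hopf P
  obtain ⟨C, _, _, ⟨eC⟩⟩ := exists_hopf T
  let e : sp k A ≅ P := (Grp.forget _).mapIso eP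
  let e' : sp k C ≅ T := (Grp.forget _).mapIso eC
  haveI : IsMonHom e.hom := eP.hom.hom.isMonHom_hom
  haveI : IsMonHom e.inv := eP.inv.hom.isMonHom_hom
  haveI : IsMonHom e'.inv := eC.inv.hom.isMonHom_hom
  haveI : IsIso e.hom.left := inferInstanceAs (IsIso ((Over.forget _).map e.hom))
  haveI : IsIso e'.inv.left := inferInstanceAs (IsIso ((Over.forget _).map e'.inv))
  haveI : Coalgebra.IsCocomm k A := isCocomm_of_iso e.hom
  haveI : LocallyOfFiniteType (sp k A).hom := by rw [← Over.w e.hom]; infer_instance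
  haveI : Algebra.FiniteType k A :=
    RingHom.finiteType_algebraMap.mp ((HasRingHomProperty.Spec_iff (P := @LocallyOfFiniteType)).mp ‹_›)
  obtain ⟨F, hF⟩ := exists_bialgHom (e.hom ≫ z ≫ e'.inv)
  have hFs : Function.Surjective F := surjective_of_isClosedImmersion (F : C →ₐ[k] A) (by
    rw [← hF, Over.comp_left, Over.comp_left]; infer_instance)
  have hspan : Submodule.span k {g : A | IsGroupLikeElem k g} = ⊤ := by
    refine eq_top_iff.mpr fun a _ => ?_
    obtain ⟨x, rfl⟩ := hFs a
    have hx : x ∈ Submodule.span k {g : C | IsGroupLikeElem k g} := by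
      rw [isCocomm_and_span hT eC]; exact Submodule.mem_top
    induction hx using Submodule.span_induction with
    | mem g hg => exact Submodule.subset_span ((show IsGroupLikeElem k g from hg).map F)
    | zero => rw [map_zero]; exact zero_mem _
    | add a b _ _ ha hb => rw [map_add]; exact add_mem (ha trivial) (hb trivial)
    | smul c a _ ha => rw [map_smul]; exact Submodule.smul_mem _ _ (ha trivial)
  have hJ := J_eq_bot_of_span hspan
  obtain ⟨J', _, N, hN, hT', -, hI⟩ := exists_maxTorus_ideal (k := k) A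
  let mkI : A →ₐc[k] A ⧸ J' := Bialgebra.Quotient.mkBialgHom J'
  let g : A ⧸ J' →ₐ[k] A := Ideal.Quotient.liftₐ J' (SGA3b.powConv k A N) fun a ha =>
    (Submodule.mem_bot A).mp (hJ ▸ hI a ha)
  have hg : spMap g ≫ spMap (mkI : A →ₐ[k] A ⧸ J') = (𝟙 (sp k A)) ^ N := by
    rw [spMap_comp, show g.comp (mkI : A →ₐ[k] A ⧸ J') = SGA3b.powConv k A N from Ideal.Quotient.liftₐ_comp _ _ _]
    exact spMap_powConv N
  haveI : IsClosedImmersion (spMap (mkI : A →ₐ[k] A ⧸ J')).left :=
    IsClosedImmersion.spec_of_surjective _ Ideal.Quotient.mk_surjective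
  refine ⟨sp k (A ⧸ J'), inferInstance, spMap (mkI : A →ₐ[k] A ⧸ J') ≫ e.hom, N, e.inv ≫ spMap g, inferInstance,
    by rw [Over.comp_left]; infer_instance, hT', hN, ?_⟩
  rw [Category.assoc, reassoc_of% hg, BC.pow_comp, Category.id_comp, BC.comp_pow, e.inv_hom_id]

/-- A smooth connected subgroup of a semi-abelian variety is semi-abelian. -/
theorem IsSA.sub [IsAlgClosed k] {G G' : Over (Spec (CommRingCat.of k))} [GrpObj G] [GrpObj G'] [LocallyOfFiniteType G.hom]
    [QuasiCompact G.hom] (hG : IsSA G) (j : G' ⟶ G) [IsMonHom j] [IsClosedImmersion j.left] [Smooth G'.hom]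
    [QuasiCompact G'.hom] [ConnectedSpace G'.left] : IsSA G' := by
  haveI := GrpSchLib.AntiAffine.isSeparated_grp G'
  haveI := hG.isCommMonObj
  haveI := isCommMonObj_sub j
  obtain ⟨T, _, i, A, _, q, hi, hic, hT, hq, hqs, hqf, hk, hAp, hAs, hAc⟩ := hG
  haveI := hi; haveI := hic; haveI := hq; haveI := hAp
  haveI := GrpSchLib.AntiAffine.isSeparated_grp T
  haveI : Mono i := Over.mono_of_mono_left _
  haveI : Mono j := Over.mono_of_mono_left _
  obtain ⟨B, _, π, b, hπ, hb, hπb, hbc, hπf, hπs, hBl, hBq⟩ := GrpSchLib.ImageFactor.exists_image (j ≫ q)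
  haveI := hπ; haveI := hb; haveI := hbc; haveI := hπf; haveI := hπs; haveI := hBl; haveI := hBq
  haveI := GrpSchLib.AntiAffine.isSeparated_grp B
  haveI : IsProper B.hom := by rw [← Over.w b]; infer_instance
  obtain ⟨P, _, κ, hκ, hκc, -, hkP⟩ := GrpSchLib.exists_kernel π
  haveI := hκ; haveI := hκc
  let z : P ⟶ T := hk.lift (κ ≫ j) (toUnit P) (by
    rw [Category.assoc, ← hπb, ← Category.assoc, hkP.w, Category.assoc, IsMonHom.one_hom b])
  have hz : z ≫ i = κ ≫ j := hk.lift_fst _ _ _
  haveI : IsMonHom z := LargeNormal.isMonHom_of_mul _ fun U a b => by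
    rw [← cancel_mono i, Category.assoc]
    simp only [Category.assoc, hz, MonObj.mul_comp]
  haveI : IsClosedImmersion z.left := by
    haveI : IsClosedImmersion (z.left ≫ i.left) := by rw [← Over.comp_left, hz, Over.comp_left]; infer_instance
    exact IsClosedImmersion.of_comp z.left i.left
  obtain ⟨TP, _, iP, N, t, hiP, hiPc, hTP, hN, ht⟩ := exists_torus_pow hT z
  haveI := hiP; haveI := hiPc
  haveI : Mono iP := Over.mono_of_mono_left _
  haveI : LocallyOfFiniteType P.hom := by rw [← Over.w κ]; infer_instance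
  haveI : QuasiCompact P.hom := by rw [← Over.w κ]; infer_instance
  haveI := isCommMonObj_sub κ
  haveI := GrpSchLib.AntiAffine.isSeparated_grp P
  haveI := GrpSchLib.AntiAffine.isSeparated_grp TP
  haveI := isMonHom_pow P N
  haveI : IsMonHom t := LargeNormal.isMonHom_of_mul _ fun U a b => by
    rw [← cancel_mono iP, Category.assoc]
    simp only [Category.assoc, ht, MonObj.mul_comp]
  obtain ⟨T', _, i', hi', hi'c, hT', habs⟩ := exists_absTorus G'
  haveI := hi'; haveI := hi'c
  obtain ⟨Q, _, r, hr, hrf, hrs, hrk, hQl, hQq⟩ := exists_quot i' (isNormal_of_comm i')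
  haveI := hr; haveI := hrf; haveI := hrs; haveI := hQl; haveI := hQq
  haveI := isCommMonObj_of_cover r
  obtain ⟨g, hg⟩ := habs.factor hTP (iP ≫ κ)
  obtain ⟨E, _, e, he, hec, -, hkE⟩ := GrpSchLib.exists_kernel t
  haveI := he; haveI := hec
  haveI : IsFinite E.hom := by
    haveI : IsFinite ((𝟙 T) ^ N).left := (pow_torus_props hT hN).2
    haveI : IsFinite t.left := by
      haveI : IsFinite (t.left ≫ (iP ≫ z).left) := by
        rw [← Over.comp_left, ← Category.assoc, ht, BC.pow_comp, Category.id_comp, ← Category.comp_id z,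
          ← BC.comp_pow, Over.comp_left]
        infer_instance
      haveI : IsClosedImmersion (iP ≫ z).left := by rw [Over.comp_left]; infer_instance
      exact IsFinite.of_comp t.left (iP ≫ z).left
    have hh := hkE.map (Over.forget (Spec (CommRingCat.of k)))
    haveI : IsFinite (toUnit E).left := MorphismProperty.of_isPullback (P := @IsFinite) hh (show IsFinite t.left from inferInstance)
    exact inferInstanceAs (IsFinite (toUnit E).left)
  haveI : Surjective (iP ≫ t).left := by
    haveI := surjective_pow_torus hTP hN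
    have h : iP ≫ t = (𝟙 TP) ^ N := by
      rw [← cancel_mono iP, Category.assoc, ht, BC.comp_pow, Category.comp_id, BC.pow_comp, Category.id_comp]
    rw [h]; infer_instance
  haveI := BC.surjective_mul_of_kernel iP t e hkE
  obtain ⟨I, _, p, c, hp, hc, hpc, hcc, hpf, hps, hIl, hIq⟩ := GrpSchLib.ImageFactor.exists_image (κ ≫ r)
  haveI := hp; haveI := hc; haveI := hcc; haveI := hps; haveI := hIl; haveI := hIq
  haveI : Mono c := Over.mono_of_mono_left _
  haveI : Surjective (e ≫ p).left := by
    have hip : iP ≫ p = 1 := by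
      rw [← cancel_mono c, Category.assoc, hpc, ← Category.assoc, ← hg, Category.assoc, hrk.w, ← Category.assoc g,
        comp_toUnit, MonObj.one_comp, Hom.one_def]
    haveI : Surjective ((fst E TP).left ≫ (e ≫ p).left) := by
      have h : ((e ⊗ₘ iP) ≫ μ[P]) ≫ p = fst E TP ≫ e ≫ p := by
        rw [show (e ⊗ₘ iP) ≫ μ[P] = (fst E TP ≫ e) * (snd E TP ≫ iP) by rw [Hom.mul_def]; congr 1,
          MonObj.mul_comp, Category.assoc, Category.assoc, hip, MonObj.comp_one, _root_.mul_one]
      rw [← Over.comp_left, ← h, Over.comp_left]; infer_instance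
    exact Surjective.of_comp (fst E TP).left _
  haveI := GrpSchLib.AntiAffine.isSeparated_grp I
  haveI : IsProper I.hom := BC.isProper_of_surjective (e ≫ p)
  obtain ⟨R, _, s, hs, hsf, hss, hsk, hRl, hRq⟩ := exists_quot c (isNormal_of_comm c)
  haveI := hs; haveI := hsf; haveI := hss; haveI := hRl; haveI := hRq
  obtain ⟨v, hv', hv, -⟩ := S3280.result k G' P B R π κ hkP (r ≫ s) (by
    rw [← Category.assoc, ← hpc, Category.assoc, hsk.w, ← Category.assoc, comp_toUnit])
  haveI := hv'
  haveI := GrpSchLib.AntiAffine.isSeparated_grp R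
  haveI : Surjective v.left := by
    haveI : Surjective (π.left ≫ v.left) := by rw [← Over.comp_left, hv, Over.comp_left]; infer_instance
    exact Surjective.of_comp π.left v.left
  haveI : IsProper R.hom := BC.isProper_of_surjective v
  haveI : QuasiCompact (s.left ≫ R.hom) := by rw [Over.w s]; infer_instance
  haveI : QuasiCompact s.left := QuasiCompact.of_comp s.left R.hom
  haveI := EtFound.fpqc_isProper.{u}
  haveI : IsProper s.left := S7982.property_of_kernel c s hsk @IsProper inferInstance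
  haveI : IsProper Q.hom := by rw [← Over.w s]; infer_instance
  exact isSA_of_proper_quot i' hT' r hrk

end Groth.Agent.Chevalley.CommAff
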