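import Groth.Agent.Chevalley.CommAff.TorsionDeg
import Groth.Agent.Chevalley.CommAff.SubSA
import Groth.Agent.Chevalley.BC.Comp0
import Groth.Agent.GrpSchLib.FibreDimGrp

/-!
Subgroups of semi-abelian varieties without ℓ-torsion are finite.
-/

set_option autoImplicit false
set_option backward.isDefEq.respectTransparency false
set_option maxHeartbeats 1000000
set_option linter.style.haveILetI false
universe u
open CategoryTheory CategoryTheory.Limits AlgebraicGeometry MonoidalCategory CartesianMonoidalCategory
open scoped MonObj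

namespace Groth.Agent.Chevalley.CommAff

theorem subsingleton_of_krullDim_zero {X : Type u} [TopologicalSpace X] [IrreducibleSpace X] [T0Space X]
    (h : topologicalKrullDim X = 0) : Subsingleton X := by
  have hcl : ∀ x : X, closure {x} = Set.univ := by
    intro x
    let a : TopologicalSpace.IrreducibleCloseds X := ⟨closure {x}, isIrreducible_singleton.closure, isClosed_closure⟩
    let b : TopologicalSpace.IrreducibleCloseds X := ⟨Set.univ, IrreducibleSpace.isIrreducible_univ X, isClosed_univ⟩
    have hmax := Order.krullDim_nonpos_iff_forall_isMax.mp (le_of_eq h) a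
    exact Set.eq_univ_of_univ_subset (hmax (show a ≤ b from Set.subset_univ _))
  refine ⟨fun x y => Inseparable.eq ?_⟩
  rw [inseparable_iff_closure_eq, hcl, hcl]

variable {k : Type u} [Field k]

theorem exists_nat_dim (G : Over (Spec (CommRingCat.of k))) [GrpObj G] [LocallyOfFiniteType G.hom] :
    ∃ n : ℕ, topologicalKrullDim G.left = n := by
  haveI : Subsingleton ↥(Spec (CommRingCat.of k)) := FibDim.subsingleton_spec_field k
  obtain ⟨n, hn⟩ := GrpSchLib.FibreDimGrp.exists_nat G (IsLocalRing.closedPoint k)
  refine ⟨n, ?_⟩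
  have hu : G.hom ⁻¹' {IsLocalRing.closedPoint k} = Set.univ := Set.eq_univ_of_forall fun x => Subsingleton.elim _ _
  rw [hu, (Homeomorph.Set.univ G.left).isHomeomorph.topologicalKrullDim_eq] at hn
  exact hn

theorem subsingleton_of_dim_zero (G : Over (Spec (CommRingCat.of k))) [GrpObj G] [Smooth G.hom] [QuasiCompact G.hom]
    [ConnectedSpace G.left] (h : topologicalKrullDim G.left = (0 : ℕ)) : Subsingleton G.left := by
  haveI : GeometricallyIntegral G.hom := AlbQuotLib.geometricallyIntegral G
  haveI : GeometricallyIrreducible G.hom := inferInstance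
  haveI : IrreducibleSpace G.left := GeometricallyIrreducible.irreducibleSpace_of_subsingleton G.hom
  exact subsingleton_of_krullDim_zero h

/-- A semi-abelian variety without points of order `N > 1` is trivial. -/
theorem isFinite_of_torsion_trivial {G : Over (Spec (CommRingCat.of k))} [GrpObj G] (hG : IsSA G) [Smooth G.hom]
    [QuasiCompact G.hom] [ConnectedSpace G.left] {N : ℕ} (hN : 1 < N)
    (ht : ∀ (Y : Over (Spec (CommRingCat.of k))) (h : Y ⟶ G), h ^ N = 1 → h = 1) : IsFinite G.hom := by
  haveI := hG.isCommMonObj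
  haveI := GrpSchLib.AntiAffine.isSeparated_grp G
  haveI := isMonHom_pow G N
  obtain ⟨K, _, κ, hκ, hκc, -, hK⟩ := GrpSchLib.exists_kernel ((𝟙 G) ^ N)
  haveI := hκ; haveI := hκc
  haveI : Mono κ := Over.mono_of_mono_left _
  have hκ1 : κ = 1 := ht K κ (by
    rw [← Category.comp_id κ, ← BC.comp_pow, hK.w, ← Hom.one_def])
  haveI : IsIso (toUnit K) := by
    refine ⟨η[K], ?_, toUnit_unique _ _⟩
    rw [← cancel_mono κ, Category.assoc, IsMonHom.one_hom κ, Category.id_comp, ← Hom.one_def, hκ1]
  haveI : IsIso K.hom := by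
    haveI : IsIso (toUnit K).left := inferInstanceAs (IsIso ((Over.forget _).map (toUnit K)))
    exact inferInstanceAs (IsIso (toUnit K).left)
  obtain ⟨T, _, i, B, _, q, hi, hic, hT, hq, hqs, hqf, hk, hBp, hBs, hBc⟩ := hG
  haveI := hi; haveI := hic; haveI := hq; haveI := hqs; haveI := hqf; haveI := hBp; haveI := hBs; haveI := hBc
  obtain ⟨h1, h2, h3, h4, h5⟩ := torus_props hT
  obtain ⟨t, htT⟩ := exists_nat_dim T
  obtain ⟨a, haB⟩ := exists_nat_dim B
  obtain ⟨-, -, hdeg⟩ := torsion_degree i hT q hk htT haB (by omega : 0 < N) κ hK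
  have hd := hdeg (IsLocalRing.closedPoint k)
  rw [Scheme.Hom.finrank_eq_one_of_isIso, Pi.one_apply] at hd
  have hta : t + 2 * a = 0 := by
    by_contra hne
    exact (Nat.one_lt_pow hne hN).ne hd
  obtain ⟨rfl, rfl⟩ : t = 0 ∧ a = 0 := ⟨by omega, by omega⟩
  haveI := subsingleton_of_dim_zero T htT
  haveI := subsingleton_of_dim_zero B haB
  haveI : Subsingleton G.left := by
    have hp := hk.map (Over.forget (Spec (CommRingCat.of k)))
    have hr : ∀ x : G.left, ∃ y, i.left y = x := fun x => by
      obtain ⟨z, hz, -⟩ := Scheme.exists_preimage_of_isPullback hp x (IsLocalRing.closedPoint k)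
        (Subsingleton.elim (α := B.left) _ _)
      exact ⟨z, hz⟩
    refine ⟨fun x y => ?_⟩
    obtain ⟨x', rfl⟩ := hr x
    obtain ⟨y', rfl⟩ := hr y
    rw [Subsingleton.elim x' y']
  haveI : IsLocallyArtinian (Spec (CommRingCat.of k)) := inferInstance
  haveI : LocallyQuasiFinite G.hom :=
    LocallyQuasiFinite.of_finite_preimage_singleton G.hom fun y => Set.toFinite _
  exact IsFinite.of_locallyQuasiFinite G.hom

end Groth.Agent.Chevalley.CommAff
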