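import Groth.Agent.Chevalley.CommAff.AbsTorus

/-!
Images and extensions of semi-abelian varieties; the largest semi-abelian subgroup.
-/

set_option autoImplicit false
set_option backward.isDefEq.respectTransparency false
set_option maxHeartbeats 1000000
set_option linter.style.haveILetI false
universe u
open CategoryTheory CategoryTheory.Limits AlgebraicGeometry MonoidalCategory CartesianMonoidalCategory
open scoped MonObj
open Groth.Agent.GrpSchLib

namespace Groth.Agent.Chevalley.CommAff

variable {k : Type u} [Field k]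

theorem cover_props {X Y : Over (Spec (CommRingCat.of k))} [GrpObj Y] [Smooth X.hom] [QuasiCompact X.hom]
    [ConnectedSpace X.left] [LocallyOfFiniteType Y.hom] (p : X ⟶ Y) [Flat p.left] [Surjective p.left] :
    Smooth Y.hom ∧ ConnectedSpace Y.left := by
  refine ⟨(GrpQuotLib.props_of_cover (p := p) ⟨inferInstance, inferInstance, ?_⟩).2.2 inferInstance,
    p.left.surjective.connectedSpace p.left.continuous⟩
  haveI : LocallyOfFiniteType (p.left ≫ Y.hom) := by rw [Over.w p]; infer_instance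
  haveI := locallyOfFiniteType_of_comp p.left Y.hom
  haveI : IsLocallyNoetherian Y.left := LocallyOfFiniteType.isLocallyNoetherian Y.hom
  infer_instance

theorem isSA_of_proper_quot {I T Q : Over (Spec (CommRingCat.of k))} [GrpObj I] [GrpObj T] [GrpObj Q] [Smooth I.hom]
    [QuasiCompact I.hom] [ConnectedSpace I.left] [LocallyOfFiniteType Q.hom] (i : T ⟶ I) [IsMonHom i]
    [IsClosedImmersion i.left] (hT : Red.IsTorus T) (q : I ⟶ Q) [IsMonHom q] [Flat q.left] [Surjective q.left]
    (hk : AlgGrp.IsKernel i q) [IsProper Q.hom] : IsSA I :=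
  ⟨T, inferInstance, i, Q, inferInstance, q, inferInstance, inferInstance, hT, inferInstance, inferInstance,
    inferInstance, hk, inferInstance, (cover_props q).1, (cover_props q).2⟩

variable {G S : Over (Spec (CommRingCat.of k))} [GrpObj G] [GrpObj S] [IsCommMonObj G]
  [LocallyOfFiniteType G.hom] [QuasiCompact G.hom] [LocallyOfFiniteType S.hom] [QuasiCompact S.hom]

/-- Images of semi-abelian varieties are semi-abelian. -/
theorem IsSA.of_cover (hS : IsSA S) (p : S ⟶ G) [IsMonHom p] [Flat p.left] [Surjective p.left] : IsSA G := by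
  obtain ⟨hSs, hSc⟩ := hS.props
  obtain ⟨T, _, i, A, _, q, hi, hic, hT, hq, hqs, hqf, hk, hAp, hAs, hAc⟩ := hS
  haveI := hi; haveI := hic; haveI := hq; haveI := hqs; haveI := hqf; haveI := hAp; haveI := hAs; haveI := hAc
  obtain ⟨hGs, hGc⟩ := cover_props p
  obtain ⟨T', _, i', hi', hi'c, hT', habs⟩ := exists_absTorus G
  haveI := hi'; haveI := hi'c
  obtain ⟨Q, _, r, hr, hrf, hrs, hrk, hQl, hQq⟩ := exists_quot i' (isNormal_of_comm i')
  haveI := hr; haveI := hrf; haveI := hrs; haveI := hQl; haveI := hQq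
  obtain ⟨g, hg⟩ := habs.factor hT (i ≫ p)
  obtain ⟨u, hu', hu, -⟩ := S3280.result k S T A Q q i hk (p ≫ r) (by
    rw [← Category.assoc, ← hg, Category.assoc, hrk.w, ← Category.assoc, comp_toUnit])
  haveI := hu'
  haveI := GrpSchLib.AntiAffine.isSeparated_grp Q
  haveI : Surjective u.left := by
    haveI : Surjective (q.left ≫ u.left) := by rw [← Over.comp_left, hu, Over.comp_left]; infer_instance
    exact Surjective.of_comp q.left u.left
  haveI : IsProper Q.hom := BC.isProper_of_surjective u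
  exact isSA_of_proper_quot i' hT' r hrk

omit [IsCommMonObj G] in
theorem IsSA.image [IsCommMonObj G] (hS : IsSA S) (f : S ⟶ G) [IsMonHom f] :
    ∃ (I : Over (Spec (CommRingCat.of k))) (_ : GrpObj I) (π : S ⟶ I) (b : I ⟶ G), IsMonHom π ∧ IsMonHom b ∧
      π ≫ b = f ∧ IsClosedImmersion b.left ∧ LocallyOfFiniteType I.hom ∧ QuasiCompact I.hom ∧ IsSA I := by
  obtain ⟨I, _, π, b, hπ, hb, hπb, hbc, hπf, hπs, hIl, hIq⟩ := GrpSchLib.ImageFactor.exists_image f
  haveI := hπ; haveI := hb; haveI := hbc; haveI := hπf; haveI := hπs; haveI := hIl; haveI := hIq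
  haveI := isCommMonObj_sub b
  exact ⟨I, inferInstance, π, b, hπ, hb, hπb, hbc, hIl, hIq, hS.of_cover π⟩

/-- An extension of semi-abelian varieties is semi-abelian. -/
theorem isSA_ext {S'' : Over (Spec (CommRingCat.of k))} [GrpObj S''] [LocallyOfFiniteType S''.hom]
    [QuasiCompact S''.hom] (hS : IsSA S) (hS'' : IsSA S'') (s : S ⟶ G) [IsMonHom s] [IsClosedImmersion s.left]
    (f : G ⟶ S'') [IsMonHom f] [Flat f.left] [Surjective f.left] (hks : AlgGrp.IsKernel s f) : IsSA G := by
  obtain ⟨hSs, hSc⟩ := hS.props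
  obtain ⟨hS''s, hS''c⟩ := hS''.props
  obtain ⟨hGs, hGc⟩ := ext_props s f hks
  obtain ⟨T, _, i, A, _, q, hi, hic, hT, hq, hqs, hqf, hk, hAp, hAs, hAc⟩ := hS
  haveI := hi; haveI := hic; haveI := hq; haveI := hqs; haveI := hqf; haveI := hAp; haveI := hAs; haveI := hAc
  obtain ⟨T'', _, i'', A'', _, q'', hi'', hi''c, hT'', hq'', hq''s, hq''f, hk'', hA''p, hA''s, hA''c⟩ := hS''
  haveI := hi''; haveI := hi''c; haveI := hq''; haveI := hq''s; haveI := hq''f; haveI := hA''p; haveI := hA''s
  obtain ⟨T', _, i', hi', hi'c, hT', habs⟩ := exists_absTorus G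
  haveI := hi'; haveI := hi'c
  obtain ⟨Q, _, r, hr, hrf, hrs, hrk, hQl, hQq⟩ := exists_quot i' (isNormal_of_comm i')
  haveI := hr; haveI := hrf; haveI := hrs; haveI := hQl; haveI := hQq
  haveI := isCommMonObj_of_cover r
  obtain ⟨g, hg⟩ := habs.factor hT (i ≫ s)
  obtain ⟨u, hu', hu, -⟩ := S3280.result k S T A Q q i hk (s ≫ r) (by
    rw [← Category.assoc, ← hg, Category.assoc, hrk.w, ← Category.assoc, comp_toUnit])
  haveI := hu'
  obtain ⟨B, _, π, b, hπ, hb, hπb, hbc, -, hπs, hBl, hBq⟩ := GrpSchLib.ImageFactor.exists_image u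
  haveI := hπ; haveI := hb; haveI := hbc; haveI := hπs; haveI := hBl; haveI := hBq
  haveI := GrpSchLib.AntiAffine.isSeparated_grp B
  haveI : IsProper B.hom := BC.isProper_of_surjective π
  obtain ⟨R, _, t, ht, htf, hts, htk, hRl, hRq⟩ := exists_quot b (isNormal_of_comm b)
  haveI := ht; haveI := htf; haveI := hts; haveI := hRl; haveI := hRq
  have hR : NoTorus R := (noTorus_quot i' hT' habs r hrk).quot_proper b t htk
  obtain ⟨v, hv', hv, -⟩ := S3280.result k G S S'' R f s hks (r ≫ t) (by
    rw [← Category.assoc, ← hu, ← hπb, Category.assoc, Category.assoc, htk.w, ← Category.assoc π, comp_toUnit,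
      ← Category.assoc, comp_toUnit])
  haveI := hv'
  obtain ⟨w, hw', hw, -⟩ := S3280.result k S'' T'' A'' R q'' i'' hk'' v (by
    rw [hR T'' (i'' ≫ v) hT'', Hom.one_def])
  haveI := hw'
  haveI := GrpSchLib.AntiAffine.isSeparated_grp R
  haveI : Surjective w.left := by
    haveI : Surjective ((f ≫ q'').left ≫ w.left) := by
      rw [← Over.comp_left, Category.assoc, hw, hv, Over.comp_left]; infer_instance
    exact Surjective.of_comp (f ≫ q'').left w.left
  haveI : IsProper R.hom := BC.isProper_of_surjective w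
  haveI : QuasiCompact (t.left ≫ R.hom) := by rw [Over.w t]; infer_instance
  haveI : QuasiCompact t.left := QuasiCompact.of_comp t.left R.hom
  haveI := EtFound.fpqc_isProper.{u}
  haveI : IsProper t.left := S7982.property_of_kernel b t htk @IsProper inferInstance
  haveI : IsProper Q.hom := by rw [← Over.w t]; infer_instance
  exact isSA_of_proper_quot i' hT' r hrk

/-- Two semi-abelian subgroups lie in a third. -/
theorem exists_sum {S' : Over (Spec (CommRingCat.of k))} [GrpObj S'] [LocallyOfFiniteType S'.hom]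
    [QuasiCompact S'.hom] (hS : IsSA S) (hS' : IsSA S') (s : S ⟶ G) [IsMonHom s] [IsClosedImmersion s.left]
    (s' : S' ⟶ G) [IsMonHom s'] :
    ∃ (E : Over (Spec (CommRingCat.of k))) (_ : GrpObj E) (e : E ⟶ G), IsMonHom e ∧ IsClosedImmersion e.left ∧
      IsSA E ∧ (∃ g : S ⟶ E, g ≫ e = s) ∧ ∃ g : S' ⟶ E, g ≫ e = s' := by
  obtain ⟨Q, _, q, hq, hqf, hqs, hqk, hQl, hQq⟩ := exists_quot s (isNormal_of_comm s)
  haveI := hq; haveI := hqf; haveI := hqs; haveI := hQl; haveI := hQq
  haveI := isCommMonObj_of_cover q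
  obtain ⟨I, _, π, b, hπ, hb, hπb, hbc, hIl, hIq, hI⟩ := hS'.image (s' ≫ q)
  haveI := hπ; haveI := hb; haveI := hIl; haveI := hIq; haveI := hbc
  haveI := isCommMonObj_sub b
  obtain ⟨P, _, κ, ψ, i', hκ, hψ, hi', hP, hψf, hψs, hi'c, hi'κ, hkP, hPc, hPl, hPq, hκc⟩ := exists_fibre q s hqk b
  haveI := hκ; haveI := hψ; haveI := hi'; haveI := hψf; haveI := hψs; haveI := hi'c; haveI := hPl; haveI := hPq
  exact ⟨P, inferInstance, κ, hκ, hκc hbc, isSA_ext hS hI i' ψ hkP, ⟨i', hi'κ⟩,
    hP.lift s' π hπb.symm, hP.lift_fst _ _ _⟩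

theorem exists_largest (G : Over (Spec (CommRingCat.of k))) [GrpObj G] [IsCommMonObj G] [LocallyOfFiniteType G.hom]
    [QuasiCompact G.hom] :
    ∃ (S : Over (Spec (CommRingCat.of k))) (_ : GrpObj S) (s : S ⟶ G), IsMonHom s ∧ IsClosedImmersion s.left ∧
      IsSA S ∧ ∀ (S' : Over (Spec (CommRingCat.of k))) [GrpObj S'] (s' : S' ⟶ G) [IsMonHom s']
        [IsClosedImmersion s'.left], IsSA S' → ∃ g : S' ⟶ S, g ≫ s = s' := by
  classical
  let P : ℕ → Prop := fun r => ∃ (S : Over (Spec (CommRingCat.of k))) (_ : GrpObj S) (s : S ⟶ G), IsMonHom s ∧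
    IsClosedImmersion s.left ∧ IsSA S ∧ topologicalKrullDim S.left = r
  have hdim : ∀ (S : Over (Spec (CommRingCat.of k))) [GrpObj S] (s : S ⟶ G) [IsClosedImmersion s.left],
      ∃ r : ℕ, topologicalKrullDim S.left = r ∧ (r : WithBot ℕ∞) ≤ topologicalKrullDim G.left := by
    intro S _ s _
    haveI : LocallyOfFiniteType S.hom := by rw [← Over.w s]; infer_instance
    haveI : QuasiCompact S.hom := by rw [← Over.w s]; infer_instance
    haveI : Nonempty S.left := ⟨η[S].left (IsLocalRing.closedPoint k)⟩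
    obtain ⟨r, hr⟩ := GrpQuotLib.exists_nat_dim (A := k) (F := S)
    exact ⟨r, hr, hr ▸ s.left.isClosedEmbedding.isEmbedding.toIsInducing.topologicalKrullDim_le⟩
  haveI : Nonempty G.left := ⟨η[G].left (IsLocalRing.closedPoint k)⟩
  obtain ⟨d, hd⟩ := GrpQuotLib.exists_nat_dim (A := k) (F := G)
  obtain ⟨T, _, i, hi, hic, hT, -⟩ := exists_absTorus G
  haveI := hic
  obtain ⟨r₀, hr₀, hr₀d⟩ := hdim T i
  have hne : P r₀ := ⟨T, inferInstance, i, hi, hic, isSA_torus hT, hr₀⟩
  have hb : r₀ ≤ d := by rw [hd] at hr₀d; exact_mod_cast hr₀d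
  obtain ⟨S, _, s, hs, hsc, hS, hr⟩ := Nat.findGreatest_spec (P := P) hb hne
  haveI := hs; haveI := hsc
  refine ⟨S, inferInstance, s, hs, hsc, hS, fun S' _ s' _ _ hS' => ?_⟩
  haveI : LocallyOfFiniteType S.hom := by rw [← Over.w s]; infer_instance
  haveI : QuasiCompact S.hom := by rw [← Over.w s]; infer_instance
  haveI : LocallyOfFiniteType S'.hom := by rw [← Over.w s']; infer_instance
  haveI : QuasiCompact S'.hom := by rw [← Over.w s']; infer_instance
  obtain ⟨E, _, e, he, hec, hE, ⟨g, hg⟩, g', hg'⟩ := exists_sum hS hS' s s'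
  haveI := he; haveI := hec
  haveI : LocallyOfFiniteType E.hom := by rw [← Over.w e]; infer_instance
  haveI : QuasiCompact E.hom := by rw [← Over.w e]; infer_instance
  haveI : IsClosedImmersion g.left := by
    haveI : IsClosedImmersion (g.left ≫ e.left) := by rw [← Over.comp_left, hg]; infer_instance
    exact IsClosedImmersion.of_comp g.left e.left
  haveI : IsIso g.left := by
    by_contra hni
    obtain ⟨rE, hrE, hrEd⟩ := hdim E e
    haveI := hE.props.1; haveI := hE.props.2; haveI := hS.props.1; haveI := hS.props.2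
    haveI : GeometricallyIntegral E.hom := AlbQuotLib.geometricallyIntegral E
    haveI : IsIntegral E.left := GeometricallyIntegral.isIntegral_of_subsingleton E.hom
    have h2 : rE ≤ d := by rw [hd] at hrEd; exact_mod_cast hrEd
    have h3 : rE ≤ Nat.findGreatest P d :=
      Nat.le_findGreatest h2 ⟨E, inferInstance, e, he, hec, hE, hrE⟩
    have h4 : Nat.findGreatest P d ≤ rE := by
      have := g.left.isClosedEmbedding.isEmbedding.toIsInducing.topologicalKrullDim_le
      rw [hr, hrE] at this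
      exact_mod_cast this
    refine hni (S10839.result g.left (by rw [hrE]; exact (WithBot.coe_injective.ne (ENat.coe_ne_top rE))) ?_)
    rw [hrE, hr, le_antisymm h4 h3]
  haveI : IsIso ((Over.forget _).map g) := ‹IsIso g.left›
  haveI : IsIso g := isIso_of_reflects_iso g (Over.forget _)
  exact ⟨g' ≫ inv g, by rw [Category.assoc, ← hg, IsIso.inv_hom_id_assoc, hg']⟩

end Groth.Agent.Chevalley.CommAff
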