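import Groth.Agent.Chevalley.CommAff.Complement

/-!
Fibre products of commutative groups.
-/

set_option autoImplicit false
set_option backward.isDefEq.respectTransparency false
set_option maxHeartbeats 1000000
set_option linter.style.haveILetI false
universe u
open CategoryTheory CategoryTheory.Limits AlgebraicGeometry MonoidalCategory CartesianMonoidalCategory
open scoped MonObj
open Groth.Agent.GrpSchLib

namespace Groth.Agent.Chevalley.CommAff

variable {k : Type u} [Field k]

theorem exists_fibre {G H R K : Over (Spec (CommRingCat.of k))} [GrpObj G] [GrpObj H] [GrpObj R] [GrpObj K]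
    [IsCommMonObj G] [IsCommMonObj H] [IsCommMonObj R] [LocallyOfFiniteType G.hom] [QuasiCompact G.hom]
    [LocallyOfFiniteType H.hom] [QuasiCompact H.hom] [LocallyOfFiniteType R.hom] [QuasiCompact R.hom]
    (r : G ⟶ R) [IsMonHom r] [Flat r.left] [Surjective r.left] (i : K ⟶ G) [IsMonHom i] [IsClosedImmersion i.left]
    (hk : AlgGrp.IsKernel i r) (j : H ⟶ R) [IsMonHom j] :
    ∃ (P : Over (Spec (CommRingCat.of k))) (_ : GrpObj P) (κ : P ⟶ G) (π : P ⟶ H) (i' : K ⟶ P),
      IsMonHom κ ∧ IsMonHom π ∧ IsMonHom i' ∧ IsPullback κ π r j ∧ Flat π.left ∧ Surjective π.left ∧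
      IsClosedImmersion i'.left ∧ i' ≫ κ = i ∧ AlgGrp.IsKernel i' π ∧ IsCommMonObj P ∧ LocallyOfFiniteType P.hom ∧
      QuasiCompact P.hom ∧ (IsClosedImmersion j.left → IsClosedImmersion κ.left) := by
  haveI := GrpSchLib.AntiAffine.isSeparated_grp R
  haveI := GrpSchLib.AntiAffine.isSeparated_grp G
  let φ : G ⊗ H ⟶ R := (fst G H ≫ r) * (snd G H ≫ j)⁻¹
  haveI : IsMonHom φ := LargeNormal.isMonHom_of_mul _ fun U a b => by
    simp only [φ, MonObj.comp_mul, GrpObj.comp_inv, ← Category.assoc]
    simp only [MonObj.mul_comp, mul_inv]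
    exact mul_mul_mul_comm _ _ _ _
  haveI : LocallyOfFiniteType (G ⊗ H).hom :=
    inferInstanceAs (LocallyOfFiniteType (pullback.fst G.hom H.hom ≫ G.hom))
  haveI : QuasiCompact (G ⊗ H).hom :=
    inferInstanceAs (QuasiCompact (pullback.fst G.hom H.hom ≫ G.hom))
  obtain ⟨P, _, incl, hi0, hic0, -, hP⟩ := GrpSchLib.exists_kernel φ
  haveI := hi0; haveI := hic0
  haveI : Mono incl := Over.mono_of_mono_left _
  let κ : P ⟶ G := incl ≫ fst G H
  let π : P ⟶ H := incl ≫ snd G H
  have hpb : IsPullback κ π r j := by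
    refine ⟨⟨?_⟩, ⟨PullbackCone.IsLimit.mk _ (fun c => hP.lift (lift c.fst c.snd) (toUnit _) ?_)
      (fun c => ?_) (fun c => ?_) (fun c m h1 h2 => ?_)⟩⟩
    · have h := hP.w
      rw [MonObj.comp_mul, GrpObj.comp_inv, ← Hom.one_def, mul_inv_eq_one] at h
      simpa only [κ, π, Category.assoc] using h
    · rw [MonObj.comp_mul, GrpObj.comp_inv, lift_fst_assoc, lift_snd_assoc, c.condition, mul_inv_cancel, Hom.one_def]
    · show _ ≫ incl ≫ fst G H = _
      rw [hP.lift_fst_assoc, lift_fst]
    · show _ ≫ incl ≫ snd G H = _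
      rw [hP.lift_fst_assoc, lift_snd]
    · refine hP.hom_ext ?_ (toUnit_unique _ _)
      rw [hP.lift_fst]
      apply CartesianMonoidalCategory.hom_ext
      · rw [lift_fst, Category.assoc]; exact h1
      · rw [lift_snd, Category.assoc]; exact h2
  have hl := hpb.map (Over.forget _)
  haveI : IsMonHom κ := inferInstance
  haveI : IsMonHom π := inferInstance
  haveI : Flat π.left := MorphismProperty.of_isPullback (P := @Flat) hl (show Flat r.left from inferInstance)
  haveI : Surjective π.left := MorphismProperty.of_isPullback (P := @Surjective) hl (show Surjective r.left from inferInstance)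
  let i' : K ⟶ P := hpb.lift i 1 (by rw [hk.w, MonObj.one_comp, Hom.one_def])
  have hi'1 : i' ≫ κ = i := hpb.lift_fst _ _ _
  have hi'2 : i' ≫ π = 1 := hpb.lift_snd _ _ _
  haveI : IsMonHom i' := LargeNormal.isMonHom_of_mul _ fun U a b => by
    apply hpb.hom_ext
    · rw [Category.assoc, hi'1, MonObj.mul_comp, MonObj.mul_comp, Category.assoc, Category.assoc, hi'1]
    · simp only [MonObj.mul_comp, Category.assoc, hi'2, MonObj.comp_one, _root_.one_mul]
  haveI : LocallyOfFiniteType P.hom := by rw [← Over.w incl]; infer_instance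
  haveI : QuasiCompact P.hom := by rw [← Over.w incl]; infer_instance
  haveI := GrpSchLib.AntiAffine.isSeparated_grp P
  haveI : IsSeparated (κ.left ≫ G.hom) := by rw [Over.w κ]; infer_instance
  haveI : IsSeparated κ.left := IsSeparated.of_comp κ.left G.hom
  haveI : IsClosedImmersion i'.left := by
    haveI : IsClosedImmersion (i'.left ≫ κ.left) := by rw [← Over.comp_left, hi'1]; infer_instance
    exact IsClosedImmersion.of_comp i'.left κ.left
  haveI : Mono i := Over.mono_of_mono_left _
  refine ⟨P, inferInstance, κ, π, i', inferInstance, inferInstance, inferInstance, hpb, inferInstance, inferInstance,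
    inferInstance, hi'1, ?_, BC.isCommMonObj_of_mono incl fun U a b => mul_comm _ _, inferInstance, inferInstance,
    fun hj => MorphismProperty.of_isPullback (P := @IsClosedImmersion) hl.flip hj⟩
  refine ⟨⟨by rw [hi'2, Hom.one_def]⟩, ⟨PullbackCone.IsLimit.mk _ (fun c => hk.lift (c.fst ≫ κ) (toUnit _) ?_)
    (fun c => ?_) (fun c => toUnit_unique _ _) (fun c m h1 _ => ?_)⟩⟩
  · rw [Category.assoc, hpb.w, ← Category.assoc, show c.fst ≫ π = c.snd ≫ η[H] from c.condition, Category.assoc,
      IsMonHom.one_hom j, toUnit_unique c.snd (toUnit _)]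
  · apply hpb.hom_ext
    · rw [Category.assoc, hi'1, hk.lift_fst]
    · rw [Category.assoc, hi'2, MonObj.comp_one, show c.fst ≫ π = c.snd ≫ η[H] from c.condition,
        toUnit_unique c.snd (toUnit _), Hom.one_def]
  · rw [← cancel_mono i, hk.lift_fst, ← h1, Category.assoc, hi'1]

end Groth.Agent.Chevalley.CommAff
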