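import Groth.Agent.Chevalley.CommAff.TorusImage
import Groth.Agent.Chevalley.CommAff.Fibre
import Groth.Agent.GrpSchLib.AffToProper

/-!
The torus absorbing all tori of a commutative group, and the quotient by it.
-/

set_option autoImplicit false
set_option backward.isDefEq.respectTransparency false
set_option maxHeartbeats 1000000
set_option linter.style.haveILetI false
universe u
open CategoryTheory CategoryTheory.Limits AlgebraicGeometry MonoidalCategory CartesianMonoidalCategory
open scoped MonObj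
open Groth.Agent.GrpSchLib

namespace Groth.Agent.Chevalley.CommAff

variable {k : Type u} [Field k]

/-- Every homomorphism from a torus is trivial. -/
def NoTorus (Q : Over (Spec (CommRingCat.of k))) [GrpObj Q] : Prop :=
  ∀ (T : Over (Spec (CommRingCat.of k))) [GrpObj T] (j : T ⟶ Q) [IsMonHom j], Red.IsTorus T → j = 1

theorem Absorbs.factor {T L : Over (Spec (CommRingCat.of k))} [GrpObj T] [GrpObj L] {i : T ⟶ L} (h : Absorbs i)
    {T' : Over (Spec (CommRingCat.of k))} [GrpObj T'] (hT' : Red.IsTorus T') (j : T' ⟶ L) [IsMonHom j] :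
    ∃ g : T' ⟶ T, g ≫ i = j := by
  let φ : Spec (CommRingCat.of k) ⟶ Spec (CommRingCat.of k) := Spec.map (CommRingCat.ofHom (RingHom.id k))
  have hφ : φ = 𝟙 _ := Spec.map_id _
  haveI : IsIso φ := by rw [hφ]; infer_instance
  have hbc : Red.IsTorus (Red.bc φ T') := by
    obtain ⟨S', f, a1, a2, a3, a4⟩ := hT'
    refine ⟨S', f, a1, a2, a3, fun s' => ?_⟩
    obtain ⟨U, hU, r, ⟨e⟩⟩ := a4 s'
    obtain ⟨e₁⟩ := GrpSchLib.MultTypeBC.bc_bc (U.ι ≫ f) φ T'
    obtain ⟨e₂⟩ := GrpSchLib.MultTypeBC.bc_congr (show (U.ι ≫ f) ≫ φ = U.ι ≫ f by rw [hφ, Category.comp_id]) T'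
    exact ⟨U, hU, r, ⟨e₁ ≪≫ e₂ ≪≫ e⟩⟩
  obtain ⟨g, hg⟩ := h k (RingHom.id k) (Red.bc φ T') hbc ((Over.pullback φ).map j) inferInstance
  refine ⟨Over.homMk (inv (pullback.fst T'.hom φ) ≫ g.left ≫ pullback.fst T.hom φ) ?_, ?_⟩
  · rw [Category.assoc, Category.assoc, IsIso.inv_comp_eq, pullback.condition, pullback.condition]
    exact (Category.assoc _ _ _).symm.trans (congrArg (· ≫ φ) (Over.w g))
  · refine Over.OverMorphism.ext ?_
    show (inv (pullback.fst T'.hom φ) ≫ g.left ≫ pullback.fst T.hom φ) ≫ i.left = j.left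
    rw [Category.assoc, Category.assoc, IsIso.inv_comp_eq, ← LargeNormal.map_fst, ← LargeNormal.map_fst]
    exact congrArg (fun m => m.left ≫ pullback.fst L.hom φ) hg

/-- A commutative group has a closed torus absorbing all tori. -/
theorem exists_absTorus (G : Over (Spec (CommRingCat.of k))) [GrpObj G] [IsCommMonObj G] [LocallyOfFiniteType G.hom]
    [QuasiCompact G.hom] :
    ∃ (T : Over (Spec (CommRingCat.of k))) (_ : GrpObj T) (i : T ⟶ G), IsMonHom i ∧ IsClosedImmersion i.left ∧
      Red.IsTorus T ∧ Absorbs i := by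
  obtain ⟨N, _, j, Q, _, q, ⟨hj, hjc, -, hNa, hq, hqs, hqf, hkq, hQp⟩, -, -⟩ := BC.exists_smallest_quot G
  haveI := hj; haveI := hjc; haveI : IsAffine N.left := hNa
  haveI := hq; haveI := hQp
  haveI := isCommMonObj_sub j
  haveI : LocallyOfFiniteType N.hom := by rw [← Over.w j]; infer_instance
  obtain ⟨T, _, iT, hiT, hiTc, hT, habs, -⟩ := exists_maxTorus N
  haveI := hiT; haveI := hiTc
  refine ⟨T, inferInstance, iT ≫ j, inferInstance, by rw [Over.comp_left]; infer_instance, hT, ?_⟩
  intro K _ φ T' _ hT' f hf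
  haveI := hf
  let φs := Spec.map (CommRingCat.ofHom φ)
  obtain ⟨h1, h2, h3, -, -⟩ := torus_props hT'
  haveI : IsProper (Red.bc φs Q).hom := MorphismProperty.pullback_snd (P := @IsProper) Q.hom φs inferInstance
  have h0 : f ≫ (Over.pullback φs).map q = 1 := GrpSchLib.AffToProper.hom_eq_one _
  have hpb := hkq.map (Over.pullback φs)
  have h1 : f ≫ (Over.pullback φs).map q = (f ≫ (Over.pullback φs).map (toUnit G)) ≫ (Over.pullback φs).map η[Q] := by
    have e : (Over.pullback φs).map (1 : G ⟶ Q) = 1 := map_one ((Over.pullback φs).homMonoidHom)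
    rw [Category.assoc, ← Functor.map_comp, ← Hom.one_def, e, MonObj.comp_one, h0]
  let f' := hpb.lift f _ h1
  have hf' : f' ≫ (Over.pullback φs).map j = f := hpb.lift_fst _ _ _
  haveI : Mono ((Over.pullback φs).map j) := by
    haveI : Mono j := Over.mono_of_mono_left _
    infer_instance
  have hf'm : IsMonHom f' := LargeNormal.isMonHom_of_mul _ fun U a b => by
    rw [← cancel_mono ((Over.pullback φs).map j), Category.assoc, hf', MonObj.mul_comp, MonObj.mul_comp,
      Category.assoc, Category.assoc, hf']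
  obtain ⟨g, hg⟩ := habs K φ T' hT' f' hf'm
  exact ⟨g, by rw [Functor.map_comp, ← Category.assoc, hg, hf']⟩

theorem epi_of_cover {X Y : Over (Spec (CommRingCat.of k))} [GrpObj Y] [LocallyOfFiniteType X.hom]
    [QuasiCompact X.hom] [LocallyOfFiniteType Y.hom] (f : X ⟶ Y) [Flat f.left] [Surjective f.left] : Epi f := by
  haveI := GrpSchLib.AntiAffine.isSeparated_grp Y
  haveI : QuasiCompact (f.left ≫ Y.hom) := by rw [Over.w f]; infer_instance
  haveI : QuasiCompact f.left := QuasiCompact.of_comp f.left Y.hom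
  haveI : Epi f.left := Flat.epi_of_flat_of_surjective _
  exact (Over.forget _).epi_of_epi_map (inferInstanceAs (Epi f.left))

theorem epi_pow_torus {T : Over (Spec (CommRingCat.of k))} [GrpObj T] (hT : Red.IsTorus T) {n : ℕ} (hn : 0 < n) :
    Epi ((𝟙 T) ^ n) := by
  obtain ⟨h1, h2, h3, h4, h5⟩ := torus_props hT
  haveI := surjective_pow_torus hT hn
  haveI := GrpSchLib.AntiAffine.isSeparated_grp T
  haveI := isMonHom_pow T n
  haveI : AlgebraicGeometry.IsReduced T.left := GrpSchLib.isReduced_of_smooth_field T.hom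
  haveI : QuasiCompact (((𝟙 T) ^ n).left ≫ T.hom) := by rw [Over.w]; infer_instance
  haveI : QuasiCompact ((𝟙 T) ^ n).left := QuasiCompact.of_comp _ T.hom
  haveI := GrpSchLib.flat_of_surjective_hom ((𝟙 T) ^ n)
  exact epi_of_cover ((𝟙 T) ^ n)

theorem epi_of_surjective_torus {T X : Over (Spec (CommRingCat.of k))} [GrpObj T] [GrpObj X] (hT : Red.IsTorus T)
    [LocallyOfFiniteType X.hom] [QuasiCompact X.hom] (f : X ⟶ T) [IsMonHom f] [Surjective f.left] : Flat f.left ∧ Epi f := by
  obtain ⟨h1, h2, h3, h4, h5⟩ := torus_props hT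
  haveI := GrpSchLib.AntiAffine.isSeparated_grp T
  haveI : AlgebraicGeometry.IsReduced T.left := GrpSchLib.isReduced_of_smooth_field T.hom
  haveI : QuasiCompact (f.left ≫ T.hom) := by rw [Over.w]; infer_instance
  haveI : QuasiCompact f.left := QuasiCompact.of_comp _ T.hom
  haveI := GrpSchLib.flat_of_surjective_hom f
  exact ⟨inferInstance, epi_of_cover f⟩

theorem torus_pow_eq_one {T : Over (Spec (CommRingCat.of k))} [GrpObj T] (hT : Red.IsTorus T) {n : ℕ} (hn : 0 < n)
    (h : (𝟙 T) ^ n = 1) : 𝟙 T = (1 : T ⟶ T) := by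
  haveI := epi_pow_torus hT hn
  haveI := (torus_props hT).2.2.2.1
  haveI := isMonHom_pow T n
  rw [← cancel_epi ((𝟙 T) ^ n), MonObj.comp_one, Category.comp_id, h]

variable {G Q T : Over (Spec (CommRingCat.of k))} [GrpObj G] [GrpObj Q] [GrpObj T] [IsCommMonObj G]
  [LocallyOfFiniteType G.hom] [QuasiCompact G.hom] [LocallyOfFiniteType Q.hom] [QuasiCompact Q.hom]

/-- The quotient by the absorbing torus has no tori. -/
theorem noTorus_quot (i : T ⟶ G) [IsMonHom i] [IsClosedImmersion i.left] (hT : Red.IsTorus T) (habs : Absorbs i)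
    (q : G ⟶ Q) [IsMonHom q] [Flat q.left] [Surjective q.left] (hk : AlgGrp.IsKernel i q) : NoTorus Q := by
  intro T₁ _ j _ hT₁
  haveI := isCommMonObj_of_cover q
  obtain ⟨h1, h2, h3, h4, h5⟩ := torus_props hT₁
  obtain ⟨I, _, p, b, hp, hb, hpb, hbc, hpf, hps, hIl, hIq⟩ := GrpSchLib.ImageFactor.exists_image j
  haveI := hp; haveI := hb; haveI := hbc; haveI := hpf; haveI := hps; haveI := hIl; haveI := hIq
  suffices hI : 𝟙 I = (1 : I ⟶ I) by rw [← hpb, ← Category.id_comp b, hI, MonObj.one_comp, MonObj.comp_one]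
  haveI := GrpSchLib.AntiAffine.isSeparated_grp I
  haveI : IsAffine I.left := by
    obtain ⟨K, _, κ, hκ, hκc, hκn, hkκ⟩ := GrpSchLib.exists_kernel (Q := I) p
    haveI := hκ; haveI := hκc
    haveI : LocallyOfFiniteType T₁.hom := inferInstance
    obtain ⟨Q', _, q', hq', hQ'a, hQ'l, hq's, hq'f, hk'⟩ := S3278.result k T₁ K κ hκn
    haveI := hq'; haveI := hQ'a; haveI := hQ'l; haveI := hq's; haveI := hq'f
    haveI : QuasiCompact Q'.hom := inferInstance
    obtain ⟨u, hu, hqu, -⟩ := S3280.result k T₁ K Q' I q' κ hk' p (by rw [hkκ.w])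
    obtain ⟨v, hv, hpv, -⟩ := S3280.result k T₁ K I Q' p κ hkκ q' (by rw [hk'.w])
    haveI := epi_of_cover q'; haveI := epi_of_cover p
    haveI : IsIso v := ⟨u, by rw [← cancel_epi p, reassoc_of% hpv, hqu, Category.comp_id],
      by rw [← cancel_epi q', reassoc_of% hqu, hpv, Category.comp_id]⟩
    haveI : IsIso v.left := inferInstanceAs (IsIso ((Over.forget _).map v))
    exact IsAffine.of_isIso v.left
  have hTI : Red.IsTorus I := isTorus_image hT₁ p
  haveI : IsCommMonObj I := (torus_props hTI).2.2.2.1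
  obtain ⟨P, _, κ, π, i', hκ, hπ, hi', hP, hπf, hπs, hi'c, hi'κ, hkP, hPc, hPl, hPq, hκc⟩ :=
    exists_fibre q i hk b
  haveI := hκ; haveI := hπ; haveI := hi'; haveI := hπf; haveI := hπs; haveI := hi'c; haveI := hPl; haveI := hPq
  haveI := hκc inferInstance
  haveI : Mono κ := Over.mono_of_mono_left _
  haveI : Mono b := Over.mono_of_mono_left _
  haveI : IsAffine P.left := by
    obtain ⟨-, hTa, -, -, -⟩ := torus_props hT
    haveI := GrpSchLib.AntiAffine.isSeparated_grp I
    haveI : QuasiCompact (π.left ≫ I.hom) := by rw [Over.w]; infer_instance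
    haveI : QuasiCompact π.left := QuasiCompact.of_comp π.left I.hom
    haveI := EtFound.fpqc_isAffineHom.{u}
    haveI : IsAffineHom π.left := S7982.property_of_kernel i' π hkP @IsAffineHom inferInstance
    exact isAffine_of_isAffineHom π.left
  obtain ⟨N, hN, hkill⟩ := pow_eq_one_of_kills_tori hTI π fun T' _ t _ hT' => by
    obtain ⟨g, hg⟩ := habs.factor hT' (t ≫ κ)
    rw [← cancel_mono b, Category.assoc, ← hP.w, ← Category.assoc, ← hg, Category.assoc, hk.w, ← Category.assoc,
      comp_toUnit, MonObj.one_comp, Hom.one_def]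
  refine torus_pow_eq_one hTI hN ?_
  haveI := epi_of_cover π
  rw [← cancel_epi π, BC.comp_pow, Category.comp_id, hkill, MonObj.comp_one]

/-- Dividing by a proper subgroup creates no tori. -/
theorem NoTorus.quot_proper (hG : NoTorus G) {B : Over (Spec (CommRingCat.of k))} [GrpObj B] (b : B ⟶ G) [IsMonHom b]
    [IsClosedImmersion b.left] [IsProper B.hom] (r : G ⟶ Q) [IsMonHom r] [Flat r.left] [Surjective r.left]
    (hk : AlgGrp.IsKernel b r) : NoTorus Q := by
  intro T₁ _ j _ hT₁
  haveI := isCommMonObj_of_cover r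
  obtain ⟨h1, h2, h3, h4, h5⟩ := torus_props hT₁
  obtain ⟨P, _, κ, π, i', hκ, hπ, hi', hP, hπf, hπs, hi'c, hi'κ, hkP, hPc, hPl, hPq, -⟩ := exists_fibre r b hk j
  haveI := hκ; haveI := hπ; haveI := hi'; haveI := hπf; haveI := hπs; haveI := hi'c; haveI := hPl; haveI := hPq
  obtain ⟨N, _, n, QP, _, qP, ⟨hn, hnc, -, hNa, hqP, hqPs, hqPf, hkN, hQPp⟩, -, -⟩ := BC.exists_smallest_quot P
  haveI := hn; haveI := hnc; haveI : IsAffine N.left := hNa; haveI := hqP; haveI := hqPs; haveI := hqPf; haveI := hQPp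
  haveI : LocallyOfFiniteType N.hom := by rw [← Over.w n]; infer_instance
  haveI := GrpSchLib.AntiAffine.isSeparated_grp T₁
  haveI := GrpSchLib.AntiAffine.isSeparated_grp P
  haveI : QuasiCompact N.hom := by rw [← Over.w n]; infer_instance
  haveI := isCommMonObj_sub n
  haveI : Surjective (n ≫ π).left := by
    obtain ⟨I, _, p, ι₀, hp, hι₀, hpι, hιc, -, hps, hIl, hIq⟩ := GrpSchLib.ImageFactor.exists_image (n ≫ π)
    haveI := hp; haveI := hι₀; haveI := hιc; haveI := hps
    haveI : Mono ι₀ := Over.mono_of_mono_left _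
    obtain ⟨C, _, c, hc, hCa, hCl, hcs, hcf, hkC⟩ := S3278.result k T₁ I ι₀ (isNormal_of_comm ι₀)
    haveI := hc; haveI := hCa; haveI := hCl; haveI := hcs; haveI := hcf
    haveI : QuasiCompact C.hom := inferInstance
    obtain ⟨u, hu, hqu, -⟩ := S3280.result k P N QP C qP n hkN (π ≫ c) (by
      rw [← Category.assoc, ← hpι, Category.assoc, hkC.w, ← Category.assoc, comp_toUnit])
    haveI := hu
    haveI := GrpSchLib.AntiAffine.isSeparated_grp C
    haveI : Surjective u.left := by
      haveI : Surjective (qP.left ≫ u.left) := by rw [← Over.comp_left, hqu, Over.comp_left]; infer_instance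
      exact Surjective.of_comp qP.left u.left
    haveI : IsProper C.hom := BC.isProper_of_surjective u
    have hc1 : c = 1 := GrpSchLib.AffToProper.hom_eq_one c
    haveI : Surjective ι₀.left := BC.surjective_of_quot_eq_one ι₀ c hkC hc1
    rw [← hpι, Over.comp_left]
    infer_instance
  obtain ⟨hnπf, hnπe⟩ := epi_of_surjective_torus hT₁ (n ≫ π)
  obtain ⟨F, _, f, hf, hfc, -, hkF⟩ := GrpSchLib.exists_kernel (n ≫ π)
  haveI := hf; haveI := hfc
  haveI : IsFinite F.hom := by
    let z : F ⟶ B := hkP.lift (f ≫ n) (toUnit F) (by rw [Category.assoc, hkF.w])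
    have hz : z ≫ i' = f ≫ n := hkP.lift_fst _ _ _
    haveI : IsClosedImmersion z.left := by
      haveI : IsClosedImmersion (z.left ≫ i'.left) := by rw [← Over.comp_left, hz, Over.comp_left]; infer_instance
      exact IsClosedImmersion.of_comp z.left i'.left
    haveI : IsProper F.hom := by rw [← Over.w z]; infer_instance
    haveI : IsAffine F.left := isAffine_of_isAffineHom f.left
    exact IsFinite.iff_isProper_and_isAffineHom.mpr ⟨inferInstance, inferInstance⟩
  haveI := isCommMonObj_sub f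
  obtain ⟨m, hm, hkm⟩ := exists_exponent_finite F
  haveI := isMonHom_pow N m
  obtain ⟨u, hu, hpu, -⟩ := S3280.result k N F T₁ N (n ≫ π) f hkF ((𝟙 N) ^ m) (by
    rw [BC.comp_pow, Category.comp_id, show f ^ m = ((𝟙 F) ^ m) ≫ f by rw [BC.pow_comp, Category.id_comp], hkm,
      MonObj.one_comp, Hom.one_def])
  haveI := hu
  have hu2 : (u ≫ n) ≫ π = (𝟙 T₁) ^ m := by
    haveI := hnπe
    rw [← cancel_epi (n ≫ π), Category.assoc u, ← Category.assoc _ u, hpu, BC.pow_comp, Category.id_comp,
      BC.comp_pow, Category.comp_id]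
  have hu1 : (u ≫ n) ≫ κ = 1 := hG T₁ _ hT₁
  have h := congrArg (fun x => (u ≫ n) ≫ x) hP.w
  simp only [← Category.assoc, hu1, hu2, MonObj.one_comp] at h
  haveI := epi_pow_torus hT₁ hm
  rw [← cancel_epi ((𝟙 T₁) ^ m), ← h, MonObj.comp_one]

end Groth.Agent.Chevalley.CommAff
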