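import Groth.Agent.Chevalley.CommAff.Finite
import Groth.Agent.GrpSchLib.AffToProper
import Groth.Agent.GrpSchLib.AntiAffineQuot
import Groth.Agent.GrpSchLib.QuotAffine
import Groth.Agent.GrpSchLib.Cartier
import Groth.Agent.GrpSchLib.AntiAffineRosenlicht

/-!
Tools for anti-affine groups.
-/

set_option autoImplicit false
set_option backward.isDefEq.respectTransparency false
set_option maxHeartbeats 1000000
set_option linter.style.haveILetI false
universe u
open CategoryTheory CategoryTheory.Limits AlgebraicGeometry MonoidalCategory CartesianMonoidalCategory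
open scoped MonObj

namespace Groth.Agent.Chevalley.CommAff

variable {k : Type u} [Field k]

theorem appTop_bijective {M : Over (Spec (CommRingCat.of k))}
    (hM : Function.Bijective ((Scheme.ΓSpecIso (CommRingCat.of k)).inv ≫ M.hom.appTop).hom) :
    Function.Bijective M.hom.appTop := by
  have h2 : Function.Bijective (Scheme.ΓSpecIso (CommRingCat.of k)).inv.hom :=
    ConcreteCategory.bijective_of_isIso (Scheme.ΓSpecIso (CommRingCat.of k)).inv
  rw [CommRingCat.hom_comp, RingHom.coe_comp] at hM
  exact (Function.Bijective.of_comp_iff _ h2).mp hM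

/-- The image of an affine group in a proper group is finite. -/
theorem finite_range {P B : Over (Spec (CommRingCat.of k))} [GrpObj P] [GrpObj B] [LocallyOfFiniteType P.hom]
    [IsAffine P.left] [IsProper B.hom] (f : P ⟶ B) [IsMonHom f] : (Set.range f.left).Finite := by
  haveI : QuasiCompact P.hom := inferInstance
  obtain ⟨I, _, p, i, hp, hi, hpi, hic, hpf, hps, hIl, hIq⟩ := GrpSchLib.ImageFactor.exists_image f
  haveI := hp; haveI := hi; haveI := hic; haveI := hpf; haveI := hps; haveI := hIl; haveI := hIq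
  haveI : IsAffine I.left := GrpSchLib.isAffine_of_quotient p
  haveI : IsProper I.hom := by rw [← Over.w i]; infer_instance
  haveI : IsAffineHom I.hom := inferInstance
  haveI : IsFinite I.hom := (IsFinite.iff_isProper_and_isAffineHom (f := I.hom)).mpr ⟨inferInstance, inferInstance⟩
  haveI := discrete_of_finite I
  haveI : CompactSpace I.left := (quasiCompact_iff_compactSpace I.hom).mp inferInstance
  haveI : Finite I.left := finite_of_compact_of_discrete
  refine (Set.finite_range i.left).subset ?_
  rintro _ ⟨x, rfl⟩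
  exact ⟨p.left x, by rw [← hpi]; rfl⟩

theorem isTrivialGrp_of_id_eq_one (H : Over (Spec (CommRingCat.of k))) [GrpObj H] (h : 𝟙 H = (1 : H ⟶ H)) :
    Red.IsTrivialGrp H := by
  haveI : IsIso (toUnit H) := ⟨η[H], by rw [h, Hom.one_def], toUnit_unique _ _⟩
  haveI : IsIso (toUnit H).left := inferInstanceAs (IsIso ((Over.forget _).map (toUnit H)))
  exact inferInstanceAs (IsIso (toUnit H).left)

theorem id_eq_one_of_isTrivialGrp {H : Over (Spec (CommRingCat.of k))} [GrpObj H] (h : Red.IsTrivialGrp H) :
    𝟙 H = (1 : H ⟶ H) := by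
  haveI : IsIso H.hom := h
  apply Over.OverMorphism.ext
  rw [← cancel_mono H.hom, Over.w (1 : H ⟶ H)]
  exact Over.w (𝟙 H)

/-- A subgroup surjecting to the quotient and the kernel together cover the group. -/
theorem surjective_mul_of_surjective {G N M A : Over (Spec (CommRingCat.of k))} [GrpObj G] [GrpObj A]
    (i : N ⟶ G) (q : G ⟶ A) [IsMonHom q] (hq : AlgGrp.IsKernel i q) (j : M ⟶ G) [Surjective (j ≫ q).left] :
    Surjective ((i ⊗ₘ j) ≫ μ[G]).left := by
  let P : Over (Spec (CommRingCat.of k)) := Over.mk (pullback.fst q.left (j ≫ q).left ≫ G.hom)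
  let x : P ⟶ G := Over.homMk (pullback.fst q.left (j ≫ q).left) rfl
  let y : P ⟶ M := Over.homMk (pullback.snd q.left (j ≫ q).left) (by
    show _ = pullback.fst q.left (j ≫ q).left ≫ G.hom
    rw [← Over.w q, pullback.condition_assoc, Over.w (j ≫ q)])
  have hxy : x ≫ q = y ≫ j ≫ q := Over.OverMorphism.ext pullback.condition
  let n := hq.lift (x * (y ≫ j)⁻¹) (toUnit P) (by
    rw [MonObj.mul_comp, GrpObj.inv_comp, Category.assoc, hxy, mul_inv_cancel, Hom.one_def])
  have hn : lift n y ≫ (i ⊗ₘ j) ≫ μ[G] = x := by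
    rw [← Category.assoc, lift_map, ← Hom.mul_def, hq.lift_fst, inv_mul_cancel_right]
  haveI : Surjective ((lift n y).left ≫ ((i ⊗ₘ j) ≫ μ[G]).left) := by
    rw [← Over.comp_left, hn]
    exact inferInstanceAs (Surjective (pullback.fst q.left (j ≫ q).left))
  exact Surjective.of_comp (lift n y).left ((i ⊗ₘ j) ≫ μ[G]).left

/-- Maps from the product with an anti-affine scheme to an affine scheme do not depend on the anti-affine factor. -/
theorem eq_of_antiAffine_prod {X Y Z : Over (Spec (CommRingCat.of k))} [QuasiCompact X.hom] [QuasiSeparated X.hom]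
    (hX : Function.Bijective X.hom.appTop) [IsAffine Z.left] (c : X ⊗ Y ⟶ Z)
    (x₀ : 𝟙_ (Over (Spec (CommRingCat.of k))) ⟶ X) :
    c = snd X Y ≫ lift (toUnit Y ≫ x₀) (𝟙 Y) ≫ c := by
  let s := (lift (toUnit Y ≫ x₀) (𝟙 Y)).left
  have hp : Function.Bijective (snd X Y).left.appTop := GrpSchLib.AntiAffine.bijective_appTop_snd hX Y.hom
  have hw : (snd X Y).left.appTop ≫ s.appTop = 𝟙 _ := by
    rw [← Scheme.Hom.comp_appTop, ← Over.comp_left, lift_snd]
    rfl
  refine Over.OverMorphism.ext (ext_of_isAffine ?_)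
  ext z
  obtain ⟨d, hd⟩ := hp.2 (c.left.appTop z)
  show c.left.appTop z = (snd X Y).left.appTop (s.appTop (c.left.appTop z))
  have h2 : s.appTop ((snd X Y).left.appTop d) = d := congr($hw d)
  rw [← hd, h2]

end Groth.Agent.Chevalley.CommAff
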