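import Groth.Agent.Chevalley.CommAff.SemiAb
import Groth.Agent.TorusBilin.Central
import Groth.Agent.S5430
import Groth.Agent.H23.CubeField
import Groth.Agent.GrpSchLib.AntiAffineHom

/-!
Semi-abelian varieties are commutative.
-/

set_option autoImplicit false
set_option backward.isDefEq.respectTransparency false
set_option maxHeartbeats 1000000
set_option linter.style.haveILetI false
universe u
open CategoryTheory CategoryTheory.Limits AlgebraicGeometry MonoidalCategory CartesianMonoidalCategory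
open scoped MonObj
open Groth.Agent.GrpSchLib

namespace Groth.Agent.Chevalley.CommAff

variable {k : Type u} [Field k]

theorem IsSA.isCommMonObj {G : Over (Spec (CommRingCat.of k))} [GrpObj G] [LocallyOfFiniteType G.hom]
    [QuasiCompact G.hom] (h : IsSA G) : IsCommMonObj G := by
  obtain ⟨T, _, i, A, _, q, hi, hic, hT, hq, hqs, hqf, hk, hAp, hAs, hAc⟩ := h
  haveI := hi; haveI := hic; haveI := hq; haveI := hqs; haveI := hqf; haveI := hAp; haveI := hAs; haveI := hAc
  obtain ⟨h1, h2, h3, h4, h5⟩ := torus_props hT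
  haveI := GrpSchLib.AntiAffine.isSeparated_grp A
  haveI : QuasiCompact (q.left ≫ A.hom) := by rw [Over.w q]; infer_instance
  haveI : QuasiCompact q.left := QuasiCompact.of_comp q.left A.hom
  haveI : GeometricallyIntegral A.hom := AlbQuotLib.geometricallyIntegral A
  haveI : IsCommMonObj A := isCommMonObj_of_isProper_of_geometricallyIntegral A
  have hcen := S5430.result _ G T A q i hk (RankOne.isMultTypeFT_of_isTorus hT) (fun s => by
    rw [show A.hom.base ⁻¹' {s} = Set.univ from Set.eq_univ_of_forall fun x => Subsingleton.elim (α := PrimeSpectrum k) _ _]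
    exact connectedSpace_iff_univ.mp hAc)
  have hc : ∀ (X : Over (Spec (CommRingCat.of k))) (z x : X ⟶ G), z ≫ q = 1 → z * x = x * z := by
    intro X z x hz
    have hz' : z ≫ q = toUnit X ≫ η[A] := by rw [hz, Hom.one_def]
    have := hcen X (hk.lift z (toUnit X) hz') x
    rwa [hk.lift_fst] at this
  let c : G ⊗ G ⟶ G := fst G G * snd G G * (fst G G)⁻¹ * (snd G G)⁻¹
  have hc' : ∀ (X : Over (Spec (CommRingCat.of k))) (x y : X ⟶ G), lift x y ≫ c = x * y * x⁻¹ * y⁻¹ := by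
    intro X x y
    simp only [c, MonObj.comp_mul, GrpObj.comp_inv, lift_fst, lift_snd]
  let qq : G ⊗ G ⟶ A ⊗ A := q ⊗ₘ q
  have h6 : (@Flat ⊓ @Surjective ⊓ @QuasiCompact : MorphismProperty Scheme.{u}) q.left := ⟨⟨‹_›, ‹_›⟩, ‹_›⟩
  have hqq : (@Flat ⊓ @Surjective ⊓ @QuasiCompact : MorphismProperty Scheme.{u}) qq.left := by
    simp only [qq, MonoidalCategory.tensorHom_def, Over.comp_left]
    exact MorphismProperty.comp_mem _ _ _
      (MorphismProperty.of_isPullback ((FpqcDescLib.isPullback_whiskerRight q G).map (Over.forget _)).flip h6)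
      (MorphismProperty.of_isPullback ((FpqcDescLib.isPullback_whiskerLeft q A).map (Over.forget _)).flip h6)
  haveI : Flat qq.left := hqq.1.1
  haveI : Surjective qq.left := hqq.1.2
  haveI : QuasiCompact qq.left := hqq.2
  have hdesc : ∀ {Z : Scheme.{u}} (g₁ g₂ : Z ⟶ (G ⊗ G).left), g₁ ≫ qq.left = g₂ ≫ qq.left →
      g₁ ≫ c.left = g₂ ≫ c.left := by
    intro Z g₁ g₂ hg
    let Z' : Over (Spec (CommRingCat.of k)) := Over.mk (g₁ ≫ (G ⊗ G).hom)
    let a₁ : Z' ⟶ G ⊗ G := Over.homMk g₁ rfl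
    let a₂ : Z' ⟶ G ⊗ G := Over.homMk g₂ (by
      show g₂ ≫ _ = g₁ ≫ _
      rw [← Over.w qq, ← Category.assoc, ← Category.assoc, hg])
    have ha : a₁ ≫ qq = a₂ ≫ qq := Over.OverMorphism.ext hg
    suffices e : a₁ ≫ c = a₂ ≫ c from congrArg (fun m => m.left) e
    have e1 := congrArg (· ≫ fst A A) ha
    have e2 := congrArg (· ≫ snd A A) ha
    simp only [qq, Category.assoc, tensorHom_fst, tensorHom_snd] at e1 e2
    rw [show a₁ = lift (a₁ ≫ fst G G) (a₁ ≫ snd G G) by ext <;> simp,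
      show a₂ = lift (a₂ ≫ fst G G) (a₂ ≫ snd G G) by ext <;> simp, hc', hc']
    have hz₁ : (a₁ ≫ fst G G * (a₂ ≫ fst G G)⁻¹) ≫ q = 1 := by
      rw [MonObj.mul_comp, GrpObj.inv_comp, Category.assoc, Category.assoc, e1, mul_inv_cancel]
    have hz₂ : (a₁ ≫ snd G G * (a₂ ≫ snd G G)⁻¹) ≫ q = 1 := by
      rw [MonObj.mul_comp, GrpObj.inv_comp, Category.assoc, Category.assoc, e2, mul_inv_cancel]
    generalize a₁ ≫ fst G G = x₁ at *
    generalize a₂ ≫ fst G G = x₂ at *
    generalize a₁ ≫ snd G G = y₁ at *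
    generalize a₂ ≫ snd G G = y₂ at *
    obtain ⟨z, rfl⟩ : ∃ z, x₁ = z * x₂ := ⟨x₁ * x₂⁻¹, by rw [inv_mul_cancel_right]⟩
    obtain ⟨w, rfl⟩ : ∃ w, y₁ = w * y₂ := ⟨y₁ * y₂⁻¹, by rw [inv_mul_cancel_right]⟩
    rw [mul_inv_cancel_right] at hz₁ hz₂
    have cz : ∀ t, z * t = t * z := fun t => hc _ z t hz₁
    have cw : ∀ t, w * t = t * w := fun t => hc _ w t hz₂
    calc (z * x₂) * (w * y₂) * (z * x₂)⁻¹ * (w * y₂)⁻¹
        = z * (x₂ * w) * y₂ * x₂⁻¹ * (z⁻¹ * (y₂⁻¹ * w⁻¹)) := by group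
      _ = z * (w * x₂) * y₂ * x₂⁻¹ * (z⁻¹ * (y₂⁻¹ * w⁻¹)) := by rw [cw x₂]
      _ = z * (w * (x₂ * y₂ * x₂⁻¹)) * z⁻¹ * (y₂⁻¹ * w⁻¹) := by group
      _ = w * (x₂ * y₂ * x₂⁻¹) * y₂⁻¹ * w⁻¹ := by rw [cz, mul_inv_cancel_right, ← _root_.mul_assoc]
      _ = x₂ * y₂ * x₂⁻¹ * y₂⁻¹ := by rw [_root_.mul_assoc w, cw, mul_inv_cancel_right]
  let bl : (A ⊗ A).left ⟶ G.left := EffectiveEpi.desc qq.left c.left fun g₁ g₂ hg => hdesc g₁ g₂ hg
  have hbl : qq.left ≫ bl = c.left := EffectiveEpi.fac _ _ _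
  let b : A ⊗ A ⟶ G := Over.homMk bl (by rw [← cancel_epi qq.left, reassoc_of% hbl, Over.w, Over.w])
  have hb : qq ≫ b = c := Over.OverMorphism.ext hbl
  haveI : Epi qq := (Over.forget _).epi_of_epi_map (inferInstanceAs (Epi qq.left))
  have hcq : c ≫ q = 1 := by
    simp only [c, MonObj.mul_comp, GrpObj.inv_comp]
    rw [mul_comm (fst G G ≫ q) (snd G G ≫ q), mul_inv_cancel_right, mul_inv_cancel]
  have hbq : b ≫ q = toUnit _ ≫ η[A] := by
    rw [← cancel_epi qq, reassoc_of% hb, hcq, ← Category.assoc, comp_toUnit, Hom.one_def]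
  let b' : A ⊗ A ⟶ T := hk.lift b (toUnit _) hbq
  have hb' : b' ≫ i = b := hk.lift_fst _ _ _
  haveI : IsAffine T.left := h2
  haveI : GeometricallyReduced A.hom := inferInstance
  haveI : GeometricallyConnected A.hom := H23.CubeAb.geometricallyConnected_of_integral A.hom
  have hA := H23.CubeField.bijective_appTop_of_connected A
  have hAA := H23.CubeField.bijective_appTop_prod A A hA hA
  have hconst := GrpSchLib.AntiAffine.eq_const_of_isAffine hAA b' (lift η[A] η[A])
  have hc1 : c = 1 := by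
    rw [← hb, ← hb', hconst, Category.assoc, Category.assoc, ← Category.assoc qq, comp_toUnit, hb',
      show lift η[A] η[A] ≫ b = lift η[G] η[G] ≫ c by rw [← hb, ← Category.assoc, lift_map, IsMonHom.one_hom q],
      hc', Hom.one_def]
    simp [MonObj.one_eq_one]
  refine ⟨?_⟩
  have h7 : fst G G * snd G G = snd G G * fst G G := mul_inv_eq_one.mp (show _ = (1 : G ⊗ G ⟶ G) by
    rw [mul_inv_rev, ← _root_.mul_assoc]; exact hc1)
  have e : μ[G] = fst G G * snd G G := by rw [Hom.mul_def, lift_fst_snd, Category.id_comp]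
  rw [e, MonObj.comp_mul, braiding_hom_fst, braiding_hom_snd]
  exact h7.symm

end Groth.Agent.Chevalley.CommAff
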