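import Groth.Agent.Chevalley.CommAff.SAOps
import Groth.Agent.Chevalley.CommAff.SAComm

/-!
Isogenies and semi-abelian varieties.
-/

set_option autoImplicit false
set_option backward.isDefEq.respectTransparency false
set_option maxHeartbeats 1000000
set_option linter.style.haveILetI false
universe u
open CategoryTheory CategoryTheory.Limits AlgebraicGeometry MonoidalCategory CartesianMonoidalCategory
open scoped MonObj
open Groth.Agent.GrpSchLib

namespace Groth.Agent.Chevalley.CommAff

variable {k : Type u} [Field k]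

theorem discrete_of_finite (N : Over (Spec (CommRingCat.of k))) [IsFinite N.hom] : DiscreteTopology N.left := by
  haveI : IsAffine N.left := isAffine_of_isAffineHom N.hom
  obtain ⟨-, hf⟩ := (HasAffineProperty.iff_of_isAffine (P := @IsFinite)).mp ‹IsFinite N.hom›
  letI : Algebra k Γ(N.left, ⊤) := ((Scheme.ΓSpecIso (CommRingCat.of k)).inv ≫ N.hom.appTop).hom.toAlgebra
  haveI : Module.Finite k Γ(N.left, ⊤) :=
    RingHom.Finite.comp hf (RingHom.Finite.of_surjective _ (Scheme.ΓSpecIso (CommRingCat.of k)).symm.commRingCatIsoToRingEquiv.surjective)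
  haveI : IsArtinianRing Γ(N.left, ⊤) := IsArtinianRing.of_finite k _
  haveI : DiscreteTopology (Spec Γ(N.left, ⊤)) := inferInstanceAs (DiscreteTopology (PrimeSpectrum _))
  exact N.left.isoSpec.hom.homeomorph.symm.discreteTopology

/-- Morphisms from a reduced connected scheme to a finite scheme through a rational point are constant. -/
theorem eq_const_of_finite {D N : Over (Spec (CommRingCat.of k))} [IsFinite N.hom]
    [AlgebraicGeometry.IsReduced D.left] [ConnectedSpace D.left] (f : D ⟶ N)
    (x₀ : 𝟙_ (Over (Spec (CommRingCat.of k))) ⟶ D) : f = toUnit D ≫ x₀ ≫ f := by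
  haveI := discrete_of_finite N
  let e := x₀ ≫ f
  haveI : IsClosedImmersion e.left :=
    isClosedImmersion_of_comp_eq_id (f := N.hom) e.left (Over.w e)
  have hsub : Set.range f.left ⊆ Set.range e.left := by
    rintro _ ⟨x, rfl⟩
    refine ⟨IsLocalRing.closedPoint k, ?_⟩
    show f.left (x₀.left (IsLocalRing.closedPoint k)) = f.left x
    exact PreconnectedSpace.constant inferInstance f.left.continuous
  obtain ⟨g, hg⟩ := H23.RedSub.exists_lift_closed f.left e.left hsub
  refine Over.OverMorphism.ext ?_
  show f.left = D.hom ≫ e.left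
  rw [← hg]
  congr 1
  have h := Over.w f
  rw [← hg, Category.assoc, Over.w e] at h
  exact (Category.comp_id g).symm.trans h

theorem tensor_props (G : Over (Spec (CommRingCat.of k))) [GrpObj G] [Smooth G.hom] [QuasiCompact G.hom]
    [ConnectedSpace G.left] : AlgebraicGeometry.IsReduced (G ⊗ G).left ∧ ConnectedSpace (G ⊗ G).left := by
  haveI : GeometricallyIntegral G.hom := AlbQuotLib.geometricallyIntegral G
  haveI : GeometricallyConnected G.hom := H23.CubeAb.geometricallyConnected_of_integral G.hom
  haveI : Smooth (G ⊗ G).hom := inferInstanceAs (Smooth (pullback.fst G.hom G.hom ≫ G.hom))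
  refine ⟨GrpSchLib.isReduced_of_smooth_field (G ⊗ G).hom, ?_⟩
  haveI : Smooth (pullback.fst G.hom G.hom) := MorphismProperty.pullback_fst _ _ inferInstance
  have h : ConnectedSpace ↥(pullback G.hom G.hom) :=
    AlgSpDec.GeomConn.connectedSpace_of_fibres (pullback.fst G.hom G.hom).isOpenMap
      (Scheme.Hom.surjective _) (fun b => ((pullback.fst G.hom G.hom).isConnected_preimage_singleton b).isPreconnected)
      inferInstance
  exact h

/-- A smooth connected group isogenous onto a semi-abelian variety is semi-abelian. -/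
theorem isSA_of_isogeny {G H N : Over (Spec (CommRingCat.of k))} [GrpObj G] [GrpObj H] [GrpObj N] [Smooth G.hom]
    [QuasiCompact G.hom] [ConnectedSpace G.left] [LocallyOfFiniteType H.hom] [QuasiCompact H.hom] (f : G ⟶ H)
    [IsMonHom f] [Surjective f.left] (n : N ⟶ G) [IsMonHom n] [IsClosedImmersion n.left] [IsFinite N.hom]
    (hk : AlgGrp.IsKernel n f) (hH : IsSA H) : IsSA G := by
  haveI := GrpSchLib.AntiAffine.isSeparated_grp G
  haveI := GrpSchLib.AntiAffine.isSeparated_grp H
  obtain ⟨hHs, hHc⟩ := hH.props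
  haveI := hH.isCommMonObj
  haveI : AlgebraicGeometry.IsReduced H.left := GrpSchLib.isReduced_of_smooth_field H.hom
  haveI : QuasiCompact (f.left ≫ H.hom) := by rw [Over.w f]; infer_instance
  haveI : QuasiCompact f.left := QuasiCompact.of_comp f.left H.hom
  haveI := GrpSchLib.flat_of_surjective_hom f
  haveI : IsCommMonObj G := by
    obtain ⟨h1, h2⟩ := tensor_props G
    haveI := h1; haveI := h2
    let c : G ⊗ G ⟶ G := fst G G * snd G G * (fst G G)⁻¹ * (snd G G)⁻¹
    have hcf : c ≫ f = toUnit _ ≫ η[H] := by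
      simp only [c, MonObj.mul_comp, GrpObj.inv_comp]
      rw [mul_comm (fst G G ≫ f) (snd G G ≫ f), mul_inv_cancel_right, mul_inv_cancel, Hom.one_def]
    have hc' : (hk.lift c (toUnit _) hcf) ≫ n = c := hk.lift_fst _ _ _
    have hconst := eq_const_of_finite (hk.lift c (toUnit _) hcf) (lift η[G] η[G])
    have hc1 : c = 1 := by
      rw [← hc', hconst, Category.assoc, Category.assoc, hc']
      simp only [c, MonObj.comp_mul, GrpObj.comp_inv, lift_fst, lift_snd]
      simp [MonObj.one_eq_one]
    refine ⟨?_⟩
    have h7 : fst G G * snd G G = snd G G * fst G G := mul_inv_eq_one.mp (show _ = (1 : G ⊗ G ⟶ G) by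
      rw [mul_inv_rev, ← _root_.mul_assoc]; exact hc1)
    have e : μ[G] = fst G G * snd G G := by rw [Hom.mul_def, lift_fst_snd, Category.id_comp]
    rw [e, MonObj.comp_mul, braiding_hom_fst, braiding_hom_snd]
    exact h7.symm
  haveI := isCommMonObj_sub n
  obtain ⟨m, hm, hkm⟩ := exists_exponent_finite N
  haveI := isMonHom_pow G m
  obtain ⟨w, hw', hfw, -⟩ := S3280.result k G N H G f n hk ((𝟙 G) ^ m) (by
    rw [BC.comp_pow, Category.comp_id, show n ^ m = ((𝟙 N) ^ m) ≫ n by rw [BC.pow_comp, Category.id_comp], hkm,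
      MonObj.one_comp, Hom.one_def])
  haveI := hw'
  obtain ⟨T, _, i, A, _, q, hi, hic, hT, hq, hqs, hqf, hkq, hAp, hAs, hAc⟩ := id hH
  haveI := hi; haveI := hic; haveI := hq; haveI := hqs; haveI := hqf; haveI := hAp; haveI := hAs; haveI := hAc
  obtain ⟨T', _, i', hi', hi'c, hT', habs⟩ := exists_absTorus G
  haveI := hi'; haveI := hi'c
  obtain ⟨Q, _, r, hr, hrf, hrs, hrk, hQl, hQq⟩ := exists_quot i' (isNormal_of_comm i')
  haveI := hr; haveI := hrf; haveI := hrs; haveI := hQl; haveI := hQq
  haveI := isCommMonObj_of_cover r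
  obtain ⟨g, hg⟩ := habs.factor hT (i ≫ w)
  obtain ⟨u, hu', hu, -⟩ := S3280.result k H T A Q q i hkq (w ≫ r) (by
    rw [← Category.assoc, ← hg, Category.assoc, hrk.w, ← Category.assoc, comp_toUnit])
  haveI := hu'
  obtain ⟨B, _, π, b, hπ, hb, hπb, hbc, -, hπs, hBl, hBq⟩ := GrpSchLib.ImageFactor.exists_image u
  haveI := hπ; haveI := hb; haveI := hbc; haveI := hπs; haveI := hBl; haveI := hBq
  haveI := GrpSchLib.AntiAffine.isSeparated_grp B
  haveI : IsProper B.hom := BC.isProper_of_surjective π
  obtain ⟨R, _, t, ht, htf, hts, htk, hRl, hRq⟩ := exists_quot b (isNormal_of_comm b)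
  haveI := ht; haveI := htf; haveI := hts; haveI := hRl; haveI := hRq
  haveI := isCommMonObj_of_cover t
  haveI := GrpSchLib.AntiAffine.isSeparated_grp R
  haveI : Flat (r ≫ t).left := by rw [Over.comp_left]; infer_instance
  haveI : Surjective (r ≫ t).left := by rw [Over.comp_left]; infer_instance
  obtain ⟨hRs, hRc⟩ := cover_props (r ≫ t)
  have hpow : ∀ {X : Over (Spec (CommRingCat.of k))} (x : X ⟶ R), x ^ m = 1 := by
    intro X x
    haveI := epi_of_cover (r ≫ t)
    have h : (𝟙 R) ^ m = 1 := by
      rw [← cancel_epi (r ≫ t), BC.comp_pow, Category.comp_id, MonObj.comp_one,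
        show (r ≫ t) ^ m = ((𝟙 G) ^ m) ≫ r ≫ t by rw [BC.pow_comp, Category.id_comp], ← hfw, Category.assoc,
        ← Category.assoc w, ← hu, ← hπb]
      simp only [Category.assoc]
      rw [htk.w, ← Category.assoc π, comp_toUnit, ← Category.assoc q, comp_toUnit, ← Category.assoc f, comp_toUnit,
        Hom.one_def]
    rw [← Category.comp_id x, ← BC.comp_pow, h, MonObj.comp_one]
  -- the image of the kernel in `R`
  obtain ⟨I, _, p, e, hp, he, hpe, hec, hpf, hps, hIl, hIq⟩ := GrpSchLib.ImageFactor.exists_image (n ≫ r ≫ t)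
  haveI := hp; haveI := he; haveI := hec; haveI := hps; haveI := hIl; haveI := hIq
  obtain ⟨C, _, c, hc, hcf, hcs, hck, hCl, hCq⟩ := exists_quot e (isNormal_of_comm e)
  haveI := hc; haveI := hcf; haveI := hcs; haveI := hCl; haveI := hCq
  haveI := isCommMonObj_of_cover c
  obtain ⟨v, hv', hfv, -⟩ := S3280.result k G N H C f n hk (r ≫ t ≫ c) (by
    rw [← Category.assoc r, ← Category.assoc, ← hpe, Category.assoc, hck.w, ← Category.assoc, comp_toUnit])
  haveI := hv'
  haveI : Surjective v.left := by
    haveI : Surjective (f.left ≫ v.left) := by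
      rw [← Over.comp_left, hfv, Over.comp_left, Over.comp_left]; infer_instance
    exact Surjective.of_comp f.left v.left
  haveI : Flat v.left := by
    haveI : Flat (t ≫ c).left := by rw [Over.comp_left]; infer_instance
    haveI : Surjective (t ≫ c).left := by rw [Over.comp_left]; infer_instance
    haveI : Smooth C.hom := (cover_props c).1
    haveI : AlgebraicGeometry.IsReduced C.left := GrpSchLib.isReduced_of_smooth_field C.hom
    haveI := GrpSchLib.AntiAffine.isSeparated_grp C
    haveI : QuasiCompact (v.left ≫ C.hom) := by rw [Over.w v]; infer_instance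
    haveI : QuasiCompact v.left := QuasiCompact.of_comp v.left C.hom
    exact GrpSchLib.flat_of_surjective_hom v
  have hC : 𝟙 C = (1 : C ⟶ C) := (hH.of_cover v).id_eq_one_of_killed hm (by
    haveI := epi_of_cover c
    rw [← cancel_epi c, BC.comp_pow, Category.comp_id, MonObj.comp_one,
      show c ^ m = ((𝟙 R) ^ m) ≫ c by rw [BC.pow_comp, Category.id_comp], hpow, MonObj.one_comp])
  haveI : Surjective e.left := BC.surjective_of_quot_eq_one e c hck (by
    rw [← Category.comp_id c, hC, MonObj.comp_one])
  haveI := GrpSchLib.AntiAffine.isSeparated_grp I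
  haveI : IsProper I.hom := BC.isProper_of_surjective p
  haveI : IsProper R.hom := BC.isProper_of_surjective e
  haveI : QuasiCompact (t.left ≫ R.hom) := by rw [Over.w t]; infer_instance
  haveI : QuasiCompact t.left := QuasiCompact.of_comp t.left R.hom
  haveI := EtFound.fpqc_isProper.{u}
  haveI : IsProper t.left := S7982.property_of_kernel b t htk @IsProper inferInstance
  haveI : IsProper Q.hom := by rw [← Over.w t]; infer_instance
  exact isSA_of_proper_quot i' hT' r hrk

end Groth.Agent.Chevalley.CommAff
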