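import Groth.Agent.Chevalley.CommAff.ExtComm
import Groth.Agent.Chevalley.CommAff.Isogeny

/-!
Base change of extensions.
-/

set_option autoImplicit false
set_option backward.isDefEq.respectTransparency false
set_option maxHeartbeats 1000000
set_option linter.style.haveILetI false
universe u
open CategoryTheory CategoryTheory.Limits AlgebraicGeometry MonoidalCategory CartesianMonoidalCategory
open scoped MonObj
open Groth.Agent.GrpSchLib

namespace Groth.Agent.Chevalley.CommAff

theorem isKernel_bc {S U : Scheme.{u}} (φ : U ⟶ S) {N G Q : Over S} [GrpObj Q] {i : N ⟶ G} [Mono i] {q : G ⟶ Q}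
    (h : AlgGrp.IsKernel i q) : AlgGrp.IsKernel ((Over.pullback φ).map i) ((Over.pullback φ).map q) := by
  have hp := h.map (Over.pullback φ)
  let F := Over.pullback φ
  have ht : F.map (toUnit N) = toUnit (F.obj N) ≫ Functor.LaxMonoidal.ε F := by
    haveI : IsIso (Functor.LaxMonoidal.ε F) := inferInstance
    rw [← cancel_mono (inv (Functor.LaxMonoidal.ε F))]
    exact toUnit_unique _ _
  haveI : Mono (F.map i) := inferInstance
  refine ⟨⟨?_⟩, ⟨PullbackCone.IsLimit.mk _ (fun c => hp.lift c.fst (c.snd ≫ Functor.LaxMonoidal.ε F) ?_)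
    (fun c => hp.lift_fst _ _ _) (fun c => toUnit_unique _ _) (fun c m h1 _ => ?_)⟩⟩
  · have e := hp.w
    rw [ht, Category.assoc] at e
    exact e
  · rw [Category.assoc]
    exact c.condition
  · rw [← cancel_mono (F.map i), hp.lift_fst, h1]

theorem isPullback_bc_map {S U : Scheme.{u}} (φ : U ⟶ S) {A B : Over S} (r : A ⟶ B) :
    IsPullback ((Over.pullback φ).map r).left (pullback.fst A.hom φ) (pullback.fst B.hom φ) r.left := by
  refine IsPullback.of_bot (v₂₁ := pullback.snd B.hom φ) (v₂₂ := B.hom) (h₃₁ := φ) ?_ (LargeNormal.map_fst φ r).symm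
    (IsPullback.of_hasPullback B.hom φ) |>.flip
  have h1 : ((Over.pullback φ).map r).left ≫ pullback.snd B.hom φ = pullback.snd A.hom φ :=
    Over.w ((Over.pullback φ).map r)
  rw [h1, Over.w r]
  exact IsPullback.of_hasPullback A.hom φ

end Groth.Agent.Chevalley.CommAff
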