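import Groth.Agent.Chevalley.CommAff.Scheme

/-!
Characters of a commutative affine group which are trivial on the largest torus are torsion.
-/

set_option autoImplicit false
set_option backward.isDefEq.respectTransparency false
set_option maxHeartbeats 1000000
set_option linter.style.haveILetI false
universe u
open CategoryTheory CategoryTheory.Limits AlgebraicGeometry MonoidalCategory CartesianMonoidalCategory
open scoped MonObj
open TensorProduct WithConv

namespace Groth.Agent.Chevalley.CommAff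

open Groth.Agent.GrpSchLib Groth.Agent.GrpSchLib.AffineHopf Groth.Agent.MultTypeLib
open Groth.Agent.GrpSchLib.UniPart Groth.Agent.ComodLib

variable {k : Type u} [Field k] {A : Type u} [CommRing A] [HopfAlgebra k A] [Coalgebra.IsCocomm k A]
  [Algebra.FiniteType k A]

theorem eq_one_of_sub_one_mem_J_closed [IsAlgClosed k] {h : A} (hh : IsGroupLikeElem k h)
    (hJ : h - 1 ∈ J k A) : h = 1 := by
  classical
  by_contra hne
  let f : (A →ₗ[k] k) → Module.End k A := fun φ => actF φ
  let V : ((A →ₗ[k] k) → k) → Submodule k A := fun χ => ⨅ φ, (f φ).maxGenEigenspace (χ φ)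
  let χ : A → (A →ₗ[k] k) → k := fun g φ => φ g
  have hcomm : ∀ φ ψ, Commute (f φ) (f ψ) := fun φ ψ => LinearMap.ext fun x => by
    have e1 := actF_convMul (toConv φ) (toConv ψ) x
    have e2 := actF_convMul (toConv ψ) (toConv φ) x
    rw [_root_.mul_comm] at e1
    exact e1.symm.trans e2
  have hind : iSupIndep V := Module.End.independent_iInf_maxGenEigenspace_of_forall_mapsTo f
    fun φ ψ c => Module.End.mapsTo_maxGenEigenspace_of_comm (hcomm ψ φ) c
  have hV : ∀ g, IsGroupLikeElem k g → ∀ y ∈ Bs k A, g * y ∈ V (χ g) := by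
    intro g hg y hy
    obtain ⟨n, hn⟩ := (mem_Bs k A y).mp hy
    refine (Submodule.mem_iInf _).mpr fun φ => (Module.End.mem_maxGenEigenspace (f φ) (χ g φ) (g * y)).mpr ⟨n, ?_⟩
    clear hy
    induction n generalizing y with
    | zero => rw [show y = 0 from (Submodule.mem_bot k).mp hn]; simp
    | succ n ih =>
      have e : (f φ - χ g φ • 1) (g * y) =
          g * (actF (φ ∘ₗ LinearMap.mulLeft k g) y - (φ ∘ₗ LinearMap.mulLeft k g) 1 • y) := by
        simp [f, χ, isGroupLike_actF k A hg, mul_sub]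
      rw [pow_succ, Module.End.mul_apply, e]
      exact ih _ ((mem_Bn_succ k A n y).mp hn _)
  let S : Submodule k A :=
    Submodule.span k {x | ∃ g b, IsGroupLikeElem k g ∧ b ∈ Bs k A ∧ Coalgebra.counit (R := k) b = 0 ∧ x = g * b}
  have hJS : ∀ x ∈ J k A, x ∈ S := by
    intro x hx
    induction hx using Submodule.span_induction with
    | mem b hb => exact Submodule.subset_span ⟨1, b, IsGroupLikeElem.one, hb.1, hb.2, (one_mul b).symm⟩
    | zero => exact zero_mem _
    | add a b _ _ ha hb => exact add_mem ha hb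
    | smul r a _ ha =>
      have hr : r ∈ glSpan k A := by rw [glSpan_eq_top (k := k) (A := A)]; exact Submodule.mem_top
      rw [smul_eq_mul]
      induction hr using Submodule.span_induction with
      | mem r hr =>
        obtain ⟨g', y', hg', hy', rfl⟩ := hr
        clear * - ha hg' hy'
        induction ha using Submodule.span_induction with
        | mem a ha =>
          obtain ⟨g, b, hg, hb, hb0, rfl⟩ := ha
          refine Submodule.subset_span ⟨g' * g, y' * b, hg'.mul hg, (B k A).mul_mem hy' hb, ?_, by ring⟩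
          rw [Bialgebra.counit_mul, hb0, mul_zero]
        | zero => rw [mul_zero]; exact zero_mem _
        | add a b _ _ ha hb => rw [mul_add]; exact add_mem ha hb
        | smul c a _ ha => rw [Algebra.mul_smul_comm]; exact Submodule.smul_mem _ _ ha
      | zero => rw [zero_mul]; exact zero_mem _
      | add a b _ _ ha hb => rw [add_mul]; exact add_mem ha hb
      | smul c a _ ha => rw [Algebra.smul_mul_assoc]; exact Submodule.smul_mem _ _ ha
  let P : Submodule k A := Bs k A ⊓ LinearMap.ker (Coalgebra.counit (R := k) (A := A))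
  let W : Submodule k A := ⨆ (c) (_ : c ≠ χ 1), V c
  have hSPW : S ≤ P ⊔ W := Submodule.span_le.mpr fun x hx => by
    obtain ⟨g, b, hg, hb, hb0, rfl⟩ := hx
    by_cases hc : χ g = χ 1
    · have : g = 1 := sub_eq_zero.mp ((Module.forall_dual_apply_eq_zero_iff k _).mp fun φ => by
        rw [map_sub, show φ g = φ 1 from congrFun hc φ, sub_self])
      rw [this, one_mul]
      exact Submodule.mem_sup_left ⟨hb, hb0⟩
    · exact Submodule.mem_sup_right (le_iSup₂ (f := fun c (_ : c ≠ χ 1) => V c) _ hc (hV g hg b hb))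
  obtain ⟨b, hb, w, hw, hbw⟩ := Submodule.mem_sup.mp (hSPW (hJS _ hJ))
  have hh' : h ∈ W := by
    have hc : χ h ≠ χ 1 := fun hc => hne (sub_eq_zero.mp ((Module.forall_dual_apply_eq_zero_iff k _).mp fun φ => by
      rw [map_sub, show φ h = φ 1 from congrFun hc φ, sub_self]))
    have := le_iSup₂ (f := fun c (_ : c ≠ χ 1) => V c) _ hc (hV h hh 1 ((mem_Bs k A 1).mpr ⟨1, one_mem k A⟩))
    rwa [mul_one] at this
  have h1 : (1 : A) + b ∈ W := by
    rw [show (1 : A) + b = h - w by rw [eq_sub_iff_add_eq, add_assoc, hbw]; abel]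
    exact sub_mem hh' hw
  have h2 : (1 : A) + b ∈ V (χ 1) := by
    have := hV 1 IsGroupLikeElem.one (1 + b) (add_mem ((mem_Bs k A 1).mpr ⟨1, one_mem k A⟩) hb.1)
    rwa [one_mul] at this
  have h3 := congrArg (Coalgebra.counit (R := k)) (Submodule.disjoint_def.mp (hind (χ 1)) _ h2 h1)
  rw [map_add, map_zero, Bialgebra.counit_one, show Coalgebra.counit (R := k) b = 0 from hb.2, add_zero] at h3
  exact one_ne_zero h3

theorem tmul_mem_J (K : Type u) [Field K] [Algebra k K] {a : A} (ha : a ∈ J k A) :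
    (1 : K) ⊗ₜ[k] a ∈ J K (K ⊗[k] A) := by
  have h : J k A ≤ (J K (K ⊗[k] A)).comap (Algebra.TensorProduct.includeRight : A →ₐ[k] K ⊗[k] A) :=
    Ideal.span_le.mpr fun b hb => by
      obtain ⟨n, hn⟩ := (mem_Bs k A b).mp hb.1
      refine Ideal.subset_span ⟨(mem_Bs K _ _).mpr ⟨n, tmul_mem_Bn n hn⟩, ?_⟩
      show Coalgebra.counit (R := K) ((1 : K) ⊗ₜ[k] b) = 0
      rw [TensorProduct.counit_tmul, show Coalgebra.counit (R := k) b = 0 from hb.2, zero_smul]
  exact h ha

/-- A group-like element congruent to one modulo the ideal of the multiplicative part is one. -/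
theorem eq_one_of_sub_one_mem_J {h : A} (hh : IsGroupLikeElem k h) (hJ : h - 1 ∈ J k A) : h = 1 := by
  let K := AlgebraicClosure k
  refine Algebra.TensorProduct.includeRight_injective (A := K) (algebraMap k K).injective
    (Eq.trans (eq_one_of_sub_one_mem_J_closed (k := K) (A := K ⊗[k] A) ⟨?_, ?_⟩ ?_) (map_one _).symm)
  · show Coalgebra.counit (R := K) ((1 : K) ⊗ₜ[k] h) = 1
    rw [TensorProduct.counit_tmul, hh.counit_eq_one, one_smul, Bialgebra.counit_one]
  · show Coalgebra.comul (R := K) ((1 : K) ⊗ₜ[k] h) = _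
    rw [comul_one_tmul, hh.comul_eq_tmul_self]
    rfl
  · rw [← map_one (Algebra.TensorProduct.includeRight : A →ₐ[k] K ⊗[k] A), ← map_sub]
    exact tmul_mem_J K hJ

omit [Coalgebra.IsCocomm k A] [Algebra.FiniteType k A] in
theorem powConv_one_tmul (K : Type u) [Field K] [Algebra k K] : ∀ (n : ℕ) (a : A),
    SGA3b.powConv K (K ⊗[k] A) n ((1 : K) ⊗ₜ[k] a) = (1 : K) ⊗ₜ[k] SGA3b.powConv k A n a := by
  intro n
  induction n with
  | zero =>
    intro a
    simp [SGA3b.powConv, AlgHom.convOne_def, Algebra.algebraMap_eq_smul_one, TensorProduct.smul_tmul',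
      TensorProduct.tmul_smul, Algebra.TensorProduct.one_def]
  | succ n ih =>
    intro a
    have e := (SemiBialgHom.baseChange k K A).comul_comp a
    simp only [SemiBialgHom.baseChange, Algebra.TensorProduct.includeRight_apply] at e
    show (toConv (AlgHom.id K (K ⊗[k] A)) ^ (n + 1)).ofConv _ = _ ⊗ₜ (toConv (AlgHom.id k A) ^ (n + 1)).ofConv a
    rw [pow_succ, pow_succ, AlgHom.convMul_apply, AlgHom.convMul_apply, e]
    generalize Coalgebra.comul (R := k) a = z
    induction z using TensorProduct.induction_on with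
    | zero => simp
    | tmul x y =>
      simp only [MultTypeLib.sq_tmul, Algebra.TensorProduct.includeRight_apply, Algebra.TensorProduct.lift_tmul]
      rw [show (toConv (AlgHom.id K (K ⊗[k] A)) ^ n).ofConv ((1 : K) ⊗ₜ[k] x) = _ from ih x]
      simp [SGA3b.powConv]
    | add x y hx hy => simp only [map_add, TensorProduct.tmul_add, hx, hy]

/-- A homomorphism to a torus which kills all tori is torsion. -/
theorem pow_eq_one_of_kills_tori {L T₁ : Over (Spec (CommRingCat.of k))} [GrpObj L] [GrpObj T₁] [IsCommMonObj L]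
    [IsAffine L.left] [LocallyOfFiniteType L.hom] (hT₁ : Red.IsTorus T₁) (f : L ⟶ T₁) [IsMonHom f]
    (hf : ∀ (T : Over (Spec (CommRingCat.of k))) [GrpObj T] (i : T ⟶ L) [IsMonHom i], Red.IsTorus T → i ≫ f = 1) :
    ∃ N : ℕ, 0 < N ∧ f ^ N = 1 := by
  obtain ⟨A, _, _, ⟨eL⟩⟩ := exists_hopf L
  let e : sp k A ≅ L := (Grp.forget _).mapIso eL
  haveI : IsMonHom e.hom := eL.hom.hom.isMonHom_hom
  haveI : IsMonHom e.inv := eL.inv.hom.isMonHom_hom
  haveI : Coalgebra.IsCocomm k A := isCocomm_of_iso e.hom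
  haveI : LocallyOfFiniteType (sp k A).hom := by rw [← Over.w e.hom]; infer_instance
  haveI : Algebra.FiniteType k A :=
    RingHom.finiteType_algebraMap.mp ((HasRingHomProperty.Spec_iff (P := @LocallyOfFiniteType)).mp ‹_›)
  haveI : IsAffineHom T₁.hom :=
    MultConjLib.isAffineHom_of_locDS (MultConjLib.isLocDS_of_multTypeFT (RankOne.isMultTypeFT_of_isTorus hT₁))
  haveI : IsAffine T₁.left := isAffine_of_isAffineHom T₁.hom
  obtain ⟨C, _, _, ⟨eC⟩⟩ := exists_hopf T₁
  haveI : IsMonHom eC.inv.hom.hom := eC.inv.hom.isMonHom_hom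
  obtain ⟨F, hF⟩ := exists_bialgHom (e.hom ≫ f ≫ eC.inv.hom.hom)
  obtain ⟨I, _, N, hN, hT, hJI, hI⟩ := exists_maxTorus_ideal (k := k) A
  let mkI : A →ₐc[k] A ⧸ I := Bialgebra.Quotient.mkBialgHom I
  have hkill : ∀ c, F c - algebraMap k A (Coalgebra.counit (R := k) c) ∈ I := by
    intro c
    have h0 := hf (sp k (A ⧸ I)) (spMap (mkI : A →ₐ[k] A ⧸ I) ≫ e.hom) hT
    have h1 : spMap ((mkI : A →ₐ[k] A ⧸ I).comp (F : C →ₐ[k] A)) = (1 : sp k (A ⧸ I) ⟶ sp k C) := by
      rw [← spMap_comp, ← hF, ← Category.assoc, ← Category.assoc, h0, MonObj.one_comp]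
    rw [show (1 : sp k (A ⧸ I) ⟶ sp k C) = spMap (1 : WithConv (C →ₐ[k] A ⧸ I)).ofConv from
      (map_one Spec.mapMulEquiv).symm] at h1
    exact Ideal.Quotient.eq.mp ((AlgHom.congr_fun (spMap_injective h1) c).trans (by
      rw [AlgHom.convOne_apply]; rfl))
  refine ⟨N, hN, ?_⟩
  have hJc : ∀ c, F (SGA3b.powConv k C N c) - algebraMap k A (Coalgebra.counit (R := k) c) ∈ J k A := by
    intro c
    have h := hI _ (hkill c)
    rw [map_sub, AlgHom.commutes] at h
    exact (AlgHom.congr_fun (bialgHom_comp_powConv F N) c) ▸ h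
  have key : (F : C →ₐ[k] A).comp (SGA3b.powConv k C N) = (1 : WithConv (C →ₐ[k] A)).ofConv := by
    obtain ⟨K₁, _, _, φ₁, r, ⟨e₁⟩⟩ := TorusBilin.exists_split hT₁
    letI : Algebra k K₁ := φ₁.toAlgebra
    obtain ⟨e₂⟩ := GrpSchLib.MultTypeBC.bc_iso (Spec.map (CommRingCat.ofHom (algebraMap k K₁))) eC
    obtain ⟨e₃⟩ := nonempty_bc_sp (R := k) K₁ C
    obtain ⟨ε⟩ := MultConjLib.exists_bialgEquiv (e₃.symm ≪≫ e₂ ≪≫ e₁)
    let Fk : K₁ ⊗[k] C →ₐc[K₁] K₁ ⊗[k] A := Bialgebra.TensorProduct.map (BialgHom.id K₁ K₁) F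
    let G₁ : K₁ ⊗[k] C →ₐ[K₁] K₁ ⊗[k] A :=
      (Fk : K₁ ⊗[k] C →ₐ[K₁] K₁ ⊗[k] A).comp (SGA3b.powConv K₁ (K₁ ⊗[k] C) N)
    let G₀ : K₁ ⊗[k] C →ₐ[K₁] K₁ ⊗[k] A := (1 : WithConv (K₁ ⊗[k] C →ₐ[K₁] K₁ ⊗[k] A)).ofConv
    have hG : ∀ c, G₁ ((1 : K₁) ⊗ₜ[k] c) = (1 : K₁) ⊗ₜ[k] F (SGA3b.powConv k C N c) := fun c => by
      show Fk (SGA3b.powConv K₁ (K₁ ⊗[k] C) N ((1 : K₁) ⊗ₜ[k] c)) = _
      rw [powConv_one_tmul]
      rfl
    have hG₀ : ∀ c, G₀ ((1 : K₁) ⊗ₜ[k] c) = (1 : K₁) ⊗ₜ[k] algebraMap k A (Coalgebra.counit (R := k) c) := fun c => by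
      simp [G₀, AlgHom.convOne_apply, TensorProduct.counit_tmul, Algebra.algebraMap_eq_smul_one,
        TensorProduct.tmul_smul, TensorProduct.smul_tmul', Algebra.TensorProduct.one_def]
    have hdiff : ∀ z, G₁ z - G₀ z ∈ J K₁ (K₁ ⊗[k] A) := by
      intro z
      induction z using TensorProduct.induction_on with
      | zero => rw [map_zero, map_zero, sub_zero]; exact zero_mem _
      | tmul a c =>
        rw [show a ⊗ₜ[k] c = a • ((1 : K₁) ⊗ₜ[k] c) by rw [TensorProduct.smul_tmul', smul_eq_mul, mul_one], map_smul,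
          map_smul, ← smul_sub, hG, hG₀, ← TensorProduct.tmul_sub, Algebra.smul_def]
        exact Ideal.mul_mem_left _ _ (tmul_mem_J K₁ (hJc c))
      | add a b ha hb => rw [map_add, map_add, add_sub_add_comm]; exact add_mem ha hb
    have hEq : G₁ = G₀ := by
      let εi : TorusBilin.Coord K₁ r →ₐc[K₁] K₁ ⊗[k] C := (ε : TorusBilin.Coord K₁ r →ₐc[K₁] K₁ ⊗[k] C)
      have h : G₁.comp (εi : TorusBilin.Coord K₁ r →ₐ[K₁] K₁ ⊗[k] C) =
          G₀.comp (εi : TorusBilin.Coord K₁ r →ₐ[K₁] K₁ ⊗[k] C) := by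
        refine MonoidAlgebra.algHom_ext (fun m => ?_) (Subsingleton.elim _ _)
        set g := εi (MonoidAlgebra.single m 1) with hgdef
        have hg : IsGroupLikeElem K₁ g := (MonoidAlgebra.isGroupLikeElem_single_one m).map εi
        show G₁ g = G₀ g
        have h0 : G₀ g = 1 := by simp [G₀, AlgHom.convOne_apply, hg.counit_eq_one, ← Algebra.TensorProduct.one_def]
        have h1 : G₁ g = Fk g ^ N := by
          show Fk (SGA3b.powConv K₁ (K₁ ⊗[k] C) N g) = _
          rw [← map_pow]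
          congr 1
          show (toConv (AlgHom.id K₁ (K₁ ⊗[k] C)) ^ N).ofConv g = g ^ N
          clear * - hg
          induction N with
          | zero => simp [AlgHom.convOne_apply, hg.counit_eq_one, ← Algebra.TensorProduct.one_def]
          | succ n ih => rw [pow_succ, AlgHom.convMul_apply, hg.comul_eq_tmul_self, Algebra.TensorProduct.lift_tmul, ih]; simp [pow_succ]
        haveI : Coalgebra.IsCocomm K₁ (K₁ ⊗[k] A) := inferInstance
        have h2 := hdiff g
        rw [h0, h1] at h2 ⊢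
        refine eq_one_of_sub_one_mem_J ?_ h2
        clear * - hg
        induction N with
        | zero => rw [pow_zero]; exact IsGroupLikeElem.one
        | succ n ih => rw [pow_succ]; exact ih.mul (hg.map Fk)
      refine AlgHom.ext fun z => ?_
      have h' := AlgHom.congr_fun h (ε.symm z)
      simp only [AlgHom.comp_apply] at h'
      simpa [εi] using h'
    refine AlgHom.ext fun c => ?_
    refine Algebra.TensorProduct.includeRight_injective (A := K₁) (algebraMap k K₁).injective ?_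
    simp only [Algebra.TensorProduct.includeRight_apply, AlgHom.comp_apply, AlgHom.convOne_apply]
    exact (hG c).symm.trans ((AlgHom.congr_fun hEq _).trans (hG₀ c))
  have h2 : spMap (F : C →ₐ[k] A) ^ N = (1 : sp k A ⟶ sp k C) := by
    rw [← Category.comp_id (spMap (F : C →ₐ[k] A)), ← BC.comp_pow, ← spMap_powConv, spMap_comp, key]
    exact map_one Spec.mapMulEquiv
  rw [← hF, ← BC.comp_pow, ← BC.pow_comp] at h2
  have h3 := congrArg (fun m => e.inv ≫ m ≫ eC.hom.hom.hom) h2
  haveI : IsMonHom eC.hom.hom.hom := eC.hom.hom.isMonHom_hom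
  simpa [MonObj.one_comp, MonObj.comp_one, show eC.inv.hom.hom ≫ eC.hom.hom.hom = 𝟙 _ from
    congrArg (fun m => m.hom.hom) eC.inv_hom_id] using h3

end Groth.Agent.Chevalley.CommAff
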