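import Groth.Agent.Chevalley.CommAff.Exponent

/-!
The quotient by the largest semi-abelian subgroup and quasi-complements.
-/

set_option autoImplicit false
set_option backward.isDefEq.respectTransparency false
set_option maxHeartbeats 1000000
set_option linter.style.haveILetI false
universe u
open CategoryTheory CategoryTheory.Limits AlgebraicGeometry MonoidalCategory CartesianMonoidalCategory
open scoped MonObj
open Groth.Agent.GrpSchLib

namespace Groth.Agent.Chevalley.CommAff

variable {k : Type u} [Field k] {G S Q : Over (Spec (CommRingCat.of k))} [GrpObj G] [IsCommMonObj G]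
  [LocallyOfFiniteType G.hom] [QuasiCompact G.hom] [GrpObj S] (s : S ⟶ G) [IsMonHom s] [IsClosedImmersion s.left]
  [GrpObj Q] [LocallyOfFiniteType Q.hom] [QuasiCompact Q.hom] (q : G ⟶ Q) [IsMonHom q] [Surjective q.left] [Flat q.left]

theorem isCommMonObj_of_cover {G Q : Over (Spec (CommRingCat.of k))} [GrpObj G] [IsCommMonObj G] [GrpObj Q]
    [LocallyOfFiniteType G.hom] [QuasiCompact G.hom] [LocallyOfFiniteType Q.hom] [QuasiCompact Q.hom]
    (q : G ⟶ Q) [IsMonHom q] [Surjective q.left] [Flat q.left] : IsCommMonObj Q := by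
  refine ⟨?_⟩
  haveI := GrpSchLib.AntiAffine.isSeparated_grp Q
  haveI : QuasiCompact (q.left ≫ Q.hom) := by rw [Over.w q]; infer_instance
  haveI : QuasiCompact q.left := QuasiCompact.of_comp q.left Q.hom
  haveI : Epi (q ⊗ₘ q).left := by
    haveI : Flat (q ⊗ₘ q).left := by
      rw [Over.tensorHom_left]
      exact MorphismProperty.pullbackMap (P := @Flat) inferInstance inferInstance (Over.w _).symm (Over.w _).symm
    haveI : Surjective (q ⊗ₘ q).left := by
      rw [Over.tensorHom_left]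
      exact MorphismProperty.pullbackMap (P := @Surjective) inferInstance inferInstance (Over.w _).symm (Over.w _).symm
    haveI : QuasiCompact (q ⊗ₘ q).left := by
      rw [Over.tensorHom_left]
      exact MorphismProperty.pullbackMap (P := @QuasiCompact) inferInstance inferInstance (Over.w _).symm (Over.w _).symm
    exact Flat.epi_of_flat_of_surjective _
  haveI : Epi (q ⊗ₘ q) := (Over.forget _).epi_of_epi_map (inferInstanceAs (Epi (q ⊗ₘ q).left))
  rw [← cancel_epi (q ⊗ₘ q), ← IsMonHom.mul_hom q, ← Category.assoc, BraidedCategory.braiding_naturality, Category.assoc,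
    ← IsMonHom.mul_hom q, ← Category.assoc, IsCommMonObj.mul_comm]

variable (p : ℕ) [Fact p.Prime] [CharP k p]

include p in
/-- The quotient by the largest semi-abelian subgroup has finite exponent. -/
theorem exists_exponent_quot
    (hSmax : ∀ (S' : Over (Spec (CommRingCat.of k))) [GrpObj S'] (s' : S' ⟶ G) [IsMonHom s'] [IsClosedImmersion s'.left],
      IsSA S' → ∃ g : S' ⟶ S, g ≫ s = s')
    (hq : AlgGrp.IsKernel s q) : ∃ n : ℕ, 0 < n ∧ (𝟙 Q) ^ n = 1 := by
  haveI := GrpSchLib.AntiAffine.isSeparated_grp G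
  haveI := GrpSchLib.AntiAffine.isSeparated_grp Q
  haveI := isCommMonObj_of_cover q
  -- the anti-affine part of `Q` is trivial
  obtain ⟨J, _, r, K, _, κ, hr, hJ, -, -, -, -, hκ, hκc, hk, hK⟩ := Rosenlicht.exists_antiAffine_kernel G
  haveI := hr; haveI := hJ; haveI := hκ; haveI := hκc
  haveI : LocallyOfFiniteType K.hom := by rw [← Over.w κ]; infer_instance
  haveI : QuasiCompact K.hom := by rw [← Over.w κ]; infer_instance
  obtain ⟨J', _, r', K', _, κ', hr', hJ', hJ'l, hJ'q, hr'f, hr's, hκ', hκ'c, hk', hK'⟩ := Rosenlicht.exists_antiAffine_kernel Q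
  haveI := hr'; haveI := hJ'; haveI := hr'f; haveI := hr's; haveI := hκ'; haveI := hκ'c; haveI := hJ'l; haveI := hJ'q
  haveI : LocallyOfFiniteType K'.hom := by rw [← Over.w κ']; infer_instance
  haveI : QuasiCompact K'.hom := by rw [← Over.w κ']; infer_instance
  obtain ⟨g, hg⟩ := hSmax K κ (isSA_of_antiAffine p hK)
  have hr1 := Rosenlicht.range_eq q κ hK (fun M₁ _ _ _ j₁ _ _ hM₁ => by
    have h1 : j₁ ≫ r = toUnit M₁ ≫ η[J] := by rw [Rosenlicht.hom_affine_eq_one hM₁ (j₁ ≫ r), Hom.one_def]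
    exact ⟨hk.lift j₁ (toUnit M₁) h1, hk.lift_fst _ _ _⟩) κ' hK' (fun M₁ _ _ _ j₁ _ _ hM₁ => by
    have h1 : j₁ ≫ r' = toUnit M₁ ≫ η[J'] := by rw [Rosenlicht.hom_affine_eq_one hM₁ (j₁ ≫ r'), Hom.one_def]
    exact ⟨hk'.lift j₁ (toUnit M₁) h1, hk'.lift_fst _ _ _⟩)
  haveI := GrpSchLib.AntiAffineSmooth.smooth hK'
  haveI := GrpSchLib.AntiAffine.connectedSpace_of_bijective hK'
  haveI : Subsingleton K'.left := ⟨fun x y => κ'.left.isClosedEmbedding.injective (by
    obtain ⟨x', hx'⟩ := hr1.ge ⟨x, rfl⟩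
    obtain ⟨y', hy'⟩ := hr1.ge ⟨y, rfl⟩
    rw [← hx', ← hy', ← hg, Category.assoc, hq.w, ← Category.assoc, comp_toUnit]
    exact congrArg η[Q].left (Subsingleton.elim (α := PrimeSpectrum k) _ _))⟩
  haveI : IsIso η[K'] := isIso_eta_of_id_eq_one (isTrivial_of_subsingleton K')
  haveI : IsIso K'.hom := by
    haveI : IsIso (toUnit K') := ⟨η[K'], by rw [← cancel_epi η[K']]; simp, toUnit_unique _ _⟩
    exact inferInstanceAs (IsIso ((Over.forget _).map (toUnit K')))
  haveI := GrpSchLib.AntiAffine.isSeparated_grp J'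
  haveI : QuasiCompact (r'.left ≫ J'.hom) := by rw [Over.w r']; infer_instance
  haveI : QuasiCompact r'.left := QuasiCompact.of_comp r'.left J'.hom
  haveI := EtFound.fpqc_isFinite.{u}
  haveI : IsFinite r'.left := S7982.property_of_kernel κ' r' hk' @IsFinite inferInstance
  haveI : IsAffine Q.left := isAffine_of_isAffineHom r'.left
  -- powers kill the affine part
  obtain ⟨N, _, j, Qp, _, qp, ⟨hj, hjc, -, hNa, hqp, hqps, hqpf, hkqp, hQpp⟩, -, -⟩ := BC.exists_smallest_quot G
  haveI := hj; haveI := hjc; haveI : IsAffine N.left := hNa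
  haveI := hqp; haveI := hqps; haveI := hqpf; haveI := hQpp
  haveI := isCommMonObj_sub j
  haveI : LocallyOfFiniteType N.hom := by rw [← Over.w j]; infer_instance
  obtain ⟨T, _, iT, hiT, hiTc, hT, -, hpow⟩ := exists_maxTorus N
  obtain ⟨n, t, hn, ht⟩ := hpow p
  haveI := hiT; haveI := hiTc
  haveI : IsClosedImmersion (iT ≫ j).left := by rw [Over.comp_left]; infer_instance
  obtain ⟨gT, hgT⟩ := hSmax T (iT ≫ j) (isSA_torus hT)
  haveI := isMonHom_pow G n
  have hkill : j ≫ (((𝟙 G) ^ n) ≫ q) = toUnit N ≫ η[Q] := by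
    rw [← Category.assoc, BC.comp_pow, Category.comp_id, show j ^ n = ((𝟙 N) ^ n) ≫ j by rw [BC.pow_comp, Category.id_comp],
      ← ht, Category.assoc, Category.assoc, ← Category.assoc iT, ← hgT, Category.assoc, hq.w, ← Category.assoc gT,
      comp_toUnit, ← Category.assoc, comp_toUnit]
  obtain ⟨u, hu', hu, -⟩ := S3280.result k G N Qp Q qp j hkqp (((𝟙 G) ^ n) ≫ q) hkill
  haveI := hu'
  obtain ⟨I, _, π, b, hπ, hb, hπb, hbc, hπf, hπs, hIl, hIq⟩ := GrpSchLib.ImageFactor.exists_image u
  haveI := hπ; haveI := hb; haveI := hbc; haveI := hπs; haveI := hIl; haveI := hIq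
  haveI := GrpSchLib.AntiAffine.isSeparated_grp I
  haveI : IsProper I.hom := BC.isProper_of_surjective π
  haveI := isCommMonObj_sub b
  haveI : IsAffine I.left := isAffine_of_isAffineHom b.left
  haveI : IsFinite I.hom := IsFinite.iff_isProper_and_isAffineHom.mpr ⟨inferInstance, inferInstance⟩
  obtain ⟨m, hm, hkI⟩ := exists_exponent_finite I
  refine ⟨n * m, Nat.mul_pos hn hm, ?_⟩
  haveI : QuasiCompact (q.left ≫ Q.hom) := by rw [Over.w q]; infer_instance
  haveI : QuasiCompact q.left := QuasiCompact.of_comp q.left Q.hom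
  haveI : Epi q.left := Flat.epi_of_flat_of_surjective _
  haveI : Epi q := (Over.forget _).epi_of_epi_map (inferInstanceAs (Epi q.left))
  rw [← cancel_epi q, MonObj.comp_one, BC.comp_pow, Category.comp_id, pow_mul,
    show q ^ n = ((𝟙 G) ^ n) ≫ q by rw [BC.pow_comp, Category.id_comp], ← hu, ← hπb,
    show (qp ≫ π ≫ b) ^ m = qp ≫ π ≫ (((𝟙 I) ^ m) ≫ b) by
      rw [BC.pow_comp, Category.id_comp, BC.comp_pow, BC.comp_pow],
    hkI, MonObj.one_comp, MonObj.comp_one, MonObj.comp_one]

omit p [Fact p.Prime] [CharP k p] in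
/-- A subgroup with a quotient of finite exponent has a quasi-complement. -/
theorem exists_quasiComplement (hS : IsSA S) (hq : AlgGrp.IsKernel s q) {N : ℕ} (hN : 0 < N)
    (hkill : (𝟙 Q) ^ N = 1) :
    ∃ (H : Over (Spec (CommRingCat.of k))) (_ : GrpObj H) (h : H ⟶ G), IsMonHom h ∧ IsClosedImmersion h.left ∧
      Flat ((s ⊗ₘ h) ≫ μ[G]).left ∧ Surjective ((s ⊗ₘ h) ≫ μ[G]).left ∧
      IsFinite (pullback.fst s.left h.left ≫ S.hom) := by
  haveI := GrpSchLib.AntiAffine.isSeparated_grp G
  haveI := GrpSchLib.AntiAffine.isSeparated_grp S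
  haveI := isCommMonObj_sub s
  haveI : LocallyOfFiniteType S.hom := by rw [← Over.w s]; infer_instance
  haveI : QuasiCompact S.hom := by rw [← Over.w s]; infer_instance
  haveI : Mono s := Over.mono_of_mono_left _
  haveI := isMonHom_pow G N
  have h1 : ((𝟙 G) ^ N) ≫ q = toUnit G ≫ η[Q] := by
    rw [BC.pow_comp, Category.id_comp, ← Category.comp_id q, ← BC.comp_pow, hkill, MonObj.comp_one]
    rfl
  let φ : G ⟶ S := hq.lift ((𝟙 G) ^ N) (toUnit G) h1
  have hφ : φ ≫ s = (𝟙 G) ^ N := hq.lift_fst _ _ _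
  haveI : IsMonHom φ := LargeNormal.isMonHom_of_mul _ fun U a b => by
    rw [← cancel_mono s, Category.assoc, hφ, MonObj.mul_comp, MonObj.mul_comp, Category.assoc, Category.assoc, hφ]
  have hsφ : s ≫ φ = (𝟙 S) ^ N := by
    rw [← cancel_mono s, Category.assoc, hφ, BC.comp_pow, Category.comp_id, BC.pow_comp, Category.id_comp]
  obtain ⟨H, _, h, hh, hhc, -, hkH⟩ := GrpSchLib.exists_kernel φ
  haveI := hh; haveI := hhc
  haveI := hS.surjective_pow hN; haveI := hS.flat_pow hN; haveI := hS.isFinite_pow hN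
  haveI := isMonHom_pow S N
  let Ψ : S ⊗ H ⟶ G := (s ⊗ₘ h) ≫ μ[G]
  have hΨ : Ψ = (fst S H ≫ s) * (snd S H ≫ h) := by
    rw [Hom.mul_def]; congr 1
  have hpb : IsPullback Ψ (fst S H) φ ((𝟙 S) ^ N) := by
    refine ⟨⟨?_⟩, ⟨PullbackCone.IsLimit.mk _ (fun c => lift c.snd (hkH.lift (c.fst * (c.snd ≫ s)⁻¹) (toUnit _) (by
        rw [MonObj.mul_comp, GrpObj.inv_comp, Category.assoc, hsφ, c.condition, mul_inv_cancel, Hom.one_def])))
      (fun c => ?_) (fun c => lift_fst _ _) (fun c m h1 h2 => ?_)⟩⟩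
    · rw [hΨ, MonObj.mul_comp, Category.assoc, Category.assoc, hsφ, hkH.w, ← Category.assoc, comp_toUnit,
        ← Hom.one_def, _root_.mul_one]
    · rw [hΨ, MonObj.comp_mul, lift_fst_assoc, lift_snd_assoc, hkH.lift_fst, mul_comm, inv_mul_cancel_right]
    · apply CartesianMonoidalCategory.hom_ext
      · rw [lift_fst, h2]
      · rw [lift_snd]
        refine hkH.hom_ext ?_ (toUnit_unique _ _)
        rw [hkH.lift_fst, eq_mul_inv_iff_mul_eq, ← h1, ← h2, hΨ, MonObj.comp_mul, Category.assoc, Category.assoc, mul_comm]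
  have hl := hpb.map (Over.forget _)
  refine ⟨H, inferInstance, h, hh, hhc,
    MorphismProperty.of_isPullback (P := @Flat) hl.flip (show Flat ((𝟙 S) ^ N).left from inferInstance),
    MorphismProperty.of_isPullback (P := @Surjective) hl.flip (show Surjective ((𝟙 S) ^ N).left from inferInstance), ?_⟩
  obtain ⟨K, _, κ, hκ, hκc, -, hkK⟩ := GrpSchLib.exists_kernel ((𝟙 S) ^ N)
  haveI := hκ; haveI := hκc
  haveI : IsFinite K.hom := isFinite_kernel_of_finite κ _ hkK
  let P : Over (Spec (CommRingCat.of k)) := Over.mk (pullback.fst s.left h.left ≫ S.hom)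
  let y : P ⟶ S := Over.homMk (pullback.fst s.left h.left) rfl
  let z : P ⟶ H := Over.homMk (pullback.snd s.left h.left) (by
    show _ = pullback.fst s.left h.left ≫ S.hom
    rw [← Over.w s, pullback.condition_assoc, Over.w h])
  have hyz : y ≫ s = z ≫ h := Over.OverMorphism.ext pullback.condition
  let e := hkK.lift y (toUnit P) (by
    rw [← hsφ, ← Category.assoc, hyz, Category.assoc, hkH.w, ← Category.assoc, comp_toUnit])
  have he : e ≫ κ = y := hkK.lift_fst _ _ _
  haveI : IsClosedImmersion y.left := inferInstanceAs (IsClosedImmersion (pullback.fst s.left h.left))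
  haveI : IsClosedImmersion e.left := by
    haveI : IsClosedImmersion (e.left ≫ κ.left) := by rw [← Over.comp_left, he]; infer_instance
    exact IsClosedImmersion.of_comp e.left κ.left
  have hPf : IsFinite P.hom := by rw [← Over.w e]; infer_instance
  exact hPf

end Groth.Agent.Chevalley.CommAff
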