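import Groth.Agent.Chevalley.CommAff.SemiAb
import Groth.Agent.GrpSchLib.QuasiFinitePow
import Groth.Agent.S5253

/-!
Commutative groups without semi-abelian subgroups in positive characteristic have finite exponent.
-/

set_option autoImplicit false
set_option backward.isDefEq.respectTransparency false
set_option maxHeartbeats 1000000
set_option linter.style.haveILetI false
universe u
open CategoryTheory CategoryTheory.Limits AlgebraicGeometry MonoidalCategory CartesianMonoidalCategory
open scoped MonObj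
open Groth.Agent.GrpSchLib Groth.Agent.GrpSchLib.AffineHopf

namespace Groth.Agent.Chevalley.CommAff

variable {k : Type u} [Field k]

/-- Finite commutative groups have finite exponent. -/
theorem exists_exponent_finite (F : Over (Spec (CommRingCat.of k))) [GrpObj F] [IsCommMonObj F] [IsFinite F.hom] :
    ∃ n : ℕ, 0 < n ∧ (𝟙 F) ^ n = 1 := by
  haveI : IsAffine F.left := isAffine_of_isAffineHom F.hom
  obtain ⟨A, _, _, ⟨eF⟩⟩ := exists_hopf F
  let e : sp k A ≅ F := (Grp.forget _).mapIso eF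
  haveI : IsMonHom e.hom := eF.hom.hom.isMonHom_hom
  haveI : Coalgebra.IsCocomm k A := isCocomm_of_iso e.hom
  haveI : IsIso e.hom.left := inferInstanceAs (IsIso ((Over.forget _).map e.hom))
  haveI : IsFinite (sp k A).hom := by rw [← Over.w e.hom]; infer_instance
  haveI : Module.Finite k A := RingHom.finite_algebraMap.mp ((IsFinite.SpecMap_iff _).mp ‹IsFinite (sp k A).hom›)
  obtain ⟨n, hn, h⟩ := S5253.result k A (Algebra.FinitePresentation.of_finiteType.mp inferInstance)
  refine ⟨n, hn, ?_⟩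
  have h1 : (𝟙 (sp k A)) ^ n = 1 := by
    rw [← spMap_powConv, show (1 : sp k A ⟶ sp k A) = spMap (1 : WithConv (A →ₐ[k] A)).ofConv from (map_one Spec.mapMulEquiv).symm]
    congr 1
    exact AlgHom.ext h
  have h2 : e.hom ≫ (𝟙 F) ^ n = e.hom ≫ 1 := by
    rw [BC.comp_pow, Category.comp_id, MonObj.comp_one,
      show e.hom ^ n = ((𝟙 (sp k A)) ^ n) ≫ e.hom by rw [BC.pow_comp, Category.id_comp], h1, MonObj.one_comp]
  exact (cancel_epi e.hom).mp h2

/-- Every semi-abelian closed subgroup is trivial. -/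
def NoSA (G : Over (Spec (CommRingCat.of k))) [GrpObj G] : Prop :=
  ∀ (S : Over (Spec (CommRingCat.of k))) [GrpObj S] (s : S ⟶ G) [IsMonHom s] [IsClosedImmersion s.left],
    IsSA S → IsIso η[S]

theorem NoSA.of_sub {G H : Over (Spec (CommRingCat.of k))} [GrpObj G] [GrpObj H] (hG : NoSA G) (h : H ⟶ G)
    [IsMonHom h] [IsClosedImmersion h.left] : NoSA H := fun S _ s _ _ hS => by
  haveI : IsClosedImmersion (s ≫ h).left := by rw [Over.comp_left]; infer_instance
  exact hG S (s ≫ h) hS

theorem isSA_torus {T : Over (Spec (CommRingCat.of k))} [GrpObj T] (hT : Red.IsTorus T) : IsSA T := by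
  obtain ⟨h1, h2, h3, h4, h5⟩ := torus_props hT
  have hs : Smooth (𝟙_ (Over (Spec (CommRingCat.of k)))).hom := inferInstanceAs (Smooth (𝟙 (Spec (CommRingCat.of k))))
  have hc : ConnectedSpace (𝟙_ (Over (Spec (CommRingCat.of k)))).left := inferInstanceAs (ConnectedSpace ↥(Spec (CommRingCat.of k)))
  refine ⟨T, inferInstance, 𝟙 T, 𝟙_ _, inferInstance, toUnit T, inferInstance, by rw [Over.id_left]; infer_instance,
    hT, inferInstance, ?_, ?_, ?_, inferInstanceAs (IsProper (𝟙 (Spec (CommRingCat.of k)))), hs, hc⟩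
  · haveI : Surjective T.hom := ⟨fun x => ⟨η[T].left x, Subsingleton.elim (α := PrimeSpectrum k) _ _⟩⟩
    exact inferInstanceAs (Surjective T.hom)
  · exact inferInstanceAs (Flat T.hom)
  · haveI : IsIso η[𝟙_ (Over (Spec (CommRingCat.of k)))] := ⟨toUnit _, toUnit_unique _ _, toUnit_unique _ _⟩
    exact IsPullback.of_horiz_isIso ⟨toUnit_unique _ _⟩

theorem eq_one_of_isIso_eta {N X : Over (Spec (CommRingCat.of k))} [GrpObj N] [GrpObj X] (hN : IsIso η[N]) (f : N ⟶ X)
    [IsMonHom f] : f = 1 := BC.eq_one_of_trivial hN f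

theorem isIso_eta_of_id_eq_one {N : Over (Spec (CommRingCat.of k))} [GrpObj N] (h : 𝟙 N = (1 : N ⟶ N)) :
    IsIso η[N] := ⟨toUnit N, toUnit_unique _ _, h.symm⟩

/-- In characteristic `p`, a group without semi-abelian subgroups has finite exponent. -/
theorem NoSA.exists_exponent (p : ℕ) [Fact p.Prime] [CharP k p] {G : Over (Spec (CommRingCat.of k))} [GrpObj G]
    [IsCommMonObj G] [LocallyOfFiniteType G.hom] [QuasiCompact G.hom] (hG : NoSA G) :
    ∃ n : ℕ, 0 < n ∧ (𝟙 G) ^ n = 1 := by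
  obtain ⟨N, _, j, Q, _, q, ⟨hj, hjc, -, hNa, hq, hqs, hqf, hkq, hQp⟩, -, -⟩ := BC.exists_smallest_quot G
  haveI := hj; haveI := hjc; haveI : IsAffine N.left := hNa
  haveI := hq; haveI := hqs; haveI := hqf; haveI := hQp
  haveI := GrpSchLib.AntiAffine.isSeparated_grp G
  haveI := isCommMonObj_sub j
  haveI : LocallyOfFiniteType N.hom := by rw [← Over.w j]; infer_instance
  obtain ⟨T, _, iT, hiT, hiTc, hT, -, hpow⟩ := exists_maxTorus N
  obtain ⟨n, t, hn, ht⟩ := hpow p
  haveI := hiT; haveI := hiTc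
  haveI : IsClosedImmersion (iT ≫ j).left := by rw [Over.comp_left]; infer_instance
  have hiT1 : iT = 1 := eq_one_of_isIso_eta (hG T (iT ≫ j) (isSA_torus hT)) iT
  haveI := isMonHom_pow G n
  have hkill : j ≫ (𝟙 G) ^ n = toUnit N ≫ η[G] := by
    rw [BC.comp_pow, Category.comp_id, show j ^ n = ((𝟙 N) ^ n) ≫ j by rw [BC.pow_comp, Category.id_comp], ← ht,
      hiT1, MonObj.comp_one, MonObj.one_comp]
    rfl
  obtain ⟨u, hu', hu, -⟩ := S3280.result k G N Q G q j hkq ((𝟙 G) ^ n) hkill
  haveI := hu'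
  obtain ⟨I, _, π, b, hπ, hb, hπb, hbc, hπf, hπs, hIl, hIq⟩ := GrpSchLib.ImageFactor.exists_image u
  haveI := hπ; haveI := hb; haveI := hbc; haveI := hπs; haveI := hIl; haveI := hIq
  haveI := GrpSchLib.AntiAffine.isSeparated_grp I
  haveI : IsProper I.hom := BC.isProper_of_surjective π
  haveI := isCommMonObj_sub b
  obtain ⟨J, _, r, K, _, κ, hr, hJ, hJl, hJq, hrf, hrs, hκ, hκc, hk, hK⟩ := Rosenlicht.exists_antiAffine_kernel I
  haveI := hr; haveI := hJ; haveI := hrf; haveI := hrs; haveI := hκ; haveI := hκc; haveI := hJl; haveI := hJq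
  haveI : LocallyOfFiniteType K.hom := by rw [← Over.w κ]; infer_instance
  haveI : QuasiCompact K.hom := by rw [← Over.w κ]; infer_instance
  haveI : IsIso η[K] := (hG.of_sub b).of_sub κ K (𝟙 K) (isSA_of_antiAffine p hK)
  haveI : IsIso K.hom := by
    haveI : IsIso (toUnit K) := ⟨η[K], by rw [← cancel_epi η[K]]; simp, toUnit_unique _ _⟩
    exact inferInstanceAs (IsIso ((Over.forget _).map (toUnit K)))
  haveI : QuasiCompact (r.left ≫ J.hom) := by rw [Over.w r]; infer_instance
  haveI := GrpSchLib.AntiAffine.isSeparated_grp J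
  haveI : QuasiCompact r.left := QuasiCompact.of_comp r.left J.hom
  haveI := EtFound.fpqc_isFinite.{u}
  haveI : IsFinite r.left := S7982.property_of_kernel κ r hk @IsFinite inferInstance
  haveI : IsAffine I.left := isAffine_of_isAffineHom r.left
  haveI : IsFinite I.hom := IsFinite.iff_isProper_and_isAffineHom.mpr ⟨inferInstance, inferInstance⟩
  obtain ⟨m, hm, hkI⟩ := exists_exponent_finite I
  refine ⟨n * m, Nat.mul_pos hn hm, ?_⟩
  rw [pow_mul, ← hu, ← hπb, show (q ≫ π ≫ b) ^ m = q ≫ π ≫ (((𝟙 I) ^ m) ≫ b) by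
    rw [BC.pow_comp, Category.id_comp, BC.comp_pow, BC.comp_pow], hkI, MonObj.one_comp, MonObj.comp_one, MonObj.comp_one]

end Groth.Agent.Chevalley.CommAff
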