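import Groth.Agent.Chevalley.CommAff.SAOps
import Groth.Agent.Chevalley.CommAff.SAComm

/-!
Extensions of semi-abelian varieties over an algebraically closed field are commutative.
-/

set_option autoImplicit false
set_option backward.isDefEq.respectTransparency false
set_option maxHeartbeats 1000000
set_option linter.style.haveILetI false
universe u
open CategoryTheory CategoryTheory.Limits AlgebraicGeometry MonoidalCategory CartesianMonoidalCategory
open scoped MonObj
open Groth.Agent.GrpSchLib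

namespace Groth.Agent.Chevalley.CommAff

variable {k : Type u} [Field k]

theorem proper_antiAffine (A : Over (Spec (CommRingCat.of k))) [GrpObj A] [IsProper A.hom] [Smooth A.hom]
    [ConnectedSpace A.left] : Function.Bijective A.hom.appTop := by
  haveI : GeometricallyIntegral A.hom := AlbQuotLib.geometricallyIntegral A
  haveI : GeometricallyReduced A.hom := inferInstance
  haveI : GeometricallyConnected A.hom := H23.CubeAb.geometricallyConnected_of_integral A.hom
  exact H23.CubeField.bijective_appTop_of_connected A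

theorem comp_toUnit_one {X : Over (Spec (CommRingCat.of k))} {G : Over (Spec (CommRingCat.of k))}
    (g : 𝟙_ (Over (Spec (CommRingCat.of k))) ⟶ G) (x : 𝟙_ (Over (Spec (CommRingCat.of k))) ⟶ X) :
    x ≫ toUnit X ≫ g = g := by
  rw [← Category.assoc, toUnit_unique (x ≫ toUnit X) (𝟙 _), Category.id_comp]

/-- Morphisms from a reduced scheme which agree on all rational points agree. -/
theorem eq_of_pts [IsAlgClosed k] {X Y : Over (Spec (CommRingCat.of k))} [AlgebraicGeometry.IsReduced X.left]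
    [LocallyOfFiniteType X.hom] [LocallyOfFiniteType Y.hom] [IsSeparated Y.hom] (f g : X ⟶ Y)
    (h : ∀ x : 𝟙_ (Over (Spec (CommRingCat.of k))) ⟶ X, x ≫ f = x ≫ g) : f = g := by
  refine Over.OverMorphism.ext ?_
  haveI : LocallyOfFiniteType (f.left ≫ Y.hom) := by rw [Over.w f]; infer_instance
  refine ext_of_apply_eq Y.hom Set.univ isClosed_univ.isLocallyClosed dense_univ (fun x _ hx => ?_)
    ((Over.w f).trans (Over.w g).symm)
  let p : 𝟙_ (Over (Spec (CommRingCat.of k))) ⟶ X :=
    Over.homMk (pointOfClosedPoint X.hom x hx) (pointOfClosedPoint_comp _ x hx)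
  have hp := congrArg (fun m => m.left (IsLocalRing.closedPoint k)) (h p)
  simp only [Over.comp_left, Scheme.Hom.comp_apply] at hp
  rwa [show p.left (IsLocalRing.closedPoint k) = x from pointOfClosedPoint_apply X.hom x hx _] at hp

theorem isReduced_tensor (X Y : Over (Spec (CommRingCat.of k))) [Smooth X.hom] [Smooth Y.hom] :
    AlgebraicGeometry.IsReduced (X ⊗ Y).left ∧ LocallyOfFiniteType (X ⊗ Y).hom := by
  haveI : Smooth (pullback.fst X.hom Y.hom) := MorphismProperty.pullback_fst _ _ inferInstance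
  haveI : Smooth (X ⊗ Y).hom := inferInstanceAs (Smooth (pullback.fst X.hom Y.hom ≫ X.hom))
  exact ⟨GrpSchLib.isReduced_of_smooth_field (X ⊗ Y).hom, inferInstance⟩

variable {G : Over (Spec (CommRingCat.of k))} [GrpObj G]

/-- The commutator with a rational point on a group whose commutators with it are central. -/
theorem isMonHom_commutator {X : Over (Spec (CommRingCat.of k))} [GrpObj X] (φ : X ⟶ G) [IsMonHom φ]
    (g : 𝟙_ (Over (Spec (CommRingCat.of k))) ⟶ G)
    (hc : ∀ (U : Over (Spec (CommRingCat.of k))) (b : U ⟶ X) (z : U ⟶ G),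
      (b ≫ ((toUnit X ≫ g) * φ * (toUnit X ≫ g)⁻¹ * φ⁻¹)) * z = z * (b ≫ ((toUnit X ≫ g) * φ * (toUnit X ≫ g)⁻¹ * φ⁻¹))) :
    IsMonHom ((toUnit X ≫ g) * φ * (toUnit X ≫ g)⁻¹ * φ⁻¹) := by
  refine LargeNormal.isMonHom_of_mul _ fun U a b => ?_
  have e : ∀ c : U ⟶ X, c ≫ ((toUnit X ≫ g) * φ * (toUnit X ≫ g)⁻¹ * φ⁻¹) =
      (toUnit U ≫ g) * (c ≫ φ) * (toUnit U ≫ g)⁻¹ * (c ≫ φ)⁻¹ := fun c => by
    simp only [MonObj.comp_mul, GrpObj.comp_inv, comp_toUnit_assoc]
  have h := hc U b (a ≫ φ)⁻¹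
  rw [e] at h
  rw [e, e, e, MonObj.mul_comp]
  generalize toUnit U ≫ g = gg at *
  generalize a ≫ φ = x at *
  generalize b ≫ φ = y at *
  calc gg * (x * y) * gg⁻¹ * (x * y)⁻¹ = gg * x * gg⁻¹ * ((gg * y * gg⁻¹ * y⁻¹) * x⁻¹) := by group
    _ = gg * x * gg⁻¹ * (x⁻¹ * (gg * y * gg⁻¹ * y⁻¹)) := by rw [h]
    _ = _ := by group

/-- A central extension of an abelian variety is commutative. -/
theorem comm_of_central_proper {A E : Over (Spec (CommRingCat.of k))} [GrpObj A] [LocallyOfFiniteType G.hom]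
    [QuasiCompact G.hom] [ConnectedSpace G.left] [IsProper A.hom] [Smooth A.hom] [ConnectedSpace A.left] (q : G ⟶ A)
    [IsMonHom q] [Flat q.left] [Surjective q.left] (e : E ⟶ G) (hk : AlgGrp.IsKernel e q)
    (hcen : ∀ (X : Over (Spec (CommRingCat.of k))) (z : X ⟶ E) (x : X ⟶ G), (z ≫ e) * x = x * (z ≫ e)) :
    IsCommMonObj G := by
  haveI := GrpSchLib.AntiAffine.isSeparated_grp A
  haveI := GrpSchLib.AntiAffine.isSeparated_grp G
  haveI : QuasiCompact (q.left ≫ A.hom) := by rw [Over.w q]; infer_instance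
  haveI : QuasiCompact q.left := QuasiCompact.of_comp q.left A.hom
  have hc : ∀ (X : Over (Spec (CommRingCat.of k))) (z x : X ⟶ G), z ≫ q = 1 → z * x = x * z := by
    intro X z x hz
    have := hcen X (hk.lift z (toUnit X) (by rw [hz, Hom.one_def])) x
    rwa [hk.lift_fst] at this
  let c : G ⊗ G ⟶ G := fst G G * snd G G * (fst G G)⁻¹ * (snd G G)⁻¹
  have hc' : ∀ (X : Over (Spec (CommRingCat.of k))) (x y : X ⟶ G), lift x y ≫ c = x * y * x⁻¹ * y⁻¹ := by
    intro X x y
    simp only [c, MonObj.comp_mul, GrpObj.comp_inv, lift_fst, lift_snd]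
  let qq : G ⊗ G ⟶ A ⊗ A := q ⊗ₘ q
  have h6 : (@Flat ⊓ @Surjective ⊓ @QuasiCompact : MorphismProperty Scheme.{u}) q.left := ⟨⟨‹_›, ‹_›⟩, ‹_›⟩
  have hqq : (@Flat ⊓ @Surjective ⊓ @QuasiCompact : MorphismProperty Scheme.{u}) qq.left := by
    simp only [qq, MonoidalCategory.tensorHom_def, Over.comp_left]
    exact MorphismProperty.comp_mem _ _ _
      (MorphismProperty.of_isPullback ((FpqcDescLib.isPullback_whiskerRight q G).map (Over.forget _)).flip h6)
      (MorphismProperty.of_isPullback ((FpqcDescLib.isPullback_whiskerLeft q A).map (Over.forget _)).flip h6)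
  haveI : Flat qq.left := hqq.1.1
  haveI : Surjective qq.left := hqq.1.2
  haveI : QuasiCompact qq.left := hqq.2
  have hdesc : ∀ {Z : Scheme.{u}} (g₁ g₂ : Z ⟶ (G ⊗ G).left), g₁ ≫ qq.left = g₂ ≫ qq.left →
      g₁ ≫ c.left = g₂ ≫ c.left := by
    intro Z g₁ g₂ hg
    let Z' : Over (Spec (CommRingCat.of k)) := Over.mk (g₁ ≫ (G ⊗ G).hom)
    let a₁ : Z' ⟶ G ⊗ G := Over.homMk g₁ rfl
    let a₂ : Z' ⟶ G ⊗ G := Over.homMk g₂ (by
      show g₂ ≫ _ = g₁ ≫ _
      rw [← Over.w qq, ← Category.assoc, ← Category.assoc, hg])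
    have ha : a₁ ≫ qq = a₂ ≫ qq := Over.OverMorphism.ext hg
    suffices e : a₁ ≫ c = a₂ ≫ c from congrArg (fun m => m.left) e
    have e1 := congrArg (· ≫ fst A A) ha
    have e2 := congrArg (· ≫ snd A A) ha
    simp only [qq, Category.assoc, tensorHom_fst, tensorHom_snd] at e1 e2
    rw [show a₁ = lift (a₁ ≫ fst G G) (a₁ ≫ snd G G) by ext <;> simp,
      show a₂ = lift (a₂ ≫ fst G G) (a₂ ≫ snd G G) by ext <;> simp, hc', hc']
    have hz₁ : (a₁ ≫ fst G G * (a₂ ≫ fst G G)⁻¹) ≫ q = 1 := by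
      rw [MonObj.mul_comp, GrpObj.inv_comp, Category.assoc, Category.assoc, e1, mul_inv_cancel]
    have hz₂ : (a₁ ≫ snd G G * (a₂ ≫ snd G G)⁻¹) ≫ q = 1 := by
      rw [MonObj.mul_comp, GrpObj.inv_comp, Category.assoc, Category.assoc, e2, mul_inv_cancel]
    generalize a₁ ≫ fst G G = x₁ at *
    generalize a₂ ≫ fst G G = x₂ at *
    generalize a₁ ≫ snd G G = y₁ at *
    generalize a₂ ≫ snd G G = y₂ at *
    obtain ⟨z, rfl⟩ : ∃ z, x₁ = z * x₂ := ⟨x₁ * x₂⁻¹, by rw [inv_mul_cancel_right]⟩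
    obtain ⟨w, rfl⟩ : ∃ w, y₁ = w * y₂ := ⟨y₁ * y₂⁻¹, by rw [inv_mul_cancel_right]⟩
    rw [mul_inv_cancel_right] at hz₁ hz₂
    have cz : ∀ t, z * t = t * z := fun t => hc _ z t hz₁
    have cw : ∀ t, w * t = t * w := fun t => hc _ w t hz₂
    calc (z * x₂) * (w * y₂) * (z * x₂)⁻¹ * (w * y₂)⁻¹
        = z * (x₂ * w) * y₂ * x₂⁻¹ * (z⁻¹ * (y₂⁻¹ * w⁻¹)) := by group
      _ = z * (w * x₂) * y₂ * x₂⁻¹ * (z⁻¹ * (y₂⁻¹ * w⁻¹)) := by rw [cw x₂]
      _ = z * (w * (x₂ * y₂ * x₂⁻¹)) * z⁻¹ * (y₂⁻¹ * w⁻¹) := by group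
      _ = w * (x₂ * y₂ * x₂⁻¹) * y₂⁻¹ * w⁻¹ := by rw [cz, mul_inv_cancel_right, ← _root_.mul_assoc]
      _ = x₂ * y₂ * x₂⁻¹ * y₂⁻¹ := by rw [_root_.mul_assoc w, cw, mul_inv_cancel_right]
  let bl : (A ⊗ A).left ⟶ G.left := EffectiveEpi.desc qq.left c.left fun g₁ g₂ hg => hdesc g₁ g₂ hg
  have hbl : qq.left ≫ bl = c.left := EffectiveEpi.fac _ _ _
  let b : A ⊗ A ⟶ G := Over.homMk bl (by rw [← cancel_epi qq.left, reassoc_of% hbl, Over.w, Over.w])
  have hb : qq ≫ b = c := Over.OverMorphism.ext hbl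
  haveI : Epi qq := (Over.forget _).epi_of_epi_map (inferInstanceAs (Epi qq.left))
  haveI : Epi q := epi_of_cover q
  have hA := proper_antiAffine A
  have hAA : Function.Bijective (A ⊗ A).hom.appTop := H23.CubeField.bijective_appTop_prod A A hA hA
  have hb1 : η[A ⊗ A] ≫ b = 1 := by
    rw [show η[A ⊗ A] = lift η[G] η[G] ≫ qq by
      rw [lift_map, IsMonHom.one_hom q]
      apply CartesianMonoidalCategory.hom_ext <;> simp, Category.assoc, hb, hc']
    simp [MonObj.one_eq_one]
  haveI : LocallyOfFiniteType (A ⊗ A).hom :=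
    inferInstanceAs (LocallyOfFiniteType (pullback.fst A.hom A.hom ≫ A.hom))
  haveI : QuasiCompact (A ⊗ A).hom := inferInstanceAs (QuasiCompact (pullback.fst A.hom A.hom ≫ A.hom))
  haveI : IsMonHom b := GrpSchLib.AntiAffine.isMonHom_of_one hAA b hb1
  have hl : lift (𝟙 A) (1 : A ⟶ A) ≫ b = 1 := by
    rw [← cancel_epi q, MonObj.comp_one, show q ≫ lift (𝟙 A) (1 : A ⟶ A) ≫ b = lift (𝟙 G) (1 : G ⟶ G) ≫ c by
      rw [← hb, lift_map_assoc, ← Category.assoc q, comp_lift, Category.comp_id, Category.id_comp, MonObj.comp_one,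
        MonObj.one_comp], hc']
    simp
  have hr : lift (1 : A ⟶ A) (𝟙 A) ≫ b = 1 := by
    rw [← cancel_epi q, MonObj.comp_one, show q ≫ lift (1 : A ⟶ A) (𝟙 A) ≫ b = lift (1 : G ⟶ G) (𝟙 G) ≫ c by
      rw [← hb, lift_map_assoc, ← Category.assoc q, comp_lift, Category.comp_id, Category.id_comp, MonObj.comp_one,
        MonObj.one_comp], hc']
    simp
  have hb0 : b = 1 := by
    have e : 𝟙 (A ⊗ A) = (fst A A ≫ lift (𝟙 A) (1 : A ⟶ A)) * (snd A A ≫ lift (1 : A ⟶ A) (𝟙 A)) := by
      apply CartesianMonoidalCategory.hom_ext <;> simp [MonObj.mul_comp]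
    rw [← Category.id_comp b, e, MonObj.mul_comp, Category.assoc, Category.assoc, hl, hr, MonObj.comp_one,
      MonObj.comp_one, _root_.one_mul]
  have hc1 : c = 1 := by rw [← hb, hb0, MonObj.comp_one]
  refine ⟨?_⟩
  have h7 : fst G G * snd G G = snd G G * fst G G := mul_inv_eq_one.mp (show _ = (1 : G ⊗ G ⟶ G) by
    rw [mul_inv_rev, ← _root_.mul_assoc]; exact hc1)
  have e : μ[G] = fst G G * snd G G := by rw [Hom.mul_def, lift_fst_snd, Category.id_comp]
  rw [e, MonObj.comp_mul, braiding_hom_fst, braiding_hom_snd]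
  exact h7.symm

variable [IsAlgClosed k] [Smooth G.hom] [QuasiCompact G.hom] [ConnectedSpace G.left]

/-- An extension of semi-abelian varieties over an algebraically closed field is commutative. -/
theorem isCommMonObj_ext {G' G'' : Over (Spec (CommRingCat.of k))} [GrpObj G'] [GrpObj G'']
    [LocallyOfFiniteType G''.hom] [QuasiCompact G''.hom] (j : G' ⟶ G) [IsMonHom j] [IsClosedImmersion j.left]
    (p : G ⟶ G'') [IsMonHom p] [Surjective p.left] [Flat p.left] (hex : AlgGrp.IsKernel j p)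
    (hS' : IsSA G') (hS'' : IsSA G'') : IsCommMonObj G := by
  haveI := GrpSchLib.AntiAffine.isSeparated_grp G
  haveI := GrpSchLib.AntiAffine.isSeparated_grp G''
  haveI : LocallyOfFiniteType G'.hom := by rw [← Over.w j]; infer_instance
  haveI : QuasiCompact G'.hom := by rw [← Over.w j]; infer_instance
  haveI : Mono j := Over.mono_of_mono_left _
  haveI := hS''.isCommMonObj
  obtain ⟨hG's, hG'c⟩ := hS'.props
  obtain ⟨T', _, i', A', _, q', hi', hi'c, hT', hq', hq's, hq'f, hk', hA'p, hA's, hA'c⟩ := hS'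
  haveI := hi'; haveI := hi'c; haveI := hq'; haveI := hq's; haveI := hq'f; haveI := hA'p; haveI := hA's; haveI := hA'c
  obtain ⟨T'', _, i'', A'', _, q'', hi'', hi''c, hT'', hq'', hq''s, hq''f, hk'', hA''p, hA''s, hA''c⟩ := hS''
  haveI := hi''; haveI := hi''c; haveI := hq''; haveI := hq''s; haveI := hq''f; haveI := hA''p; haveI := hA''s; haveI := hA''c
  obtain ⟨hT's, hT'a, hT'cn, -, hT'q⟩ := torus_props hT'
  obtain ⟨hT''s, hT''a, hT''cn, -, hT''q⟩ := torus_props hT''
  haveI := GrpSchLib.AntiAffine.isSeparated_grp A'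
  haveI := GrpSchLib.AntiAffine.isSeparated_grp T'
  haveI : Mono i' := Over.mono_of_mono_left _
  -- the torus of `G'` is normal
  have hn : AlgGrp.IsNormalHom (i' ≫ j) := by
    obtain ⟨h1, h2⟩ := isReduced_tensor G T'
    haveI := h1; haveI := h2
    let cj : G ⊗ T' ⟶ G := fst G T' * (snd G T' ≫ i' ≫ j) * (fst G T')⁻¹
    have hcp : cj ≫ p = toUnit _ ≫ η[G''] := by
      simp only [cj, MonObj.mul_comp, GrpObj.inv_comp, Category.assoc]
      rw [mul_comm (fst G T' ≫ p), mul_inv_cancel_right, hex.w, ← Category.assoc i', comp_toUnit,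
        ← Category.assoc, comp_toUnit]
    let c₁ := hex.lift cj (toUnit _) hcp
    have hc₁ : c₁ ≫ j = cj := hex.lift_fst _ _ _
    have hcq : c₁ ≫ q' = toUnit _ ≫ η[A'] := by
      refine eq_of_pts _ _ fun x => ?_
      obtain ⟨g, t, rfl⟩ : ∃ g t, x = lift g t :=
        ⟨x ≫ fst G T', x ≫ snd G T', by apply CartesianMonoidalCategory.hom_ext <;> simp⟩
      let cg : T' ⟶ G := (toUnit T' ≫ g) * (i' ≫ j) * (toUnit T' ≫ g)⁻¹
      have hcg : cg = lift (toUnit T' ≫ g) (𝟙 T') ≫ cj := by
        simp only [cg, cj, MonObj.comp_mul, GrpObj.comp_inv, lift_fst, lift_snd_assoc, Category.id_comp]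
      haveI : IsMonHom cg := LargeNormal.isMonHom_of_mul _ fun U a b => by
        simp only [cg, MonObj.comp_mul, GrpObj.comp_inv, comp_toUnit_assoc, MonObj.mul_comp]
        group
      haveI : IsMonHom (lift (toUnit T' ≫ g) (𝟙 T') ≫ c₁) := LargeNormal.isMonHom_of_mul _ fun U a b => by
        rw [← cancel_mono j, Category.assoc]
        simp only [Category.assoc, hc₁, ← hcg, MonObj.mul_comp]
      have h := congrArg (t ≫ ·) (GrpSchLib.AffToProper.hom_eq_one ((lift (toUnit T' ≫ g) (𝟙 T') ≫ c₁) ≫ q'))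
      simp only [Category.assoc, MonObj.comp_one, comp_lift_assoc, comp_toUnit_one, Category.comp_id] at h
      rw [h, ← Category.assoc, comp_toUnit, Hom.one_def]
    intro U g x
    refine ⟨lift g x ≫ hk'.lift c₁ (toUnit _) hcq, ?_⟩
    rw [Category.assoc, hk'.lift_fst_assoc, hc₁]
    simp only [cj, MonObj.comp_mul, GrpObj.comp_inv, lift_fst, lift_snd_assoc]
  haveI : IsClosedImmersion (i' ≫ j).left := by rw [Over.comp_left]; infer_instance
  haveI : LocallyOfFiniteType T'.hom := inferInstance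
  obtain ⟨Q, _, r, hr, hrf, hrs, hrk, hQl, hQq⟩ := exists_quot (i' ≫ j) hn
  haveI := hr; haveI := hrf; haveI := hrs; haveI := hQl; haveI := hQq
  haveI := GrpSchLib.AntiAffine.isSeparated_grp Q
  haveI : ConnectedSpace Q.left := r.left.surjective.connectedSpace r.left.continuous
  haveI : QuasiCompact (r.left ≫ Q.hom) := by rw [Over.w r]; infer_instance
  haveI : QuasiCompact r.left := QuasiCompact.of_comp r.left Q.hom
  have hcT : ∀ (X : Over (Spec (CommRingCat.of k))) (h : X ⟶ T') (e : X ⟶ G), (h ≫ i' ≫ j) * e = e * (h ≫ i' ≫ j) :=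
    S5430.result _ G T' Q r (i' ≫ j) hrk (RankOne.isMultTypeFT_of_isTorus hT') (fun s => by
      rw [show Q.hom.base ⁻¹' {s} = Set.univ from Set.eq_univ_of_forall fun x => Subsingleton.elim (α := PrimeSpectrum k) _ _]
      exact connectedSpace_iff_univ.mp inferInstance)
  -- `G'` is central
  obtain ⟨u, hu', hu, -⟩ := S3280.result k G' T' A' Q q' i' hk' (j ≫ r) (by rw [← Category.assoc, hrk.w])
  haveI := hu'
  have hA := proper_antiAffine A'
  have hcG' : ∀ (X : Over (Spec (CommRingCat.of k))) (h : X ⟶ G') (e : X ⟶ G), (h ≫ j) * e = e * (h ≫ j) := by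
    suffices h0 : fst G G' * (snd G G' ≫ j) = (snd G G' ≫ j) * fst G G' by
      intro X h e
      have := congrArg (lift e h ≫ ·) h0
      simp only [MonObj.comp_mul, lift_fst, lift_snd_assoc] at this
      exact this.symm
    obtain ⟨h1, h2⟩ := isReduced_tensor G G'
    haveI := h1; haveI := h2
    refine eq_of_pts _ _ fun x => ?_
    obtain ⟨g, t, rfl⟩ : ∃ g t, x = lift g t :=
      ⟨x ≫ fst G G', x ≫ snd G G', by apply CartesianMonoidalCategory.hom_ext <;> simp⟩
    let gg : G' ⟶ G := toUnit G' ≫ g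
    let c : G' ⟶ G := gg * j * gg⁻¹ * j⁻¹
    have hcr : c ≫ r = toUnit G' ≫ η[Q] := by
      simp only [c, MonObj.mul_comp, GrpObj.inv_comp, ← hu]
      rw [← GrpSchLib.AntiAffine.commute hA u (IsMonHom.one_hom u) q' (gg ≫ r), mul_inv_cancel_right, mul_inv_cancel,
        Hom.one_def]
    let c' : G' ⟶ T' := hrk.lift c (toUnit _) hcr
    have hc' : c' ≫ i' ≫ j = c := hrk.lift_fst _ _ _
    haveI : IsMonHom c := isMonHom_commutator j g fun U b z => by
      show (b ≫ c) * z = z * (b ≫ c)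
      rw [← hc', ← Category.assoc b]
      exact hcT _ _ _
    haveI : Mono (i' ≫ j) := mono_comp _ _
    haveI : IsMonHom c' := LargeNormal.isMonHom_of_mul _ fun U a b => by
      rw [← cancel_mono (i' ≫ j), Category.assoc]
      simp only [Category.assoc, hc', MonObj.mul_comp]
    have hci : i' ≫ c' = toUnit T' ≫ η[T'] := by
      rw [← cancel_mono (i' ≫ j), Category.assoc, hc', Category.assoc, IsMonHom.one_hom (i' ≫ j), ← Hom.one_def]
      simp only [c, gg, MonObj.comp_mul, GrpObj.comp_inv, comp_toUnit_assoc]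
      have := hcT _ (𝟙 T') (toUnit T' ≫ g)
      rw [Category.id_comp] at this
      rw [← this, mul_inv_cancel_right, mul_inv_cancel]
    obtain ⟨v, hv', hv, -⟩ := S3280.result k G' T' A' T' q' i' hk' c' hci
    haveI := hv'
    haveI : IsAffine T'.left := hT'a
    have hc1 : c = 1 := by
      rw [← hc', ← hv, GrpSchLib.AntiAffine.eq_const_of_isAffine hA v η[A'], IsMonHom.one_hom v, ← Hom.one_def,
        MonObj.comp_one, MonObj.one_comp]
    have h := congrArg (t ≫ ·) hc1
    simp only [c, gg, MonObj.comp_mul, GrpObj.comp_inv, comp_toUnit_one, MonObj.comp_one] at h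
    simp only [MonObj.comp_mul, lift_fst, lift_snd_assoc]
    rw [mul_inv_eq_one, mul_inv_eq_iff_eq_mul] at h
    exact h
  -- the preimage of the torus of `G''`
  haveI := GrpSchLib.AntiAffine.isSeparated_grp A''
  obtain ⟨E, _, e, he, hec, -, hkE⟩ := GrpSchLib.exists_kernel (p ≫ q'')
  haveI := he; haveI := hec
  haveI : Mono e := Over.mono_of_mono_left _
  haveI : LocallyOfFiniteType E.hom := by rw [← Over.w e]; infer_instance
  haveI : QuasiCompact E.hom := by rw [← Over.w e]; infer_instance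
  let π : E ⟶ T'' := hk''.lift (e ≫ p) (toUnit _) (by rw [Category.assoc, hkE.w])
  have hπ : π ≫ i'' = e ≫ p := hk''.lift_fst _ _ _
  haveI : Mono i'' := Over.mono_of_mono_left _
  haveI : IsMonHom π := LargeNormal.isMonHom_of_mul _ fun U a b => by
    rw [← cancel_mono i'', Category.assoc, hπ]
    simp only [Category.assoc, hπ, MonObj.mul_comp]
  have hpb : IsPullback e π p i'' := by
    refine ⟨⟨hπ.symm⟩, ⟨PullbackCone.IsLimit.mk _ (fun s => hkE.lift s.fst (toUnit _) ?_)
      (fun s => hkE.lift_fst _ _ _) (fun s => ?_) (fun s m h1 _ => ?_)⟩⟩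
    · rw [← Category.assoc, s.condition, Category.assoc, hk''.w, ← Category.assoc, comp_toUnit]
    · rw [← cancel_mono i'', Category.assoc, hπ, ← Category.assoc, hkE.lift_fst, s.condition]
    · rw [← cancel_mono e, hkE.lift_fst, h1]
  have hl := hpb.map (Over.forget _)
  haveI : Flat π.left := MorphismProperty.of_isPullback (P := @Flat) hl (show Flat p.left from inferInstance)
  haveI : Surjective π.left := MorphismProperty.of_isPullback (P := @Surjective) hl (show Surjective p.left from inferInstance)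
  let j' : G' ⟶ E := hkE.lift j (toUnit _) (by rw [reassoc_of% hex.w, IsMonHom.one_hom q''])
  have hj' : j' ≫ e = j := hkE.lift_fst _ _ _
  haveI : IsMonHom j' := LargeNormal.isMonHom_of_mul _ fun U a b => by
    rw [← cancel_mono e, Category.assoc]
    simp only [Category.assoc, hj', MonObj.mul_comp]
  have hkj' : AlgGrp.IsKernel j' π := by
    refine ⟨⟨by rw [← cancel_mono i'', Category.assoc, hπ, ← Category.assoc, hj', hex.w, Category.assoc,
      IsMonHom.one_hom i'']⟩, ⟨PullbackCone.IsLimit.mk _ (fun s => hex.lift (s.fst ≫ e) (toUnit _) ?_)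
      (fun s => ?_) (fun s => toUnit_unique _ _) (fun s m h1 _ => ?_)⟩⟩
    · rw [Category.assoc, ← hπ, ← Category.assoc, show s.fst ≫ π = s.snd ≫ η[T''] from s.condition, Category.assoc,
        IsMonHom.one_hom i'', toUnit_unique s.snd (toUnit _)]
    · rw [← cancel_mono e, Category.assoc, hj', hex.lift_fst]
    · rw [← cancel_mono j, hex.lift_fst, ← h1, Category.assoc, hj']
  obtain ⟨hEs, hEc⟩ := ext_props j' π hkj'
  haveI := GrpSchLib.AntiAffine.isSeparated_grp T''
  haveI : QuasiCompact (π.left ≫ T''.hom) := by rw [Over.w π]; infer_instance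
  haveI : QuasiCompact π.left := QuasiCompact.of_comp π.left T''.hom
  have hEcomm := TorusBilin.comm_of_central hT'' π (fun X z x hz => by
    rw [← cancel_mono e, MonObj.mul_comp, MonObj.mul_comp]
    have h : (z ≫ e) ≫ p = toUnit X ≫ η[G''] := by
      rw [Category.assoc, ← hπ, ← Category.assoc, hz, MonObj.one_comp, Hom.one_def]
    rw [← hex.lift_fst (z ≫ e) (toUnit X) h]
    exact hcG' _ _ _)
  -- commutators with points of the preimage lie in the torus of `G'`
  have hland : ∀ (g : 𝟙_ (Over (Spec (CommRingCat.of k))) ⟶ G) (t : 𝟙_ (Over (Spec (CommRingCat.of k))) ⟶ E)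
      (w : 𝟙_ (Over (Spec (CommRingCat.of k))) ⟶ G'),
      w ≫ j = g * (t ≫ e) * g⁻¹ * (t ≫ e)⁻¹ → w ≫ q' = 1 := by
    intro g t w hw
    let gg : E ⟶ G := toUnit E ≫ g
    let c : E ⟶ G := gg * e * gg⁻¹ * e⁻¹
    have hcp : c ≫ p = toUnit E ≫ η[G''] := by
      simp only [c, MonObj.mul_comp, GrpObj.inv_comp]
      rw [mul_comm (gg ≫ p) (e ≫ p), mul_inv_cancel_right, mul_inv_cancel, Hom.one_def]
    let c' : E ⟶ G' := hex.lift c (toUnit _) hcp
    have hc' : c' ≫ j = c := hex.lift_fst _ _ _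
    haveI : IsMonHom c := isMonHom_commutator e g fun U b z => by
      show (b ≫ c) * z = z * (b ≫ c)
      rw [← hc', ← Category.assoc b]
      exact hcG' _ _ _
    haveI : IsMonHom c' := LargeNormal.isMonHom_of_mul _ fun U a b => by
      rw [← cancel_mono j, Category.assoc]
      simp only [Category.assoc, hc', MonObj.mul_comp]
    have hcj : j' ≫ c' = toUnit G' ≫ η[G'] := by
      rw [← cancel_mono j, Category.assoc, hc', Category.assoc, IsMonHom.one_hom j, ← Hom.one_def]
      simp only [c, gg, MonObj.comp_mul, GrpObj.comp_inv, comp_toUnit_assoc, hj']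
      have := hcG' _ (𝟙 G') (toUnit G' ≫ g)
      rw [Category.id_comp] at this
      rw [← this, mul_inv_cancel_right, mul_inv_cancel]
    obtain ⟨v, hv', hv, -⟩ := S3280.result k E G' T'' G' π j' hkj' c' hcj
    haveI := hv'
    haveI : IsAffine T''.left := hT''a
    have h1 : c' ≫ q' = 1 := by
      rw [← hv, Category.assoc, GrpSchLib.AffToProper.hom_eq_one (v ≫ q'), MonObj.comp_one]
    have h2 : w = t ≫ c' := by
      rw [← cancel_mono j, Category.assoc, hc', hw]
      simp only [c, gg, MonObj.comp_mul, GrpObj.comp_inv, comp_toUnit_one]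
    rw [h2, Category.assoc, h1, MonObj.comp_one]
  -- the preimage is central
  have hcE : ∀ (X : Over (Spec (CommRingCat.of k))) (h : X ⟶ E) (x : X ⟶ G), (h ≫ e) * x = x * (h ≫ e) := by
    suffices h0 : (fst E G ≫ e) * snd E G = snd E G * (fst E G ≫ e) by
      intro X h x
      have := congrArg (lift h x ≫ ·) h0
      simp only [MonObj.comp_mul, lift_fst_assoc, lift_snd] at this
      exact this
    obtain ⟨h1, h2⟩ := isReduced_tensor E G
    haveI := h1; haveI := h2
    refine eq_of_pts _ _ fun x => ?_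
    obtain ⟨t, g, rfl⟩ : ∃ t g, x = lift t g :=
      ⟨x ≫ fst E G, x ≫ snd E G, by apply CartesianMonoidalCategory.hom_ext <;> simp⟩
    let tt : G ⟶ G := toUnit G ≫ t ≫ e
    let c : G ⟶ G := tt * 𝟙 G * tt⁻¹ * (𝟙 G)⁻¹
    have hcp : c ≫ p = toUnit G ≫ η[G''] := by
      simp only [c, MonObj.mul_comp, GrpObj.inv_comp, Category.id_comp]
      rw [mul_comm (tt ≫ p) p, mul_inv_cancel_right, mul_inv_cancel, Hom.one_def]
    let c' : G ⟶ G' := hex.lift c (toUnit _) hcp
    have hc' : c' ≫ j = c := hex.lift_fst _ _ _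
    haveI : IsMonHom c := isMonHom_commutator (𝟙 G) (t ≫ e) fun U b z => by
      show (b ≫ c) * z = z * (b ≫ c)
      rw [← hc', ← Category.assoc b]
      exact hcG' _ _ _
    haveI : IsMonHom c' := LargeNormal.isMonHom_of_mul _ fun U a b => by
      rw [← cancel_mono j, Category.assoc]
      simp only [Category.assoc, hc', MonObj.mul_comp]
    haveI : AlgebraicGeometry.IsReduced G.left := GrpSchLib.isReduced_of_smooth_field G.hom
    have hcq : c' ≫ q' = toUnit G ≫ η[A'] := by
      refine eq_of_pts _ _ fun g₁ => ?_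
      have h3 := hland g₁ t ((g₁ ≫ c')⁻¹) (by
        rw [GrpObj.inv_comp, Category.assoc, hc']
        simp only [c, tt, MonObj.comp_mul, GrpObj.comp_inv, comp_toUnit_one, Category.comp_id]
        group)
      rw [GrpObj.inv_comp, inv_eq_one, Category.assoc] at h3
      rw [h3, ← Category.assoc, comp_toUnit, Hom.one_def]
    let c'' : G ⟶ T' := hk'.lift c' (toUnit _) hcq
    have hc'' : c'' ≫ i' = c' := hk'.lift_fst _ _ _
    haveI : IsMonHom c'' := LargeNormal.isMonHom_of_mul _ fun U a b => by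
      rw [← cancel_mono i', Category.assoc]
      simp only [Category.assoc, hc'', MonObj.mul_comp]
    have hce : e ≫ c'' = toUnit E ≫ η[T'] := by
      rw [← cancel_mono i', Category.assoc, hc'', Category.assoc, IsMonHom.one_hom i', ← cancel_mono j, Category.assoc,
        hc', Category.assoc, IsMonHom.one_hom j, ← Hom.one_def]
      simp only [c, tt, MonObj.comp_mul, GrpObj.comp_inv, comp_toUnit_assoc, Category.comp_id]
      have h4 : (toUnit E ≫ t ≫ e) * e = e * (toUnit E ≫ t ≫ e) := by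
        have := congrArg (· ≫ e) (hEcomm E (toUnit E ≫ t) (𝟙 E))
        simpa only [MonObj.mul_comp, Category.assoc, Category.id_comp] using this
      rw [h4, mul_inv_cancel_right, mul_inv_cancel]
    haveI : Flat (p ≫ q'').left := by rw [Over.comp_left]; infer_instance
    haveI : Surjective (p ≫ q'').left := by rw [Over.comp_left]; infer_instance
    obtain ⟨v, hv', hv, -⟩ := S3280.result k G E A'' T' (p ≫ q'') e hkE c'' hce
    haveI := hv'
    haveI : IsAffine T'.left := hT'a
    have hc1 : c = 1 := by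
      rw [← hc', ← hc'', ← hv, GrpSchLib.AntiAffine.eq_const_of_isAffine (proper_antiAffine A'') v η[A''],
        IsMonHom.one_hom v, ← Hom.one_def, MonObj.comp_one, MonObj.one_comp, MonObj.one_comp]
    have h := congrArg (g ≫ ·) hc1
    simp only [c, tt, MonObj.comp_mul, GrpObj.comp_inv, comp_toUnit_one, MonObj.comp_one, Category.comp_id] at h
    simp only [MonObj.comp_mul, lift_fst_assoc, lift_snd]
    rw [mul_inv_eq_one, mul_inv_eq_iff_eq_mul] at h
    exact h
  haveI : Flat (p ≫ q'').left := by rw [Over.comp_left]; infer_instance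
  haveI : Surjective (p ≫ q'').left := by rw [Over.comp_left]; infer_instance
  exact comm_of_central_proper (p ≫ q'') e hkE hcE

end Groth.Agent.Chevalley.CommAff
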