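import Groth.Agent.Chevalley.CommAff.Torus
import Groth.Agent.TorusBilin.Central
import Groth.Agent.MultConjLib.Torus
import Groth.Agent.GrpSchLib.RankOneNonComm
import Groth.Agent.GrpSchLib.AffineHopfClosed
import Groth.Agent.Chevalley.BC.Div

/-!
The largest torus of a commutative affine group over a field.
-/

set_option autoImplicit false
set_option backward.isDefEq.respectTransparency false
set_option maxHeartbeats 1000000
set_option linter.style.haveILetI false
universe u
open CategoryTheory CategoryTheory.Limits AlgebraicGeometry MonoidalCategory CartesianMonoidalCategory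
open scoped MonObj
open TensorProduct WithConv

namespace Groth.Agent.Chevalley.CommAff

open Groth.Agent.GrpSchLib Groth.Agent.GrpSchLib.AffineHopf Groth.Agent.MultTypeLib

variable {k : Type u} [Field k]

theorem isCocomm_of_iso {R : Type u} [CommRing R] {A : Type u} [CommRing A] [HopfAlgebra R A]
    {G : Over (Spec (CommRingCat.of R))} [GrpObj G] [IsCommMonObj G] (e : sp R A ⟶ G) [IsMonHom e] [IsIso e] :
    Coalgebra.IsCocomm R A := by
  let l : A →ₐ[R] A ⊗[R] A := Algebra.TensorProduct.includeLeft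
  let r : A →ₐ[R] A ⊗[R] A := Algebra.TensorProduct.includeRight
  have h : (toConv l * toConv r).ofConv = (toConv r * toConv l).ofConv := by
    apply spMap_injective
    rw [← spMap_mul, ← spMap_mul, ← cancel_mono e, MonObj.mul_comp, MonObj.mul_comp, mul_comm]
  constructor
  refine LinearMap.ext fun a => ?_
  have h' := AlgHom.congr_fun h a
  simp only [AlgHom.convMul_apply] at h'
  have key : ∀ z : A ⊗[R] A, Algebra.TensorProduct.lift l r (fun _ _ => Commute.all _ _) z = z := fun z => by
    induction z using TensorProduct.induction_on with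
    | zero => simp
    | tmul p q => simp [l, r]
    | add p q hp hq => simp only [map_add, hp, hq]
  have key' : ∀ z : A ⊗[R] A, Algebra.TensorProduct.lift r l (fun _ _ => Commute.all _ _) z = TensorProduct.comm R A A z := fun z => by
    induction z using TensorProduct.induction_on with
    | zero => simp
    | tmul p q => simp [l, r]
    | add p q hp hq => simp only [map_add, hp, hq]
  show TensorProduct.comm R A A (Coalgebra.comul (R := R) a) = Coalgebra.comul (R := R) a
  refine (key' _).symm.trans (Eq.trans ?_ (key _))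
  convert h'.symm using 1

theorem spMap_powConv {A : Type u} [CommRing A] [HopfAlgebra k A] (n : ℕ) :
    spMap (SGA3b.powConv k A n) = (𝟙 (sp k A)) ^ n := by
  induction n with
  | zero =>
    rw [pow_zero, show (1 : sp k A ⟶ sp k A) = spMap (1 : WithConv (A →ₐ[k] A)).ofConv from (map_one Spec.mapMulEquiv).symm]
    congr 1
  | succ n ih =>
    rw [pow_succ, ← ih, show (𝟙 (sp k A)) = spMap (AlgHom.id k A) from spMap_id.symm, spMap_mul]
    congr 1

/-- Every torus over every field extension mapping to `L` lands in `T`. -/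
def Absorbs {T L : Over (Spec (CommRingCat.of k))} [GrpObj T] [GrpObj L] (i : T ⟶ L) : Prop :=
  ∀ (K : Type u) [Field K] (φ : k →+* K) (T' : Over (Spec (CommRingCat.of K))) [GrpObj T'],
    Red.IsTorus T' → ∀ (j : T' ⟶ Red.bc (Spec.map (CommRingCat.ofHom φ)) L), IsMonHom j →
      ∃ g : T' ⟶ Red.bc (Spec.map (CommRingCat.ofHom φ)) T,
        g ≫ (Over.pullback (Spec.map (CommRingCat.ofHom φ))).map i = j

theorem powConv_monoidAlgebra {K : Type u} [Field K] {M : Type*} [CommGroup M] (n : ℕ) (y : MonoidAlgebra K M) :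
    (toConv (AlgHom.id K (MonoidAlgebra K M)) ^ n).ofConv y = MonoidAlgebra.mapDomain (· ^ n) y := by
  induction y using MonoidAlgebra.induction_linear with
  | zero => simp
  | add y z hy hz => simp [MonoidAlgebra.mapDomain_add, hy, hz]
  | single x r =>
    rw [MonoidAlgebra.mapDomain_single, show MonoidAlgebra.single x r = r • MonoidAlgebra.single x (1 : K) by simp,
      map_smul, show MonoidAlgebra.single (x ^ n) r = r • MonoidAlgebra.single (x ^ n) (1 : K) by simp]
    congr 1
    have hg : IsGroupLikeElem K (MonoidAlgebra.single x (1 : K)) := MonoidAlgebra.isGroupLikeElem_single_one x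
    induction n with
    | zero => simp [AlgHom.convOne_def, hg.counit_eq_one, MonoidAlgebra.one_def]
    | succ n ih =>
      rw [pow_succ, AlgHom.convMul_apply, hg.comul_eq_tmul_self, Algebra.TensorProduct.lift_tmul, ih]
      simp [MonoidAlgebra.single_mul_single, pow_succ]

/-- Semilinear morphisms commute with power maps. -/
theorem semi_powConv {A : Type u} [CommRing A] [HopfAlgebra k A] {K : Type u} [Field K] [Algebra k K]
    {M : Type u} [CommGroup M] (h : SemiBialgHom k K A (MonoidAlgebra K M)) (n : ℕ) (a : A) :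
    h.toAlgHom (SGA3b.powConv k A n a) = MonoidAlgebra.mapDomain (· ^ n) (h.toAlgHom a) := by
  let g := h.extendBialg
  have h1 : ∀ n, (SGA3b.powConv K (MonoidAlgebra K M) n).comp (g : K ⊗[k] A →ₐ[K] MonoidAlgebra K M) =
      (g : K ⊗[k] A →ₐ[K] MonoidAlgebra K M).comp (SGA3b.powConv K (K ⊗[k] A) n) :=
    fun n => bialgHom_comp_powConv g n
  have h2 : ∀ (n : ℕ) (a : A), SGA3b.powConv K (K ⊗[k] A) n ((1 : K) ⊗ₜ[k] a) = (1 : K) ⊗ₜ[k] SGA3b.powConv k A n a := by
    intro n
    induction n with
    | zero =>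
      intro a
      simp [SGA3b.powConv, AlgHom.convOne_def, Algebra.algebraMap_eq_smul_one, TensorProduct.smul_tmul',
        TensorProduct.tmul_smul, Algebra.TensorProduct.one_def]
    | succ n ih =>
      intro a
      have e := (SemiBialgHom.baseChange k K A).comul_comp a
      simp only [SemiBialgHom.baseChange, Algebra.TensorProduct.includeRight_apply] at e
      show (toConv (AlgHom.id K (K ⊗[k] A)) ^ (n + 1)).ofConv _ = _ ⊗ₜ (toConv (AlgHom.id k A) ^ (n + 1)).ofConv a
      rw [pow_succ, pow_succ, AlgHom.convMul_apply, AlgHom.convMul_apply, e]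
      generalize Coalgebra.comul (R := k) a = z
      induction z using TensorProduct.induction_on with
      | zero => simp
      | tmul x y =>
        simp only [MultTypeLib.sq_tmul, Algebra.TensorProduct.includeRight_apply, Algebra.TensorProduct.lift_tmul]
        rw [show (toConv (AlgHom.id K (K ⊗[k] A)) ^ n).ofConv ((1 : K) ⊗ₜ[k] x) = _ from ih x]
        simp [SGA3b.powConv]
      | add x y hx hy => simp only [map_add, TensorProduct.tmul_add, hx, hy]
  have h4 := AlgHom.congr_fun (h1 n) ((1 : K) ⊗ₜ[k] a)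
  simp only [AlgHom.comp_apply] at h4
  rw [h2 n a, show SGA3b.powConv K (MonoidAlgebra K M) n = (toConv (AlgHom.id K (MonoidAlgebra K M)) ^ n).ofConv from rfl, powConv_monoidAlgebra] at h4
  simpa [g, SemiBialgHom.extendBialg_apply] using h4.symm

/-- The base change of the spectrum of a Hopf algebra, with its projection. -/
theorem exists_bc_sp (K : Type u) [Field K] [Algebra k K] (Q : Type u) [CommRing Q] [HopfAlgebra k Q] :
    ∃ e : Red.bc (Spec.map (CommRingCat.ofHom (algebraMap k K))) (sp k Q) ≅ sp K (K ⊗[k] Q), IsMonHom e.hom ∧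
      e.hom.left ≫ Spec.map (CommRingCat.ofHom (Algebra.TensorProduct.includeRight : Q →ₐ[k] K ⊗[k] Q).toRingHom) =
        pullback.fst (sp k Q).hom (Spec.map (CommRingCat.ofHom (algebraMap k K))) := by
  let g : Red.bc (Spec.map (CommRingCat.ofHom (algebraMap k K))) (sp k Q) ⟶ sp K (K ⊗[k] Q) :=
    (pullbackSymmetry .. ≪≫ pullbackSpecIso' k K Q).hom.asOver (Spec (CommRingCat.of K))
  haveI hg : IsMonHom g := inferInstanceAs (IsMonHom
    ((pullbackSymmetry .. ≪≫ pullbackSpecIso' k K Q).hom.asOver (Spec (CommRingCat.of K))))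
  haveI : IsIso g.left := inferInstanceAs (IsIso (pullbackSymmetry .. ≪≫ pullbackSpecIso' k K Q).hom)
  haveI : IsIso ((Over.forget _).map g) := ‹IsIso g.left›
  haveI : IsIso g := isIso_of_reflects_iso g (Over.forget _)
  refine ⟨asIso g, hg, ?_⟩
  show (pullbackSymmetry .. ≪≫ pullbackSpecIso' k K Q).hom ≫ _ = _
  rw [← cancel_epi (pullbackSymmetry .. ≪≫ pullbackSpecIso' k K Q).inv, Iso.inv_hom_id_assoc, Iso.trans_inv,
    Category.assoc]
  erw [pullbackSymmetry_inv_comp_fst]
  exact (pullbackSpecIso_inv_snd ..).symm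

theorem exists_maxTorus (L : Over (Spec (CommRingCat.of k))) [GrpObj L] [IsCommMonObj L] [IsAffine L.left]
    [LocallyOfFiniteType L.hom] :
    ∃ (T : Over (Spec (CommRingCat.of k))) (_ : GrpObj T) (i : T ⟶ L), IsMonHom i ∧ IsClosedImmersion i.left ∧
      Red.IsTorus T ∧ Absorbs i ∧
      ∀ (p : ℕ) [Fact p.Prime] [CharP k p], ∃ (n : ℕ) (t : L ⟶ T), 0 < n ∧ t ≫ i = (𝟙 L) ^ n := by
  obtain ⟨A, _, _, ⟨eL⟩⟩ := exists_hopf L
  let e : sp k A ≅ L := (Grp.forget _).mapIso eL
  haveI : IsMonHom e.hom := eL.hom.hom.isMonHom_hom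
  haveI : IsMonHom e.inv := eL.inv.hom.isMonHom_hom
  haveI : Coalgebra.IsCocomm k A := isCocomm_of_iso e.hom
  haveI : LocallyOfFiniteType (sp k A).hom := by rw [← Over.w e.hom]; infer_instance
  haveI : Algebra.FiniteType k A :=
    RingHom.finiteType_algebraMap.mp ((HasRingHomProperty.Spec_iff (P := @LocallyOfFiniteType)).mp ‹_›)
  obtain ⟨I, _, N, hN, hT, hJI, hI⟩ := exists_maxTorus_ideal (k := k) A
  let mkI : A →ₐc[k] A ⧸ I := Bialgebra.Quotient.mkBialgHom I
  let i : sp k (A ⧸ I) ⟶ L := spMap (mkI : A →ₐ[k] A ⧸ I) ≫ e.hom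
  haveI : IsMonHom (spMap (mkI : A →ₐ[k] A ⧸ I)) := inferInstance
  haveI hi : IsMonHom i := inferInstance
  haveI : IsClosedImmersion (spMap (mkI : A →ₐ[k] A ⧸ I)).left :=
    IsClosedImmersion.spec_of_surjective _ Ideal.Quotient.mk_surjective
  haveI : IsIso e.hom.left := inferInstanceAs (IsIso ((Over.forget _).map e.hom))
  refine ⟨sp k (A ⧸ I), inferInstance, i, hi, by rw [Over.comp_left]; infer_instance, hT, ?_, fun p _ _ => ?_⟩
  · intro K _ φ T' _ hT' j hj
    haveI := hj
    letI : Algebra k K := φ.toAlgebra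
    haveI : IsAffineHom T'.hom :=
      MultConjLib.isAffineHom_of_locDS (MultConjLib.isLocDS_of_multTypeFT (Groth.Agent.GrpSchLib.RankOne.isMultTypeFT_of_isTorus hT'))
    haveI : IsAffine T'.left := isAffine_of_isAffineHom T'.hom
    obtain ⟨C, _, _, ⟨eC⟩⟩ := exists_hopf T'
    obtain ⟨K₁, _, _, φ₁, r, ⟨e₁⟩⟩ := TorusBilin.exists_split hT'
    letI : Algebra K K₁ := φ₁.toAlgebra
    letI : Algebra k K₁ := (φ₁.comp φ).toAlgebra
    haveI : IsScalarTower k K K₁ := IsScalarTower.of_algebraMap_eq fun _ => rfl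
    obtain ⟨e₂⟩ := GrpSchLib.MultTypeBC.bc_iso (Spec.map (CommRingCat.ofHom (algebraMap K K₁))) eC
    obtain ⟨e₃⟩ := nonempty_bc_sp (R := K) K₁ C
    obtain ⟨ε⟩ := MultConjLib.exists_bialgEquiv (e₃.symm ≪≫ e₂ ≪≫ e₁)
    let eA := (Over.pullback (Spec.map (CommRingCat.ofHom φ))).mapGrp.mapIso eL
    obtain ⟨e₄, he₄, hfst⟩ := exists_bc_sp (k := k) K A
    haveI : IsMonHom eC.hom.hom.hom := eC.hom.hom.isMonHom_hom
    haveI : IsMonHom eA.inv.hom.hom := eA.inv.hom.isMonHom_hom
    haveI := he₄
    obtain ⟨f, hf⟩ := exists_bialgHom (eC.hom.hom.hom ≫ j ≫ eA.inv.hom.hom ≫ e₄.hom)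
    letI : Algebra k C := ((algebraMap K C).comp φ).toAlgebra
    haveI : IsScalarTower k K C := IsScalarTower.of_algebraMap_eq fun _ => rfl
    let ε' : K₁ ⊗[K] C ≃ₐc[K₁] MonoidAlgebra K₁ (ULift.{u} (Multiplicative (Fin r → ℤ))) :=
      ε.symm.trans (MonoidAlgebra.domCongrBialgEquiv K₁ K₁ MulEquiv.ulift.symm)
    let h1 : SemiBialgHom k K₁ A (MonoidAlgebra K₁ (ULift.{u} (Multiplicative (Fin r → ℤ)))) :=
      ((SemiBialgHom.ofBialgHom (ε' : K₁ ⊗[K] C →ₐc[K₁] MonoidAlgebra K₁ (ULift.{u} (Multiplicative (Fin r → ℤ))))).comp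
        (SemiBialgHom.baseChange K K₁ C)).comp ((SemiBialgHom.ofBialgHom f).comp (SemiBialgHom.baseChange k K A))
    have hkill : ∀ a ∈ I, f ((1 : K) ⊗ₜ[k] a) = 0 := by
      intro a ha
      have hJ : ∀ b ∈ GrpSchLib.UniPart.J k A, h1.toAlgHom b = 0 := by
        intro b hb
        have hle : GrpSchLib.UniPart.J k A ≤ RingHom.ker h1.toAlgHom := Ideal.span_le.mpr fun b hb => by
          obtain ⟨n, hn⟩ := (GrpSchLib.UniPart.mem_Bs k A b).mp hb.1
          have h0 := GrpSchLib.UniPart.monoidAlgebra_Bn n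
            (GrpSchLib.UniPart.map_mem h1.extendBialg n (GrpSchLib.UniPart.tmul_mem_Bn n hn))
          rw [SemiBialgHom.extendBialg_apply, SemiBialgHom.extend_tmul, one_smul, h1.counit_comp, hb.2, map_zero,
            map_zero] at h0
          exact h0
        exact hle hb
      have h2 := hJ _ (hI a ha)
      rw [semi_powConv] at h2
      have hinj : Function.Injective (fun m : ULift.{u} (Multiplicative (Fin r → ℤ)) => m ^ N) := fun x y h =>
        ULift.ext _ _ (smul_right_injective (Fin r → ℤ) hN.ne'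
          (congrArg (fun z => Multiplicative.toAdd z.down) h : N • Multiplicative.toAdd x.down = N • Multiplicative.toAdd y.down))
      have h3 : h1.toAlgHom a = 0 :=
        MonoidAlgebra.mapDomain_injective hinj (h2.trans (MonoidAlgebra.mapDomain_zero _).symm)
      exact Algebra.TensorProduct.includeRight_injective (algebraMap K K₁).injective
        (ε'.injective (h3.trans (map_zero _).symm) |>.trans (TensorProduct.tmul_zero _ _).symm)
    let f' : A ⧸ I →ₐ[k] C := Ideal.Quotient.liftₐ I ((f : K ⊗[k] A →ₐ[K] C).restrictScalars k |>.comp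
      Algebra.TensorProduct.includeRight) hkill
    let φs := Spec.map (CommRingCat.ofHom φ)
    let θ : (Over.map φs).obj (sp K C) ⟶ sp k (A ⧸ I) := Over.homMk (Spec.map (CommRingCat.ofHom f'.toRingHom)) (by
      show Spec.map _ ≫ Spec.map _ = Spec.map _ ≫ Spec.map _
      rw [← Spec.map_comp, ← Spec.map_comp]
      congr 1
      exact CommRingCat.hom_ext (RingHom.ext fun x => f'.commutes x))
    obtain ⟨g₁, hg₁⟩ := (DSPtsLib.theta_bijective φs).2 θ
    refine ⟨eC.inv.hom.hom ≫ g₁, ?_⟩
    have key : g₁ ≫ (Over.pullback φs).map i = eC.hom.hom.hom ≫ j := by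
      refine (DSPtsLib.theta_bijective φs).1 ?_
      rw [TorusBilin.theta_map, hg₁]
      refine Over.OverMorphism.ext ?_
      rw [DSPtsLib.theta_left]
      have h5 := congrArg (fun m => m.left ≫ Spec.map (CommRingCat.ofHom
        (Algebra.TensorProduct.includeRight : A →ₐ[k] K ⊗[k] A).toRingHom)) hf
      simp only [Over.comp_left, Category.assoc, hfst] at h5
      have h6 : eA.inv.hom.hom.left ≫ pullback.fst (sp k A).hom φs = pullback.fst L.hom φs ≫ e.inv.left :=
        pullback.lift_fst _ _ _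
      rw [← cancel_mono e.inv.left, Category.assoc, Over.comp_left, Category.assoc]
      erw [← h6]
      refine Eq.trans ?_ ((Category.assoc _ _ _).trans h5).symm
      show Spec.map _ ≫ (spMap (mkI : A →ₐ[k] A ⧸ I) ≫ e.hom).left ≫ e.inv.left = Spec.map _ ≫ Spec.map _
      rw [Over.comp_left, Category.assoc, ← Over.comp_left (f := e.hom), e.hom_inv_id, Over.id_left, Category.comp_id]
      show Spec.map _ ≫ Spec.map _ = _
      rw [← Spec.map_comp, ← Spec.map_comp]
      congr 1
    rw [Category.assoc, key, ← Category.assoc, show eC.inv.hom.hom ≫ eC.hom.hom.hom = 𝟙 _ from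
      congrArg (fun m => m.hom.hom) eC.inv_hom_id, Category.id_comp]
  · obtain ⟨n, hn, hk⟩ := exists_pow_kill p hN hI
    let g : A ⧸ I →ₐ[k] A := Ideal.Quotient.liftₐ I (SGA3b.powConv k A n) hk
    refine ⟨n, e.inv ≫ spMap g, hn, ?_⟩
    show (e.inv ≫ spMap g) ≫ spMap (mkI : A →ₐ[k] A ⧸ I) ≫ e.hom = _
    have h : spMap g ≫ spMap (mkI : A →ₐ[k] A ⧸ I) = (𝟙 (sp k A)) ^ n := by
      rw [spMap_comp, show g.comp (mkI : A →ₐ[k] A ⧸ I) = SGA3b.powConv k A n from Ideal.Quotient.liftₐ_comp _ _ _]
      exact spMap_powConv n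
    rw [Category.assoc, reassoc_of% h, BC.pow_comp, Category.id_comp, BC.comp_pow, e.inv_hom_id]

end Groth.Agent.Chevalley.CommAff
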