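import Groth.Agent.Chevalley.CommAff.TorusPow
import Groth.Agent.Chevalley.BC.GenQuot
import Groth.Agent.Chevalley.BC.AffLib
import Groth.Agent.GrpSchLib.AntiAffineQuot
import Groth.Agent.AlgSpDec.GeomConn
import Groth.Agent.AlbQuotLib.Albanese
import Groth.Agent.Lib.AVMulN
import Groth.Agent.LargeNormal.Galois

/-!
Semi-abelian varieties: basic properties.
-/

set_option autoImplicit false
set_option backward.isDefEq.respectTransparency false
set_option maxHeartbeats 1000000
set_option linter.style.haveILetI false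
universe u
open CategoryTheory CategoryTheory.Limits AlgebraicGeometry MonoidalCategory CartesianMonoidalCategory
open scoped MonObj

namespace Groth.Agent.Chevalley.CommAff

variable {k : Type u} [Field k]

/-- An extension of an abelian variety by a torus. -/
def IsSA (S : Over (Spec (CommRingCat.of k))) [GrpObj S] : Prop :=
  ∃ (T : Over (Spec (CommRingCat.of k))) (_ : GrpObj T) (i : T ⟶ S) (A : Over (Spec (CommRingCat.of k))) (_ : GrpObj A)
    (q : S ⟶ A), IsMonHom i ∧ IsClosedImmersion i.left ∧ Red.IsTorus T ∧ IsMonHom q ∧ Surjective q.left ∧ Flat q.left ∧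
    AlgGrp.IsKernel i q ∧ IsProper A.hom ∧ Smooth A.hom ∧ ConnectedSpace A.left

theorem isMonHom_pow (G : Over (Spec (CommRingCat.of k))) [GrpObj G] [IsCommMonObj G] (n : ℕ) :
    IsMonHom ((𝟙 G) ^ n) := LargeNormal.isMonHom_of_mul _ fun T a b => by
  simp only [BC.comp_pow, Category.comp_id, mul_pow]

theorem isCommMonObj_sub {G H : Over (Spec (CommRingCat.of k))} [GrpObj G] [GrpObj H] [IsCommMonObj G] (i : H ⟶ G)
    [IsMonHom i] [IsClosedImmersion i.left] : IsCommMonObj H := by
  haveI : Mono i := Over.mono_of_mono_left _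
  exact BC.isCommMonObj_of_mono i fun T a b => mul_comm _ _

theorem isNormal_of_comm {G H : Over (Spec (CommRingCat.of k))} [GrpObj G] [GrpObj H] [IsCommMonObj G] (i : H ⟶ G) :
    AlgGrp.IsNormalHom i := fun T g x => ⟨x, by rw [mul_comm g, mul_inv_cancel_right]⟩

/-- A quotient by a closed subgroup of a commutative group of finite type. -/
theorem exists_quot {G H : Over (Spec (CommRingCat.of k))} [GrpObj G] [GrpObj H] [LocallyOfFiniteType G.hom]
    [QuasiCompact G.hom] (h : H ⟶ G) [IsMonHom h] [IsClosedImmersion h.left] (hn : AlgGrp.IsNormalHom h) :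
    ∃ (Q : Over (Spec (CommRingCat.of k))) (_ : GrpObj Q) (q : G ⟶ Q), IsMonHom q ∧ Flat q.left ∧ Surjective q.left ∧
      AlgGrp.IsKernel h q ∧ LocallyOfFiniteType Q.hom ∧ QuasiCompact Q.hom := by
  haveI : LocallyOfFiniteType H.hom := by rw [← Over.w h]; infer_instance
  haveI : Mono h := Over.mono_of_mono_left _
  obtain ⟨Q, _, q, hq, hf, hs, hl, hQl, -, hk⟩ := GrpQuotLib.exists_quotientGrp h hn
  obtain ⟨-, hQq, -⟩ := GrpQuotLib.props_of_cover ⟨hf, hs, hl⟩
  exact ⟨Q, inferInstance, q, hq, hf, hs, hk, hQl, hQq inferInstance⟩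

/-- An extension by a torus of a smooth connected group is smooth and connected. -/
theorem ext_props {T G A : Over (Spec (CommRingCat.of k))} [GrpObj T] [GrpObj G] [GrpObj A] [Smooth T.hom]
    [QuasiCompact T.hom] [ConnectedSpace T.left] [LocallyOfFiniteType G.hom] [QuasiCompact G.hom]
    (i : T ⟶ G) [IsMonHom i] (q : G ⟶ A) [IsMonHom q] [Flat q.left] [Surjective q.left]
    (hk : AlgGrp.IsKernel i q) [Smooth A.hom] [ConnectedSpace A.left] : Smooth G.hom ∧ ConnectedSpace G.left := by
  haveI := GrpSchLib.AntiAffine.isSeparated_grp A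
  haveI : QuasiCompact (q.left ≫ A.hom) := by rw [Over.w q]; infer_instance
  haveI : QuasiCompact q.left := QuasiCompact.of_comp q.left A.hom
  haveI : Smooth q.left := S7982.property_of_kernel i q hk @Smooth inferInstance
  refine ⟨by rw [← Over.w q]; infer_instance, ?_⟩
  haveI : GeometricallyConnected T.hom := by
    haveI := AlbQuotLib.geometricallyIntegral T
    exact H23.CubeAb.geometricallyConnected_of_integral T.hom
  obtain ⟨p, hp, hps⟩ := GrpSchLib.exists_kernelPair_iso i q hk
  haveI := hp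
  have hfib : ∀ b, _root_.IsPreconnected (q.left ⁻¹' {b}) := by
    intro b
    obtain ⟨a, rfl⟩ := q.left.surjective b
    have h1 : _root_.IsConnected ((pullback.snd T.hom G.hom) ⁻¹' {a}) :=
      (pullback.snd T.hom G.hom).isConnected_preimage_singleton a
    have h2 := (h1.image p p.continuous.continuousOn).image (pullback.fst q.left q.left)
      (pullback.fst q.left q.left).continuous.continuousOn
    convert h2.isPreconnected
    ext x
    constructor
    · intro hx
      obtain ⟨z, hz1, hz2⟩ := Scheme.Pullback.exists_preimage_pullback (f := q.left) (g := q.left) x a hx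
      refine ⟨z, ⟨(inv p) z, ?_, ?_⟩, hz1⟩
      · show (snd T G).left ((inv p) z) = a
        rw [← hps, ← Scheme.Hom.comp_apply, IsIso.inv_hom_id_assoc]
        exact hz2
      · rw [← Scheme.Hom.comp_apply, IsIso.inv_hom_id]; rfl
    · rintro ⟨_, ⟨w, hw, rfl⟩, rfl⟩
      show q.left _ = q.left a
      rw [← Scheme.Hom.comp_apply _ q.left, pullback.condition, Scheme.Hom.comp_apply,
        ← Scheme.Hom.comp_apply p, hps]
      exact congrArg _ hw
  exact AlgSpDec.GeomConn.connectedSpace_of_fibres q.left.isOpenMap (Scheme.Hom.surjective q.left) hfib inferInstance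

theorem IsSA.props {S : Over (Spec (CommRingCat.of k))} [GrpObj S] [LocallyOfFiniteType S.hom] [QuasiCompact S.hom]
    (h : IsSA S) : Smooth S.hom ∧ ConnectedSpace S.left := by
  obtain ⟨T, _, i, A, _, q, hi, hic, hT, hq, hqs, hqf, hk, hAp, hAs, hAc⟩ := h
  haveI := hi; haveI := hq; haveI := hqs; haveI := hqf; haveI := hAs; haveI := hAc
  obtain ⟨h1, h2, h3, h4, h5⟩ := torus_props hT
  exact ext_props i q hk

/-- Power maps of semi-abelian varieties are surjective. -/
theorem IsSA.surjective_pow {S : Over (Spec (CommRingCat.of k))} [GrpObj S] [IsCommMonObj S]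
    [LocallyOfFiniteType S.hom] [QuasiCompact S.hom] (h : IsSA S) {n : ℕ} (hn : 0 < n) :
    Surjective ((𝟙 S) ^ n).left := by
  obtain ⟨T, _, i, A, _, q, hi, hic, hT, hq, hqs, hqf, hk, hAp, hAs, hAc⟩ := h
  haveI := hi; haveI := hic; haveI := hq; haveI := hqs; haveI := hqf; haveI := hAp; haveI := hAs; haveI := hAc
  haveI := isMonHom_pow S n
  obtain ⟨I, _, p, b, hp, hb, hpb, hbc, hpf, hps, -, -⟩ := GrpSchLib.ImageFactor.exists_image ((𝟙 S) ^ n)
  haveI := hp; haveI := hb; haveI := hbc; haveI := hps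
  haveI : GeometricallyIntegral A.hom := AlbQuotLib.geometricallyIntegral A
  haveI : Surjective ((𝟙 A) ^ n).left := AVMulN.surjective_pow n hn
  haveI := surjective_pow_torus hT hn
  haveI : Surjective (b ≫ q).left := by
    haveI : Surjective (p.left ≫ (b ≫ q).left) := by
      rw [← Over.comp_left, ← Category.assoc, hpb, BC.pow_comp, Category.id_comp,
        show q ^ n = q ≫ (𝟙 A) ^ n by rw [BC.comp_pow, Category.comp_id], Over.comp_left]
      infer_instance
    exact Surjective.of_comp p.left _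
  haveI := BC.surjective_mul_of_kernel b q i hk
  have e : (((𝟙 T) ^ n) ⊗ₘ 𝟙 I) ≫ (i ⊗ₘ b) ≫ μ[S] = ((i ≫ p) ⊗ₘ 𝟙 I) ≫ μ[I] ≫ b := by
    rw [IsMonHom.mul_hom b, ← Category.assoc, ← Category.assoc, tensorHom_comp_tensorHom, tensorHom_comp_tensorHom,
      Category.id_comp, BC.pow_comp, Category.id_comp, Category.assoc, hpb, BC.comp_pow, Category.comp_id]
  haveI : Surjective (((𝟙 T) ^ n) ⊗ₘ 𝟙 I).left := by
    rw [Over.tensorHom_left]
    exact MorphismProperty.pullbackMap (P := @Surjective) (show Surjective ((𝟙 T) ^ n).left from inferInstance) (show Surjective (𝟙 I : I ⟶ I).left by rw [Over.id_left]; infer_instance) (Over.w _).symm (Over.w _).symm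
  haveI : Surjective ((((i ≫ p) ⊗ₘ 𝟙 I) ≫ μ[I]).left ≫ b.left) := by
    rw [← Over.comp_left, Category.assoc, ← e, Over.comp_left]; infer_instance
  haveI : Surjective b.left := Surjective.of_comp (((i ≫ p) ⊗ₘ 𝟙 I) ≫ μ[I]).left b.left
  rw [← hpb, Over.comp_left]; infer_instance

theorem IsSA.flat_pow {S : Over (Spec (CommRingCat.of k))} [GrpObj S] [IsCommMonObj S]
    [LocallyOfFiniteType S.hom] [QuasiCompact S.hom] (h : IsSA S) {n : ℕ} (hn : 0 < n) :
    Flat ((𝟙 S) ^ n).left := by
  haveI := h.surjective_pow hn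
  haveI := h.props.1
  haveI := GrpSchLib.AntiAffine.isSeparated_grp S
  haveI := isMonHom_pow S n
  haveI : AlgebraicGeometry.IsReduced S.left := GrpSchLib.isReduced_of_smooth_field S.hom
  haveI : QuasiCompact (((𝟙 S) ^ n).left ≫ S.hom) := by rw [Over.w]; infer_instance
  haveI : QuasiCompact ((𝟙 S) ^ n).left := QuasiCompact.of_comp _ S.hom
  exact GrpSchLib.flat_of_surjective_hom ((𝟙 S) ^ n)

theorem isFinite_kernel_of_finite {K G : Over (Spec (CommRingCat.of k))} [GrpObj K] [GrpObj G]
    (κ : K ⟶ G) (f : G ⟶ G) (hk : AlgGrp.IsKernel κ f) [IsMonHom f] [IsFinite f.left] : IsFinite K.hom := by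
  have h := hk.map (Over.forget (Spec (CommRingCat.of k)))
  haveI : IsFinite (toUnit K).left :=
    MorphismProperty.of_isPullback (P := @IsFinite) h (show IsFinite f.left from inferInstance)
  exact inferInstanceAs (IsFinite (toUnit K).left)

theorem IsSA.isFinite_pow {S : Over (Spec (CommRingCat.of k))} [GrpObj S] [IsCommMonObj S]
    [LocallyOfFiniteType S.hom] [QuasiCompact S.hom] (h : IsSA S) {n : ℕ} (hn : 0 < n) :
    IsFinite ((𝟙 S) ^ n).left := by
  have h' := h
  obtain ⟨T, _, i, A, _, q, hi, hic, hT, hq, hqs, hqf, hk, hAp, hAs, hAc⟩ := h'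
  haveI := hi; haveI := hic; haveI := hq; haveI := hqs; haveI := hqf; haveI := hAp; haveI := hAs; haveI := hAc
  haveI := h.flat_pow hn; haveI := h.surjective_pow hn
  haveI := GrpSchLib.AntiAffine.isSeparated_grp S
  haveI := GrpSchLib.AntiAffine.isSeparated_grp A
  haveI : QuasiCompact (((𝟙 S) ^ n).left ≫ S.hom) := by rw [Over.w]; infer_instance
  haveI : QuasiCompact ((𝟙 S) ^ n).left := QuasiCompact.of_comp _ S.hom
  haveI := isMonHom_pow S n
  obtain ⟨K, _, κ, hκ, hκc, -, hkK⟩ := GrpSchLib.exists_kernel ((𝟙 S) ^ n)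
  haveI := hκ; haveI := hκc
  haveI := EtFound.fpqc_isFinite.{u}
  suffices hKf : IsFinite K.hom from S7982.property_of_kernel κ _ hkK @IsFinite hKf
  haveI : LocallyOfFiniteType K.hom := by rw [← Over.w κ]; infer_instance
  haveI : QuasiCompact K.hom := by rw [← Over.w κ]; infer_instance
  haveI := isCommMonObj_sub κ
  haveI : GeometricallyIntegral A.hom := AlbQuotLib.geometricallyIntegral A
  haveI : IsCommMonObj A := isCommMonObj_of_isProper_of_geometricallyIntegral A
  haveI := isMonHom_pow A n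
  obtain ⟨KA, _, κA, hκA, hκAc, -, hkA⟩ := GrpSchLib.exists_kernel ((𝟙 A) ^ n)
  haveI := hκA; haveI := hκAc
  haveI : IsFinite ((𝟙 A) ^ n).left := AVMulN.isFinite_pow n hn
  haveI : IsFinite KA.hom := isFinite_kernel_of_finite κA _ hkA
  let c : K ⟶ KA := hkA.lift (κ ≫ q) (toUnit K) (by
    rw [BC.comp_pow, Category.comp_id, show (κ ≫ q) ^ n = (κ ≫ (𝟙 S) ^ n) ≫ q by
      rw [BC.comp_pow, Category.comp_id, BC.pow_comp], hkK.w, Category.assoc, IsMonHom.one_hom])
  have hc : c ≫ κA = κ ≫ q := hkA.lift_fst _ _ _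
  haveI : Mono κA := Over.mono_of_mono_left _
  haveI : IsMonHom c := LargeNormal.isMonHom_of_mul _ fun U a b => by
    rw [← cancel_mono κA, Category.assoc, hc, MonObj.mul_comp, MonObj.mul_comp, Category.assoc, Category.assoc, hc]
  haveI : LocallyOfFiniteType KA.hom := inferInstance
  haveI : QuasiCompact KA.hom := inferInstance
  obtain ⟨I, _, π, b, hπ, hb, hπb, hbc, hπf, hπs, hIl, hIq⟩ := GrpSchLib.ImageFactor.exists_image c
  haveI := hπ; haveI := hb; haveI := hbc; haveI := hπf; haveI := hπs; haveI := hIl; haveI := hIq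
  haveI : IsFinite I.hom := by rw [← Over.w b]; infer_instance
  haveI := GrpSchLib.AntiAffine.isSeparated_grp I
  obtain ⟨L, _, l, hl, hlc, -, hkL⟩ := GrpSchLib.exists_kernel π
  haveI := hl; haveI := hlc
  haveI : Smooth T.hom := (torus_props hT).1
  haveI : IsCommMonObj T := (torus_props hT).2.2.2.1
  haveI : QuasiCompact T.hom := (torus_props hT).2.2.2.2
  haveI := (pow_torus_props hT hn).2
  haveI := GrpSchLib.AntiAffine.isSeparated_grp T
  haveI := isMonHom_pow T n
  obtain ⟨KT, _, κT, hκT, hκTc, -, hkT⟩ := GrpSchLib.exists_kernel ((𝟙 T) ^ n)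
  haveI := hκT; haveI := hκTc
  haveI : IsFinite KT.hom := isFinite_kernel_of_finite κT _ hkT
  have hlq : (l ≫ κ) ≫ q = toUnit L ≫ η[A] := by
    rw [Category.assoc, ← hc, ← hπb, Category.assoc, reassoc_of% hkL.w, ← Category.assoc η[I],
      IsMonHom.one_hom b, IsMonHom.one_hom κA]
  let lT := hk.lift (l ≫ κ) (toUnit L) hlq
  have hlT : lT ≫ i = l ≫ κ := hk.lift_fst _ _ _
  haveI : Mono i := Over.mono_of_mono_left _
  let lK := hkT.lift lT (toUnit L) (by
    rw [← cancel_mono i, Category.assoc, BC.pow_comp, Category.id_comp,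
      show i ^ n = i ≫ (𝟙 S) ^ n by rw [BC.comp_pow, Category.comp_id], ← Category.assoc, hlT, Category.assoc,
      hkK.w, ← Category.assoc, comp_toUnit, Category.assoc, IsMonHom.one_hom i])
  have hlK : lK ≫ κT ≫ i = l ≫ κ := by rw [← Category.assoc, hkT.lift_fst, hlT]
  haveI : IsClosedImmersion (κT ≫ i).left := by rw [Over.comp_left]; infer_instance
  haveI : IsClosedImmersion lK.left := by
    haveI : IsClosedImmersion (lK.left ≫ (κT ≫ i).left) := by
      rw [← Over.comp_left, hlK, Over.comp_left]; infer_instance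
    exact IsClosedImmersion.of_comp lK.left (κT ≫ i).left
  haveI : IsFinite L.hom := by rw [← Over.w lK]; infer_instance
  haveI : QuasiCompact (π.left ≫ I.hom) := by rw [Over.w π]; infer_instance
  haveI : QuasiCompact π.left := QuasiCompact.of_comp π.left I.hom
  haveI : IsFinite π.left := S7982.property_of_kernel l π hkL @IsFinite inferInstance
  rw [← Over.w π]
  infer_instance

theorem isTrivial_of_subsingleton (S : Over (Spec (CommRingCat.of k))) [GrpObj S] [Smooth S.hom] [QuasiCompact S.hom]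
    [ConnectedSpace S.left] [Subsingleton S.left] : 𝟙 S = (1 : S ⟶ S) := by
  haveI : IsAffine S.left := by
    obtain ⟨U, hU, hx, -⟩ := exists_isAffineOpen_mem_and_subset
      (show (η[S].left (IsLocalRing.closedPoint k)) ∈ (⊤ : S.left.Opens) from trivial)
    obtain rfl : U = ⊤ := eq_top_iff.mpr fun y _ => (Subsingleton.elim _ y) ▸ hx
    haveI : IsAffine ((⊤ : S.left.Opens) : Scheme.{u}) := hU
    exact IsAffine.of_isIso S.left.topIso.inv
  haveI : IsProper S.hom := by
    haveI : IsFinite S.hom := by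
      haveI := GrpSchLib.isReduced_of_smooth_field S.hom
      exact isFinite_iff_locallyOfFiniteType_of_jacobsonSpace.mpr inferInstance
    infer_instance
  exact BC.id_eq_one_of_affine_proper S

/-- A semi-abelian variety killed by a positive integer is trivial. -/
theorem IsSA.id_eq_one_of_killed {S : Over (Spec (CommRingCat.of k))} [GrpObj S] [IsCommMonObj S]
    [LocallyOfFiniteType S.hom] [QuasiCompact S.hom] (h : IsSA S) {n : ℕ} (hn : 0 < n) (hkill : (𝟙 S) ^ n = 1) :
    𝟙 S = (1 : S ⟶ S) := by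
  haveI := h.surjective_pow hn
  haveI := h.props.1; haveI := h.props.2
  haveI : Subsingleton S.left := ⟨fun x y => by
    obtain ⟨x, rfl⟩ := ((𝟙 S) ^ n).left.surjective x
    obtain ⟨y, rfl⟩ := ((𝟙 S) ^ n).left.surjective y
    rw [hkill]
    exact congrArg η[S].left (Subsingleton.elim (α := PrimeSpectrum k) _ _)⟩
  exact isTrivial_of_subsingleton S

theorem surjective_pow_antiAffine {G : Over (Spec (CommRingCat.of k))} [GrpObj G] [LocallyOfFiniteType G.hom]
    [QuasiCompact G.hom] (hG : Function.Bijective G.hom.appTop) {n : ℕ} (hn : 0 < n) :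
    Surjective ((𝟙 G) ^ n).left := by
  let φ : Spec (CommRingCat.of (AlgebraicClosure k)) ⟶ Spec (CommRingCat.of k) :=
    Spec.map (CommRingCat.ofHom (algebraMap k (AlgebraicClosure k)))
  haveI : LocallyOfFiniteType (Red.bc φ G).hom := inferInstanceAs (LocallyOfFiniteType (pullback.snd G.hom φ))
  haveI : QuasiCompact (Red.bc φ G).hom := inferInstanceAs (QuasiCompact (pullback.snd G.hom φ))
  have hs := BC.surjective_pow (GrpSchLib.AntiAffine.bijective_appTop_snd hG φ) hn (G := Red.bc φ G)
  rw [show (𝟙 (Red.bc φ G)) ^ n = (Over.pullback φ).map ((𝟙 G) ^ n) by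
    show _ = (Over.pullback φ).homMonoidHom _
    rw [map_pow]; congr 1; exact ((Over.pullback φ).map_id G).symm] at hs
  haveI : Surjective φ := ⟨fun x => ⟨IsLocalRing.closedPoint (AlgebraicClosure k), Subsingleton.elim _ _⟩⟩
  haveI : Surjective (pullback.fst G.hom φ ≫ ((𝟙 G) ^ n).left) := by rw [← LargeNormal.map_fst]; infer_instance
  exact Surjective.of_comp (pullback.fst G.hom φ) _

theorem isCommMonObj_of_antiAffine {G : Over (Spec (CommRingCat.of k))} [GrpObj G] [LocallyOfFiniteType G.hom]
    [QuasiCompact G.hom] (hG : Function.Bijective G.hom.appTop) : IsCommMonObj G := by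
  haveI : Smooth G.hom := GrpSchLib.AntiAffineSmooth.smooth hG
  haveI : ConnectedSpace G.left := GrpSchLib.AntiAffine.connectedSpace_of_bijective hG
  refine ⟨?_⟩
  have h := GrpSchLib.AntiAffine.commute hG (𝟙 G) (by rw [Category.comp_id]; exact MonObj.one_eq_one (M := G))
    (snd G G) (fst G G)
  rw [Category.comp_id, Hom.mul_def, Hom.mul_def] at h
  rw [lift_fst_snd, Category.id_comp] at h
  refine Eq.trans ?_ h
  congr 1

/-- In positive characteristic anti-affine groups are semi-abelian. -/
theorem isSA_of_antiAffine (p : ℕ) [Fact p.Prime] [CharP k p] {G : Over (Spec (CommRingCat.of k))} [GrpObj G]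
    [LocallyOfFiniteType G.hom] [QuasiCompact G.hom] (hG : Function.Bijective G.hom.appTop) : IsSA G := by
  haveI := isCommMonObj_of_antiAffine hG
  obtain ⟨N, _, j, Q, _, q, ⟨hj, hjc, -, hNa, hq, hqs, hqf, hkq, hQp⟩, -, -⟩ := BC.exists_smallest_quot G
  haveI := hj; haveI := hjc; haveI : IsAffine N.left := hNa
  haveI := hq; haveI := hqs; haveI := hqf; haveI := hQp
  haveI := isCommMonObj_sub j
  haveI : LocallyOfFiniteType N.hom := by rw [← Over.w j]; infer_instance
  obtain ⟨T, _, iT, hiT, hiTc, hT, -, hpow⟩ := exists_maxTorus N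
  obtain ⟨n, t, hn, ht⟩ := hpow p
  haveI := hiT; haveI := hiTc
  haveI : IsClosedImmersion (iT ≫ j).left := by rw [Over.comp_left]; infer_instance
  obtain ⟨Q', _, r, hr, hrf, hrs, hrk, hQl, hQq⟩ := exists_quot (iT ≫ j) (isNormal_of_comm _)
  haveI := hr; haveI := hrf; haveI := hrs
  haveI := GrpSchLib.AntiAffine.isSeparated_grp Q'
  haveI : QuasiCompact (r.left ≫ Q'.hom) := by rw [Over.w r]; infer_instance
  haveI : QuasiCompact r.left := QuasiCompact.of_comp r.left Q'.hom
  haveI : Epi r.left := Flat.epi_of_flat_of_surjective _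
  have hQ := GrpSchLib.Rosenlicht.bijective_of_comp r hG
  haveI := isMonHom_pow G n
  have hkill : j ≫ (((𝟙 G) ^ n) ≫ r) = toUnit N ≫ η[Q'] := by
    rw [← Category.assoc, BC.comp_pow, Category.comp_id,
      show j ^ n = ((𝟙 N) ^ n) ≫ j by rw [BC.pow_comp, Category.id_comp], ← ht, Category.assoc, Category.assoc,
      ← Category.assoc iT, hrk.w, ← Category.assoc, comp_toUnit]
  obtain ⟨u, -, hu, -⟩ := S3280.result k G N Q Q' q j hkq (((𝟙 G) ^ n) ≫ r) hkill
  haveI := surjective_pow_antiAffine hG hn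
  haveI : Surjective (q.left ≫ u.left) := by rw [← Over.comp_left, hu, Over.comp_left]; infer_instance
  haveI : Surjective u.left := Surjective.of_comp q.left u.left
  exact ⟨T, inferInstance, iT ≫ j, Q', inferInstance, r, inferInstance, inferInstance, hT, hr, hrs, hrf, hrk,
    BC.isProper_of_surjective u, GrpSchLib.AntiAffineSmooth.smooth hQ,
    GrpSchLib.AntiAffine.connectedSpace_of_bijective hQ⟩

end Groth.Agent.Chevalley.CommAff
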