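import Groth.Agent.Chevalley.CommAff.TorusDeg
import Groth.Agent.Chevalley.CommAff.Fibre
import Groth.Agent.AVDegLib.MulN

/-!
Degree of the torsion subgroups of semi-abelian varieties.
-/

set_option autoImplicit false
set_option backward.isDefEq.respectTransparency false
set_option maxHeartbeats 1000000
set_option linter.style.haveILetI false
universe u
open CategoryTheory CategoryTheory.Limits AlgebraicGeometry MonoidalCategory CartesianMonoidalCategory
open scoped MonObj
open TensorProduct WithConv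

namespace Groth.Agent.Chevalley.CommAff

open Groth.Agent.GrpSchLib Groth.Agent.GrpSchLib.AffineHopf

variable {k : Type u} [Field k]

theorem rank_tower {R S : Type u} [CommRing R] [CommRing S] [Algebra k R] [Module.Finite k R] [Algebra k S]
    [Algebra R S] [IsScalarTower k R S] [Module.Finite R S] [Module.Flat R S] (a : ℕ)
    (ha : ∀ p : PrimeSpectrum R, Module.rankAtStalk S p = a) : Module.finrank k S = a * Module.finrank k R := by
  haveI : IsArtinianRing R := IsArtinianRing.of_finite k R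
  haveI : Module.Free R S := Module.free_of_flat_of_finrank_eq R S a fun P => by
    haveI := P.2
    letI := Ideal.Quotient.field P.1
    let p₀ : PrimeSpectrum (R ⧸ P.1) := ⟨⊥, Ideal.isPrime_bot⟩
    have h1 : Module.rankAtStalk (R := R ⧸ P.1) ((R ⧸ P.1) ⊗[R] S) p₀ = a :=
      (Module.rankAtStalk_baseChange p₀).trans (ha _)
    rwa [Module.rankAtStalk_eq_finrank_of_free, Pi.natCast_apply] at h1
  rcases subsingleton_or_nontrivial R with hR | hR
  · haveI := Module.subsingleton R S
    simp [Module.finrank_zero_of_subsingleton]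
  · obtain ⟨p⟩ := (inferInstance : Nonempty (PrimeSpectrum R))
    have hr := ha p
    rw [Module.rankAtStalk_eq_finrank_of_free, Pi.natCast_apply] at hr
    haveI : Module.Free k R := inferInstance
    rw [Nat.cast_id] at hr
    rw [← Module.finrank_mul_finrank k R S, hr, mul_comm]

/-- Multiplicativity of the degree for finite schemes. -/
theorem finrank_tower {X Y : Over (Spec (CommRingCat.of k))} [IsFinite X.hom] [IsFinite Y.hom] (f : X ⟶ Y)
    [Flat f.left] [IsFinite f.left] (a : ℕ) (ha : ∀ y, f.left.finrank y = a) (z : Spec (CommRingCat.of k)) :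
    X.hom.finrank z = a * Y.hom.finrank z := by
  haveI : IsAffine X.left := isAffine_of_isAffineHom X.hom
  haveI : IsAffine Y.left := isAffine_of_isAffineHom Y.hom
  let αX : k →+* Γ(X.left, ⊤) := ((Scheme.ΓSpecIso (CommRingCat.of k)).inv ≫ X.hom.appTop).hom
  let αY : k →+* Γ(Y.left, ⊤) := ((Scheme.ΓSpecIso (CommRingCat.of k)).inv ≫ Y.hom.appTop).hom
  letI : Algebra k Γ(X.left, ⊤) := αX.toAlgebra
  letI : Algebra k Γ(Y.left, ⊤) := αY.toAlgebra
  letI : Algebra Γ(Y.left, ⊤) Γ(X.left, ⊤) := f.left.appTop.hom.toAlgebra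
  haveI : IsScalarTower k Γ(Y.left, ⊤) Γ(X.left, ⊤) := IsScalarTower.of_algebraMap_eq fun c => by
    show αX c = f.left.appTop.hom (αY c)
    have h : X.hom.appTop = Y.hom.appTop ≫ f.left.appTop := by rw [← Scheme.Hom.comp_appTop, Over.w f]
    simp [αX, αY, h]
  have hstr : ∀ (Z : Over (Spec (CommRingCat.of k))) [IsAffine Z.left],
      Z.hom = Z.left.isoSpec.hom ≫ Spec.map ((Scheme.ΓSpecIso (CommRingCat.of k)).inv ≫ Z.hom.appTop) := by
    intro Z _
    rw [Spec.map_comp, Scheme.isoSpec_hom_naturality_assoc, Scheme.isoSpec_Spec_hom, ← Spec.map_comp,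
      Iso.inv_hom_id, Spec.map_id, Category.comp_id]
  have hfin : ∀ (Z : Over (Spec (CommRingCat.of k))) [IsAffine Z.left] [IsFinite Z.hom],
      IsFinite (Spec.map ((Scheme.ΓSpecIso (CommRingCat.of k)).inv ≫ Z.hom.appTop)) := by
    intro Z _ _
    rw [show Spec.map ((Scheme.ΓSpecIso (CommRingCat.of k)).inv ≫ Z.hom.appTop) = Z.left.isoSpec.inv ≫ Z.hom by
      conv_rhs => rw [hstr Z, Iso.inv_hom_id_assoc]]
    infer_instance
  haveI := hfin X; haveI := hfin Y
  haveI : Module.Finite k Γ(X.left, ⊤) := RingHom.finite_algebraMap.mp ((IsFinite.SpecMap_iff _).mp (hfin X))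
  haveI : Module.Finite k Γ(Y.left, ⊤) := RingHom.finite_algebraMap.mp ((IsFinite.SpecMap_iff _).mp (hfin Y))
  have hsq : IsPullback X.left.isoSpec.inv (Spec.map f.left.appTop) f.left Y.left.isoSpec.inv :=
    IsPullback.of_horiz_isIso ⟨(Scheme.isoSpec_inv_naturality f.left).symm⟩
  haveI : Flat (Spec.map f.left.appTop) := MorphismProperty.of_isPullback (P := @Flat) hsq inferInstance
  haveI : IsFinite (Spec.map f.left.appTop) := MorphismProperty.of_isPullback (P := @IsFinite) hsq inferInstance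
  haveI : Module.Finite Γ(Y.left, ⊤) Γ(X.left, ⊤) :=
    RingHom.finite_algebraMap.mp ((IsFinite.SpecMap_iff _).mp ‹IsFinite (Spec.map f.left.appTop)›)
  haveI : Module.Flat Γ(Y.left, ⊤) Γ(X.left, ⊤) :=
    RingHom.flat_algebraMap_iff.mp (Flat.SpecMap_iff.mp ‹Flat (Spec.map f.left.appTop)›)
  have hZ : ∀ (Z : Over (Spec (CommRingCat.of k))) [IsAffine Z.left] [IsFinite Z.hom] [Algebra k Γ(Z.left, ⊤)]
      [Module.Finite k Γ(Z.left, ⊤)],
      (CommRingCat.ofHom (algebraMap k Γ(Z.left, ⊤)) = (Scheme.ΓSpecIso (CommRingCat.of k)).inv ≫ Z.hom.appTop) →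
      Z.hom.finrank z = Module.finrank k Γ(Z.left, ⊤) := by
    intro Z _ _ _ _ hα
    haveI := hfin Z
    haveI : Flat (Spec.map (CommRingCat.ofHom (algebraMap k Γ(Z.left, ⊤)))) :=
      Flat.SpecMap_iff.mpr (RingHom.flat_algebraMap_iff.mpr inferInstance)
    haveI : IsFinite (Spec.map (CommRingCat.ofHom (algebraMap k Γ(Z.left, ⊤)))) :=
      (IsFinite.SpecMap_iff _).mpr (RingHom.finite_algebraMap.mpr inferInstance)
    rw [hstr Z, ← hα, Scheme.Hom.finrank_comp_left_of_isIso, Scheme.Hom.finrank_SpecMap_algebraMap,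
      Module.rankAtStalk_eq_finrank_of_free, Pi.natCast_apply, Nat.cast_id]
  rw [hZ X rfl, hZ Y rfl]
  refine rank_tower a fun p => ?_
  rw [← Scheme.Hom.finrank_SpecMap_algebraMap]
  show Scheme.Hom.finrank (Spec.map f.left.appTop) p = a
  rw [Scheme.Hom.finrank_of_isPullback _ _ _ _ hsq, ha]

/-- The degree of a kernel. -/
theorem finrank_kernel {G H K : Over (Spec (CommRingCat.of k))} [GrpObj H] (κ : K ⟶ G) (f : G ⟶ H)
    (hk : AlgGrp.IsKernel κ f) [Flat f.left] [IsFinite f.left] :
    IsFinite K.hom ∧ Flat K.hom ∧ ∀ z, K.hom.finrank z = f.left.finrank (η[H].left z) := by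
  have h := hk.map (Over.forget (Spec (CommRingCat.of k)))
  haveI : Flat ((Over.forget (Spec (CommRingCat.of k))).map f) := ‹Flat f.left›
  haveI : IsFinite ((Over.forget (Spec (CommRingCat.of k))).map f) := ‹IsFinite f.left›
  refine ⟨?_, ?_, fun z => ?_⟩
  · exact (MorphismProperty.of_isPullback (P := @IsFinite) h (show IsFinite f.left from inferInstance) : IsFinite (toUnit K).left)
  · exact (MorphismProperty.of_isPullback (P := @Flat) h (show Flat f.left from inferInstance) : Flat (toUnit K).left)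
  · show (toUnit K).left.finrank z = _
    exact Scheme.Hom.finrank_of_isPullback _ _ _ _ h z

theorem flat_pow_torus {T : Over (Spec (CommRingCat.of k))} [GrpObj T] (hT : Red.IsTorus T) {n : ℕ} (hn : 0 < n) :
    Flat ((𝟙 T) ^ n).left := by
  obtain ⟨h1, h2, h3, h4, h5⟩ := torus_props hT
  haveI := (pow_torus_props hT hn).1; haveI := (pow_torus_props hT hn).2
  haveI : AlgebraicGeometry.IsReduced T.left := GrpSchLib.isReduced_of_smooth_field T.hom
  haveI := isMonHom_pow T n
  exact GrpSchLib.flat_of_surjective_hom ((𝟙 T) ^ n)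

theorem finrank_pow_iso {X Y : Over (Spec (CommRingCat.of k))} [GrpObj X] [GrpObj Y] (a : X ⟶ Y) [IsMonHom a]
    [IsIso a.left] (N : ℕ) [Flat ((𝟙 Y) ^ N).left] [IsFinite ((𝟙 Y) ^ N).left] (x : X.left) :
    ((𝟙 X) ^ N).left.finrank x = ((𝟙 Y) ^ N).left.finrank (a.left x) := by
  have hsq : IsPullback a.left ((𝟙 X) ^ N).left ((𝟙 Y) ^ N).left a.left :=
    IsPullback.of_horiz_isIso ⟨by rw [← Over.comp_left, ← Over.comp_left, BC.comp_pow, BC.pow_comp, Category.comp_id, Category.id_comp]⟩
  rw [Scheme.Hom.finrank_of_isPullback _ _ _ _ hsq]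

theorem finrank_pow_torus {T : Over (Spec (CommRingCat.of k))} [GrpObj T] (hT : Red.IsTorus T) {t : ℕ}
    (ht : topologicalKrullDim T.left = t) {N : ℕ} (hN : 0 < N) (y : T.left) :
    ((𝟙 T) ^ N).left.finrank y = N ^ t := by
  obtain ⟨h1, h2, h3, h4, h5⟩ := torus_props hT
  haveI := flat_pow_torus hT hN; haveI := (pow_torus_props hT hN).2
  obtain ⟨K, _, _, φ, r, ⟨e⟩⟩ := TorusBilin.exists_split hT
  let g := Spec.map (CommRingCat.ofHom φ)
  haveI : Surjective g := ⟨fun x => ⟨IsLocalRing.closedPoint K, Subsingleton.elim (α := PrimeSpectrum k) _ _⟩⟩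
  let a : Red.bc g T ≅ TorusBilin.Tor K r := (Grp.forget _).mapIso e
  haveI : IsMonHom a.hom := e.hom.hom.isMonHom_hom
  haveI : IsIso a.hom.left := inferInstanceAs (IsIso ((Over.forget _).map a.hom))
  have htr : t = r := by
    haveI : LocallyOfFiniteType T.hom := inferInstance
    haveI : LocallyOfFiniteType (pullback.snd T.hom g) := inferInstance
    haveI : Subsingleton ↥(Spec (CommRingCat.of k)) := FibDim.subsingleton_spec_field k
    haveI : Subsingleton ↥(Spec (CommRingCat.of K)) := FibDim.subsingleton_spec_field K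
    haveI : Nonempty ↥(Spec (CommRingCat.of K)) := ⟨IsLocalRing.closedPoint K⟩
    have e1 := FibDim.topologicalKrullDim_baseChange (IsPullback.of_hasPullback T.hom g)
    have e2 : topologicalKrullDim ↥(Red.bc g T).left = topologicalKrullDim ↥(TorusBilin.Tor K r).left :=
      a.hom.left.homeomorph.isHomeomorph.topologicalKrullDim_eq
    have e3 : topologicalKrullDim ↥(TorusBilin.Tor K r).left = r :=
      (PrimeSpectrum.topologicalKrullDim_eq_ringKrullDim _).trans (ringKrullDim_laurent K r)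
    have : (t : WithBot ℕ∞) = r := ht.symm.trans (e1.symm.trans (e2.trans e3))
    exact_mod_cast this
  subst htr
  have hsp : ∀ x, ((𝟙 (TorusBilin.Tor K t)) ^ N).left.finrank x = N ^ t := by
    intro x
    obtain ⟨hf1, hf2, hf3⟩ := finrank_powConv K t hN x
    rw [← spMap_powConv]
    show Scheme.Hom.finrank (Spec.map (CommRingCat.ofHom _)) x = _
    rw [Scheme.Hom.finrank_SpecMap_eq_finrank hf1 hf2]
    exact hf3
  obtain ⟨y', rfl⟩ := (pullback.fst T.hom g).surjective y
  refine (Scheme.Hom.finrank_of_isPullback _ _ _ _ (isPullback_map g ((𝟙 T) ^ N)) y').symm.trans ?_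
  have h : (Over.pullback g).map ((𝟙 T) ^ N) = (𝟙 (Red.bc g T)) ^ N := by
    rw [show (Over.pullback g).map ((𝟙 T) ^ N) = (Over.pullback g).homMonoidHom ((𝟙 T) ^ N) from rfl, map_pow]
    congr 1
    exact (Over.pullback g).map_id T
  rw [h]
  haveI : IsFinite ((𝟙 (TorusBilin.Tor K t)) ^ N).left := (pow_tor_props (K := K) t hN).2
  haveI : Flat ((𝟙 (TorusBilin.Tor K t)) ^ N).left := by
    rw [← spMap_powConv]
    exact Flat.SpecMap_iff.mpr (finrank_powConv K t hN (a.hom.left y')).2.1
  exact (finrank_pow_iso a.hom N y').trans (hsp _)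

/-- The degree of the torsion of a semi-abelian variety. -/
theorem torsion_degree {G T B K : Over (Spec (CommRingCat.of k))} [GrpObj G] [IsCommMonObj G] [GrpObj T] [GrpObj B]
    [GrpObj K] [Smooth G.hom] [QuasiCompact G.hom] [ConnectedSpace G.left]
    (i : T ⟶ G) [IsMonHom i] [IsClosedImmersion i.left] (hT : Red.IsTorus T)
    (q : G ⟶ B) [IsMonHom q] [Surjective q.left] [Flat q.left] (hk : AlgGrp.IsKernel i q)
    [IsProper B.hom] [Smooth B.hom] [ConnectedSpace B.left]
    {t a : ℕ} (ht : topologicalKrullDim T.left = t) (ha : topologicalKrullDim B.left = a) {N : ℕ} (hN : 0 < N)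
    (κ : K ⟶ G) [IsMonHom κ] (hK : AlgGrp.IsKernel κ ((𝟙 G) ^ N)) :
    IsFinite K.hom ∧ Flat K.hom ∧ ∀ z, K.hom.finrank z = N ^ (t + 2 * a) := by
  have hG : IsSA G := ⟨T, inferInstance, i, B, inferInstance, q, inferInstance, inferInstance, hT, inferInstance,
    inferInstance, inferInstance, hk, inferInstance, inferInstance, inferInstance⟩
  haveI := GrpSchLib.AntiAffine.isSeparated_grp G
  haveI := GrpSchLib.AntiAffine.isSeparated_grp B
  haveI := hG.isFinite_pow hN; haveI := hG.flat_pow hN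
  obtain ⟨hKf, hKfl, -⟩ := finrank_kernel κ _ hK
  refine ⟨hKf, hKfl, fun z => ?_⟩
  haveI : GeometricallyIntegral B.hom := AlbQuotLib.geometricallyIntegral B
  haveI : IsCommMonObj B := isCommMonObj_of_isProper_of_geometricallyIntegral B
  haveI := isMonHom_pow B N; haveI := isMonHom_pow G N
  have hBp := AVDegLib.zpow_props (A := B) (N : ℤ) (by exact_mod_cast hN.ne')
  rw [zpow_natCast] at hBp
  haveI := hBp.1; haveI := hBp.2.1
  obtain ⟨KB, _, κB, hκB, hκBc, -, hkB⟩ := GrpSchLib.exists_kernel ((𝟙 B) ^ N)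
  haveI := hκB; haveI := hκBc
  obtain ⟨hKBf, hKBfl, hKBr⟩ := finrank_kernel κB _ hkB
  haveI := hKBf; haveI := hKf
  haveI : LocallyOfFiniteType KB.hom := inferInstance
  haveI := isCommMonObj_sub κB
  obtain ⟨E, _, e, πE, iE, he, hπE, hiE, hpb, hπEf, hπEs, hiEc, hiEe, hkE, hEc, hEl, hEq, hec⟩ :=
    exists_fibre q i hk κB
  haveI := he; haveI := hπE; haveI := hiE; haveI := hπEf; haveI := hπEs; haveI := hiEc; haveI := hEl; haveI := hEq
  haveI := hec inferInstance
  haveI : Mono e := Over.mono_of_mono_left _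
  haveI : Mono i := Over.mono_of_mono_left _
  haveI : Mono κB := Over.mono_of_mono_left _
  obtain ⟨h1, h2, h3, h4, h5⟩ := torus_props hT
  haveI := isMonHom_pow T N
  haveI := (pow_torus_props hT hN).1; haveI := (pow_torus_props hT hN).2; haveI := flat_pow_torus hT hN
  let p : E ⟶ T := hk.lift (e ≫ (𝟙 G) ^ N) (toUnit E) (by
    rw [Category.assoc, BC.pow_comp, Category.id_comp, BC.comp_pow, hpb.w,
      show (πE ≫ κB) ^ N = πE ≫ κB ≫ (𝟙 B) ^ N by rw [BC.comp_pow, BC.comp_pow, Category.comp_id],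
      hkB.w, ← Category.assoc, comp_toUnit])
  have hp : p ≫ i = e ≫ (𝟙 G) ^ N := hk.lift_fst _ _ _
  haveI : IsMonHom p := LargeNormal.isMonHom_of_mul _ fun U x y => by
    rw [← cancel_mono i, Category.assoc]
    simp only [Category.assoc, hp, MonObj.mul_comp]
  haveI : Mono κ := ⟨fun a b h => hK.hom_ext h (toUnit_unique _ _)⟩
  let j : K ⟶ E := hpb.lift κ (hkB.lift (κ ≫ q) (toUnit K) (by
    rw [BC.comp_pow, Category.comp_id, show (κ ≫ q) ^ N = (κ ≫ (𝟙 G) ^ N) ≫ q by
      rw [BC.comp_pow, Category.comp_id, BC.pow_comp], hK.w, Category.assoc, IsMonHom.one_hom]))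
    (hkB.lift_fst _ _ _).symm
  have hj : j ≫ e = κ := hpb.lift_fst _ _ _
  haveI : IsMonHom j := LargeNormal.isMonHom_of_mul _ fun U x y => by
    rw [← cancel_mono e, Category.assoc]
    simp only [Category.assoc, hj, MonObj.mul_comp]
  have hkj : AlgGrp.IsKernel j p := by
    refine ⟨⟨by rw [← cancel_mono i, Category.assoc, hp, ← Category.assoc, hj, hK.w, Category.assoc, IsMonHom.one_hom i]⟩,
      ⟨PullbackCone.IsLimit.mk _ (fun s => hK.lift (s.fst ≫ e) (toUnit _) ?_) (fun s => ?_)
      (fun s => toUnit_unique _ _) (fun s m h1 _ => ?_)⟩⟩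
    · rw [Category.assoc, ← hp, ← Category.assoc, show s.fst ≫ p = s.snd ≫ η[T] from s.condition, Category.assoc,
        IsMonHom.one_hom i, toUnit_unique s.snd (toUnit _)]
    · rw [← cancel_mono e, Category.assoc, hj, hK.lift_fst]
    · rw [← cancel_mono κ, hK.lift_fst, ← h1, Category.assoc, hj]
  let π : K ⟶ KB := j ≫ πE
  have hiEp : iE ≫ p = (𝟙 T) ^ N := by
    rw [← cancel_mono i, Category.assoc, hp, reassoc_of% hiEe, BC.comp_pow, Category.comp_id, BC.pow_comp,
      Category.id_comp]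
  let Ψ : T ⊗ K ⟶ E := (fst T K ≫ iE) * (snd T K ≫ j)
  have hpbΨ : IsPullback Ψ (fst T K) p ((𝟙 T) ^ N) := by
    refine ⟨⟨?_⟩, ⟨PullbackCone.IsLimit.mk _ (fun c => lift c.snd (hkj.lift (c.fst * (c.snd ≫ iE)⁻¹) (toUnit _) (by
        rw [MonObj.mul_comp, GrpObj.inv_comp, Category.assoc, hiEp, c.condition, mul_inv_cancel, Hom.one_def])))
      (fun c => ?_) (fun c => lift_fst _ _) (fun c m h1 h2 => ?_)⟩⟩
    · rw [MonObj.mul_comp, Category.assoc, Category.assoc, hiEp, hkj.w, ← Category.assoc, comp_toUnit,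
        ← Hom.one_def, _root_.mul_one]
    · rw [MonObj.comp_mul, lift_fst_assoc, lift_snd_assoc, hkj.lift_fst, mul_comm, inv_mul_cancel_right]
    · apply CartesianMonoidalCategory.hom_ext
      · rw [lift_fst, h2]
      · rw [lift_snd]
        refine hkj.hom_ext ?_ (toUnit_unique _ _)
        rw [hkj.lift_fst, eq_mul_inv_iff_mul_eq, ← h2, ← h1, MonObj.comp_mul, Category.assoc, Category.assoc, mul_comm]
  have hlΨ := hpbΨ.map (Over.forget _)
  haveI : Flat Ψ.left := MorphismProperty.of_isPullback (P := @Flat) hlΨ.flip (show Flat ((𝟙 T) ^ N).left from inferInstance)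
  haveI : Surjective Ψ.left := MorphismProperty.of_isPullback (P := @Surjective) hlΨ.flip (show Surjective ((𝟙 T) ^ N).left from inferInstance)
  have hΨπ : Ψ ≫ πE = snd T K ≫ π := by
    rw [MonObj.mul_comp, Category.assoc, hkE.w, ← Category.assoc, comp_toUnit, ← Hom.one_def, _root_.one_mul,
      Category.assoc]
  haveI : Flat ((snd T K).left ≫ π.left) := by rw [← Over.comp_left, ← hΨπ, Over.comp_left]; infer_instance
  haveI : Surjective ((snd T K).left ≫ π.left) := by rw [← Over.comp_left, ← hΨπ, Over.comp_left]; infer_instance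
  haveI : Surjective π.left := Surjective.of_comp (snd T K).left π.left
  haveI : Surjective T.hom := ⟨fun x => ⟨η[T].left x, Subsingleton.elim (α := PrimeSpectrum k) _ _⟩⟩
  haveI : Flat T.hom := inferInstance
  haveI : Flat (snd T K).left := MorphismProperty.pullback_snd (P := @Flat) _ _ inferInstance
  haveI : Surjective (snd T K).left := MorphismProperty.pullback_snd (P := @Surjective) _ _ inferInstance
  haveI : LocallyOfFinitePresentation (snd T K).left :=
    MorphismProperty.pullback_snd (P := @LocallyOfFinitePresentation) _ _ inferInstance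
  haveI : Flat π.left := SrcDescent.flat_of_fppf_comp (snd T K).left π.left
  haveI : IsFinite π.left := by
    haveI : IsFinite (π.left ≫ KB.hom) := by rw [Over.w π]; infer_instance
    exact IsFinite.of_comp π.left KB.hom
  obtain ⟨KT, _, κT, hκT, hκTc, -, hkT⟩ := GrpSchLib.exists_kernel ((𝟙 T) ^ N)
  haveI := hκT; haveI := hκTc
  obtain ⟨hKTf, hKTfl, hKTr⟩ := finrank_kernel κT _ hkT
  haveI : Mono κT := Over.mono_of_mono_left _
  let l : KT ⟶ K := hK.lift (κT ≫ i) (toUnit KT) (by
    rw [Category.assoc, BC.comp_pow, Category.comp_id, show i ^ N = ((𝟙 T) ^ N) ≫ i by rw [BC.pow_comp, Category.id_comp],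
      reassoc_of% hkT.w, IsMonHom.one_hom i])
  have hl : l ≫ κ = κT ≫ i := hK.lift_fst _ _ _
  have hlj : l ≫ j = κT ≫ iE := by rw [← cancel_mono e, Category.assoc, hj, hl, Category.assoc, hiEe]
  have hkl : AlgGrp.IsKernel l π := by
    refine ⟨⟨by rw [← Category.assoc, hlj, Category.assoc, hkE.w, ← Category.assoc, comp_toUnit]⟩,
      ⟨PullbackCone.IsLimit.mk _ (fun s => hkT.lift (hkE.lift (s.fst ≫ j) (toUnit _)
        (by rw [Category.assoc, show s.fst ≫ j ≫ πE = s.snd ≫ η[KB] from s.condition, toUnit_unique s.snd (toUnit _)]))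
        (toUnit _) ?_)
      (fun s => ?_) (fun s => toUnit_unique _ _) (fun s m h1 _ => ?_)⟩⟩
    · rw [← cancel_mono i, Category.assoc, BC.pow_comp, Category.id_comp, ← hiEe,
        show (iE ≫ e) ^ N = iE ≫ e ≫ (𝟙 G) ^ N by rw [BC.comp_pow, Category.comp_id, BC.comp_pow],
        hkE.lift_fst_assoc, Category.assoc, reassoc_of% hj, hK.w]
      simp only [← Category.assoc, comp_toUnit]
      rw [Category.assoc, Category.assoc, reassoc_of% (IsMonHom.one_hom iE), IsMonHom.one_hom e]
    · rw [← cancel_mono κ, Category.assoc, hl, hkT.lift_fst_assoc,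
        show ∀ {U : Over (Spec (CommRingCat.of k))} (w : U ⟶ T), w ≫ i = (w ≫ iE) ≫ e from fun w => by rw [Category.assoc, hiEe],
        hkE.lift_fst, Category.assoc, hj]
    · rw [← cancel_mono κT, hkT.lift_fst]
      haveI : Mono iE := Over.mono_of_mono_left _
      rw [← cancel_mono iE, hkE.lift_fst, Category.assoc, ← hlj, ← h1, Category.assoc]
  have hrank : ∀ b, π.left.finrank b = N ^ t := by
    intro b
    obtain ⟨x, rfl⟩ := π.left.surjective b
    have hp2 := (BC.isPullback_translate (G := K) l π hkl).map (Over.forget _)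
    haveI : Flat ((Over.forget (Spec (CommRingCat.of k))).map π) := ‹Flat π.left›
    haveI : IsFinite ((Over.forget (Spec (CommRingCat.of k))).map π) := ‹IsFinite π.left›
    refine (Scheme.Hom.finrank_of_isPullback _ _ _ _ hp2 x).symm.trans ?_
    show (pullback.snd KT.hom K.hom).finrank x = _
    haveI := hKTf; haveI := hKTfl
    rw [Scheme.Hom.finrank_pullback_snd, hKTr, finrank_pow_torus hT ht hN]
  rw [finrank_tower π _ hrank, hKBr, ← zpow_natCast, AVDegLib.finrank_zpow ha (N : ℤ) (by exact_mod_cast hN.ne'),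
    Int.natAbs_natCast, pow_add]

end Groth.Agent.Chevalley.CommAff
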