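import Groth.Agent.GrpSchLib.UniPartDiag
import Groth.Agent.GrpSchLib.MultTypeBC
import Groth.Agent.MultConjLib.Bridge
import Groth.Agent.MultTypeLib.Field
import Groth.Agent.MultTypeLib.HopfKer
import Groth.Agent.S16065
import Groth.Agent.GrpSchLib.SimpleFinite
import Groth.Agent.MultConjLib.ClosedSub
import Mathlib.LinearAlgebra.FreeModule.PID

/-!
Commutative affine groups in positive characteristic: some power map lands in a torus.
-/

set_option autoImplicit false
set_option maxHeartbeats 1000000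
universe u
open TensorProduct WithConv Coalgebra Bialgebra
open CategoryTheory CategoryTheory.Limits AlgebraicGeometry

namespace Groth.Agent.Chevalley.CommAff

/-- A map on a quotient which is a bialgebra map upstairs is one. -/
noncomputable def bialgOfSurj {R A B C : Type u} [CommRing R] [CommRing A] [CommRing B] [CommRing C] [Bialgebra R A]
    [Bialgebra R B] [Bialgebra R C] (q : A →ₐc[R] B) (hq : Function.Surjective q) (f : B →ₐ[R] C) (ψ : A →ₐc[R] C)
    (h : ∀ a, f (q a) = ψ a) : B →ₐc[R] C :=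
  BialgHom.ofAlgHom f (AlgHom.ext fun b => by
      obtain ⟨a, rfl⟩ := hq b
      show Coalgebra.counit (R := R) (f (q a)) = Coalgebra.counit (R := R) (q a)
      rw [h, CoalgHomClass.counit_comp_apply ψ, CoalgHomClass.counit_comp_apply q])
    (AlgHom.ext fun b => by
      obtain ⟨a, rfl⟩ := hq b
      show Algebra.TensorProduct.map f f (Coalgebra.comul (R := R) (q a)) = Coalgebra.comul (R := R) (f (q a))
      rw [h, ← CoalgHomClass.map_comp_comul_apply q, ← CoalgHomClass.map_comp_comul_apply ψ]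
      induction Coalgebra.comul (R := R) a using TensorProduct.induction_on with
      | zero => simp
      | tmul x y => simp [h]
      | add x y hx hy => simp only [map_add, hx, hy])

theorem bialgOfSurj_apply {R A B C : Type u} [CommRing R] [CommRing A] [CommRing B] [CommRing C] [Bialgebra R A]
    [Bialgebra R B] [Bialgebra R C] (q : A →ₐc[R] B) (hq : Function.Surjective q) (f : B →ₐ[R] C) (ψ : A →ₐc[R] C)
    (h : ∀ a, f (q a) = ψ a) (b : B) : bialgOfSurj q hq f ψ h b = f b := rfl

open Groth.Agent.GrpSchLib Groth.Agent.MultTypeLib Groth.Agent.ComodLib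

section Conv

variable {k : Type u} [Field k] {A C : Type u} [CommRing A] [HopfAlgebra k A] [CommRing C] [HopfAlgebra k C]

theorem bialgHom_comp_powConv (φ : A →ₐc[k] C) (n : ℕ) :
    (SGA3b.powConv k C n).comp (φ : A →ₐ[k] C) = (φ : A →ₐ[k] C).comp (SGA3b.powConv k A n) := by
  induction n with
  | zero =>
    refine AlgHom.ext fun a => ?_
    simp [SGA3b.powConv, AlgHom.convOne_def, AlgHomClass.commutes]
  | succ n ih =>
    have e1 := AlgHom.convMul_comp_bialgHom_distrib (toConv (SGA3b.powConv k C n)) (toConv (AlgHom.id k C)) φ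
    have e2 := AlgHom.comp_convMul_distrib (φ : A →ₐ[k] C) (toConv (SGA3b.powConv k A n)) (toConv (AlgHom.id k A))
    simp only [SGA3b.powConv, pow_succ] at e1 e2 ⊢
    rw [e1, e2]
    congr 2
    simp only [SGA3b.powConv] at ih
    exact congrArg toConv ih

theorem powConv_mul [Coalgebra.IsCocomm k A] (a b : ℕ) :
    SGA3b.powConv k A (a * b) = (SGA3b.powConv k A a).comp (SGA3b.powConv k A b) := by
  induction b with
  | zero =>
    refine AlgHom.ext fun x => ?_
    simp [SGA3b.powConv, AlgHom.convOne_def]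
  | succ b ih =>
    have e2 := AlgHom.comp_convMul_distrib (SGA3b.powConv k A a) (toConv (SGA3b.powConv k A b)) (toConv (AlgHom.id k A))
    simp only [SGA3b.powConv, pow_succ, Nat.mul_succ, pow_add] at e2 ih ⊢
    rw [e2, ← ih]
    rfl

omit [HopfAlgebra k C] [CommRing C] in
open GrpSchLib.UniPart in
/-- In characteristic `p` the `p^m`-th power kills the `m`-th step of the conilpotent filtration. -/
theorem powConv_Bn (p : ℕ) [Fact p.Prime] [CharP k p] {n m : ℕ} (hnm : n ≤ p ^ m) {b : A} (hb : b ∈ Bn k A n) :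
    SGA3b.powConv k A (p ^ m) b = algebraMap k A (counit (R := k) b) := by
  let h : WithConv (A →ₗ[k] A) := toConv LinearMap.id - 1
  have h1 : h.ofConv 1 = 0 := by simp [h]
  have hvan : ∀ (i : ℕ) (x : A), x ∈ Bn k A i → (h ^ i).ofConv x = 0 := by
    intro i
    induction i with
    | zero => intro x hx; rw [(Submodule.mem_bot k).mp hx, map_zero]
    | succ i ih =>
      intro x hx
      obtain ⟨w, hw⟩ : comul (R := k) x - x ⊗ₜ[k] (1 : A) ∈ LinearMap.range ((Bn k A i).subtype.rTensor A) := by
        refine (mem_range_rTensor_subtype_iff _ _).mpr fun φ => ?_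
        rw [map_sub, ComodLib.slice_tmul]
        exact (mem_Bn_succ k A i x).mp hx φ
      rw [pow_succ, LinearMap.convMul_apply, ← sub_add_cancel (comul (R := k) x) (x ⊗ₜ[k] (1 : A)), ← hw, map_add,
        map_add, TensorProduct.map_tmul, LinearMap.mul'_apply, h1, mul_zero, add_zero, ← LinearMap.comp_apply (f := TensorProduct.map _ _),
        LinearMap.map_comp_rTensor]
      have h2 : (h ^ i).ofConv ∘ₗ (Bn k A i).subtype = 0 := LinearMap.ext fun y => ih y y.2
      rw [h2, TensorProduct.map_zero_left, LinearMap.zero_apply, map_zero]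
  have hp0 : ((p : ℕ) : WithConv (A →ₗ[k] A)) = 0 := by
    rw [← map_natCast (algebraMap k (WithConv (A →ₗ[k] A))), CharP.cast_eq_zero, map_zero]
  obtain ⟨r, hr⟩ := (Commute.one_left h).exists_add_pow_prime_pow_eq Fact.out m (p := p)
  rw [one_pow, hp0, zero_mul, zero_mul, zero_mul, add_zero, add_sub_cancel] at hr
  have e : ((toConv LinearMap.id : WithConv (A →ₗ[k] A)) ^ (p ^ m)).ofConv b = SGA3b.powConv k A (p ^ m) b :=
    (LinearMap.congr_fun (congrArg WithConv.ofConv (AlgHom.toLinearMap_convPow (toConv (AlgHom.id k A)) (p ^ m))) b).symm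
  rw [← e, hr]
  simp [hvan _ b (GrpSchLib.UniPart.Bn_mono k A hnm hb)]

end Conv

theorem exists_torsion_bound (M : Type u) [CommGroup M] [Group.FG M] :
    ∃ N : ℕ, 0 < N ∧ ∀ m : M, IsOfFinOrder m → m ^ N = 1 := by
  haveI : Module.Finite ℤ (Additive M) := Module.Finite.iff_addGroup_fg.mpr (GroupFG.iff_add_fg.mp ‹_›)
  haveI : Finite (CommGroup.torsion M) := by
    let T : Submodule ℤ (Additive M) := AddSubgroup.toIntSubmodule (AddCommGroup.torsion (Additive M))
    haveI : Module.Finite ℤ T := inferInstance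
    haveI : Finite T := Module.finite_of_fg_torsion T fun ⟨x, hx⟩ => by
      obtain ⟨n, hn, hnx⟩ := isOfFinAddOrder_iff_nsmul_eq_zero.mp hx
      exact ⟨⟨(n : ℤ), mem_nonZeroDivisors_of_ne_zero (Int.natCast_ne_zero.mpr hn.ne')⟩, Subtype.ext (by simpa using hnx)⟩
    exact Finite.of_equiv T (Equiv.subtypeEquiv Additive.toMul fun x => Iff.rfl)
  refine ⟨Nat.card (CommGroup.torsion M), Nat.card_pos, fun m hm => ?_⟩
  exact congrArg Subtype.val (pow_card_eq_one' (x := (⟨m, hm⟩ : CommGroup.torsion M)))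

theorem exists_free_model (M : Type u) [CommGroup M] [Group.FG M] (h : ∀ m : M, IsOfFinOrder m → m = 1) :
    ∃ r : ℕ, Nonempty (M ≃* Multiplicative (Fin r → ℤ)) := by
  haveI : Module.Finite ℤ (Additive M) := Module.Finite.iff_addGroup_fg.mpr (GroupFG.iff_add_fg.mp ‹_›)
  haveI : Module.IsTorsionFree ℤ (Additive M) := by
    refine Module.isTorsionFree_iff_smul_eq_zero.mpr fun n x hx => ?_
    by_contra hne
    push Not at hne
    exact hne.2 (congrArg Additive.ofMul (h x.toMul (isOfFinOrder_iff_zpow_eq_one.mpr ⟨n, hne.1, congrArg Additive.toMul hx⟩)))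
  obtain ⟨r, b⟩ := Module.basisOfFiniteTypeTorsionFree' (R := ℤ) (M := Additive M)
  exact ⟨r, ⟨AddEquiv.toMultiplicativeRight b.equivFun.toAddEquiv⟩⟩

section Torus

variable {k : Type u} [Field k]

theorem isTorus_sp {Q : Type u} [CommRing Q] [HopfAlgebra k Q] (K : Type u) [Field K] [Algebra k K] [Module.Finite k K]
    {r : ℕ} (e : K ⊗[k] Q ≃ₐc[K] MonoidAlgebra K (Multiplicative (Fin r → ℤ))) : Red.IsTorus (AffineHopf.sp k Q) := by
  let f : Spec (CommRingCat.of K) ⟶ Spec (CommRingCat.of k) := Spec.map (CommRingCat.ofHom (algebraMap k K))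
  haveI : Flat f := (HasRingHomProperty.Spec_iff (P := @Flat)).mpr (RingHom.flat_algebraMap_iff.mpr inferInstance)
  haveI : Surjective f := ⟨fun x => ⟨IsLocalRing.closedPoint K, Subsingleton.elim _ _⟩⟩
  refine ⟨_, f, inferInstance, inferInstance, fun V hV => ⟨f ⁻¹ᵁ V, f.isCompact_preimage hV.isCompact,
    Set.image_preimage_eq _ (Scheme.Hom.surjective f)⟩, fun s' => ⟨⊤, trivial, r, ?_⟩⟩
  obtain ⟨e₂⟩ := GrpSchLib.MultTypeBC.bc_bc (⊤ : (Spec (CommRingCat.of K)).Opens).ι f (AffineHopf.sp k Q)
  obtain ⟨e₃⟩ := AffineHopf.nonempty_bc_sp (R := k) K Q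
  obtain ⟨e₄⟩ := AffineHopf.nonempty_DS_iso K (Fin r → ℤ)
  obtain ⟨e₅⟩ := GrpSchLib.MultTypeBC.bc_iso (⊤ : (Spec (CommRingCat.of K)).Opens).ι (e₃ ≪≫ AffineHopf.spIso e.symm ≪≫ e₄)
  obtain ⟨e₆⟩ := GrpSchLib.MultTypeBC.bc_DS (⊤ : (Spec (CommRingCat.of K)).Opens).ι (Fin r → ℤ)
  exact ⟨e₂.symm ≪≫ e₅ ≪≫ e₆⟩

open GrpSchLib.UniPart in
/-- In characteristic `p` a power map kills the ideal of the largest subgroup of multiplicative type. -/
theorem exists_pow_kill_J (p : ℕ) [Fact p.Prime] [CharP k p] (A : Type u) [CommRing A] [HopfAlgebra k A]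
    [Algebra.FiniteType k A] [Coalgebra.IsCocomm k A] :
    ∃ m, ∀ a ∈ J k A, SGA3b.powConv k A (p ^ m) a = 0 := by
  classical
  haveI : IsNoetherianRing A := Algebra.FiniteType.isNoetherianRing k A
  obtain ⟨s, hs, hspan⟩ := Submodule.fg_span_iff_fg_span_finset_subset _ |>.mp
    (IsNoetherian.noetherian (J k A) : (J k A).FG)
  choose nf hnf using fun b : s => (mem_Bs k A b.1).mp (hs b.2).1
  refine ⟨s.attach.sup nf, fun a ha => ?_⟩
  have hle : Ideal.span (s : Set A) ≤ RingHom.ker (SGA3b.powConv k A (p ^ s.attach.sup nf)) :=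
    Ideal.span_le.mpr fun b hb => by
      show SGA3b.powConv k A _ b = 0
      rw [powConv_Bn p ((Finset.le_sup (f := nf) (s.mem_attach ⟨b, hb⟩)).trans
        (Nat.lt_pow_self (Fact.out : p.Prime).one_lt).le) (hnf ⟨b, hb⟩),
        show counit (R := k) b = 0 from (hs hb).2, map_zero]
  have ha' : a ∈ Ideal.span (s : Set A) := by
    rw [J, SGA3.augIdealSpan] at ha
    exact hspan.le ha
  exact hle ha'

open GrpSchLib.UniPart in
/-- The ideal of the largest torus of a commutative affine group. -/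
theorem exists_maxTorus_ideal (A : Type u) [CommRing A] [HopfAlgebra k A]
    [Algebra.FiniteType k A] [Coalgebra.IsCocomm k A] :
    ∃ (I : Ideal A) (_ : I.IsHopfIdeal k) (N : ℕ), 0 < N ∧ Red.IsTorus (AffineHopf.sp k (A ⧸ I)) ∧ J k A ≤ I ∧
      ∀ a ∈ I, SGA3b.powConv k A N a ∈ J k A := by
  classical
  haveI : IsNoetherianRing A := Algebra.FiniteType.isNoetherianRing k A
  haveI := isHopfIdeal_J (k := k) (A := A)
  let A' := A ⧸ J k A
  haveI : Coalgebra.IsCocomm k A' :=
    MultConjLib.isCocomm_of_surjective (Bialgebra.Quotient.mkBialgHom (J k A)) Ideal.Quotient.mk_surjective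
  have hmt : SGA3b.IsMultType k A' := by
    obtain ⟨S, _, _, _, hd⟩ := isMultTypeConst_quot (k := k) (A := A)
    exact MultTypeLib.isMultType_of_ff S hd
  obtain ⟨K, _, _, _, M, _, ⟨e⟩⟩ := MultTypeLib.exists_isDiag_finite k A' inferInstance hmt
  haveI : Algebra.FiniteType K (MonoidAlgebra K M) :=
    Algebra.FiniteType.equiv inferInstance (e : K ⊗[k] A' ≃ₐ[K] MonoidAlgebra K M)
  haveI : Group.FG M := Group.fg_iff_monoid_fg.mpr (MonoidAlgebra.fg_of_finiteType (R := K))
  obtain ⟨N, hN, hMN⟩ := exists_torsion_bound M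
  let mk : A →ₐc[k] A' := Bialgebra.Quotient.mkBialgHom (J k A)
  let pw : A' →ₐc[k] A' := MultTypeLib.powBialg N
  let ψ : A →ₐc[k] A' := pw.comp mk
  let I : Ideal A := RingHom.ker (ψ : A →ₐ[k] A')
  haveI : I.IsHopfIdeal k := GrpSchLib.isHopfIdeal_ker ψ fun a ha => by
    rw [← MultTypeLib.antipode_comm, ha, map_zero]
  let f₀ : A ⧸ I →ₐ[k] A' := Ideal.Quotient.liftₐ I ψ fun a ha => ha
  have hf₀ : ∀ a, f₀ (Ideal.Quotient.mk I a) = ψ a := fun a => rfl
  let f : A ⧸ I →ₐc[k] A' := bialgOfSurj (Bialgebra.Quotient.mkBialgHom I) Ideal.Quotient.mk_surjective f₀ ψ hf₀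
  have hJI : J k A ≤ I := fun a ha => by
    show pw (Ideal.Quotient.mk (J k A) a) = 0
    rw [Ideal.Quotient.eq_zero_iff_mem.mpr ha, map_zero]
  let r₀ : A' →ₐ[k] A ⧸ I := Ideal.Quotient.factorₐ k hJI
  let r : A' →ₐc[k] A ⧸ I := bialgOfSurj mk Ideal.Quotient.mk_surjective r₀ (Bialgebra.Quotient.mkBialgHom I) fun a => rfl
  refine ⟨I, inferInstance, N, hN, ?_, hJI, fun a ha => ?_⟩
  · let F : K ⊗[k] (A ⧸ I) →ₐc[K] K ⊗[k] A' := Bialgebra.TensorProduct.map (BialgHom.id K K) f
    let R : K ⊗[k] A' →ₐc[K] K ⊗[k] (A ⧸ I) := Bialgebra.TensorProduct.map (BialgHom.id K K) r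
    have hFinj : Function.Injective F := by
      have hf : Function.Injective f₀ := (injective_iff_map_eq_zero f₀).mpr fun z hz => by
        obtain ⟨a, rfl⟩ := Ideal.Quotient.mk_surjective z
        exact Ideal.Quotient.eq_zero_iff_mem.mpr hz
      intro x y hxy
      refine Module.Flat.lTensor_preserves_injective_linearMap (M := K) f₀.toLinearMap hf ?_
      have e : ∀ z, F z = LinearMap.lTensor K f₀.toLinearMap z := fun z => by
        induction z using TensorProduct.induction_on with
        | zero => simp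
        | tmul c a => simp [F, f, bialgOfSurj_apply]
        | add x y hx hy => simp only [map_add, hx, hy]
      rw [← e, ← e, hxy]
    have hFR : ∀ z, F (R z) = (Algebra.TensorProduct.map (AlgHom.id K K) (SGA3b.powConv k A' N)) z := fun z => by
      induction z using TensorProduct.induction_on with
      | zero => simp
      | tmul c a =>
        obtain ⟨a, rfl⟩ := Ideal.Quotient.mk_surjective a
        have h1 : f (r (Ideal.Quotient.mk (J k A) a)) = SGA3b.powConv k A' N (Ideal.Quotient.mk (J k A) a) :=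
          MultTypeLib.powBialg_apply N (Ideal.Quotient.mk (J k A) a)
        simp [F, R, h1]
      | add x y hx hy => simp only [map_add, hx, hy]
    have hRs : Function.Surjective R := fun z => by
      induction z using TensorProduct.induction_on with
      | zero => exact ⟨0, map_zero _⟩
      | tmul c a =>
        obtain ⟨a, rfl⟩ := Ideal.Quotient.mk_surjective a
        refine ⟨c ⊗ₜ Ideal.Quotient.mk (J k A) a, ?_⟩
        simp [R, r, bialgOfSurj_apply, r₀]
        rfl
      | add x y hx hy =>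
        obtain ⟨x', rfl⟩ := hx
        obtain ⟨y', rfl⟩ := hy
        exact ⟨x' + y', map_add _ _ _⟩
    have hdz : HopfRep.IsDiagonalizable K (K ⊗[k] (A ⧸ I)) := by
      refine eq_top_iff.mpr fun z _ => ?_
      obtain ⟨x, rfl⟩ := hRs z
      obtain ⟨y, rfl⟩ := e.symm.toAlgEquiv.surjective x
      induction y using MonoidAlgebra.induction_linear with
      | zero => simp
      | add a b ha hb => simp only [map_add]; exact add_mem (ha Submodule.mem_top) (hb Submodule.mem_top)
      | single a c =>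
        rw [show MonoidAlgebra.single a c = c • MonoidAlgebra.single a (1 : K) by simp, map_smul, map_smul]
        exact Submodule.smul_mem _ _ (Submodule.subset_span
          (((MonoidAlgebra.isGroupLikeElem_single_one a).map e.symm).map R))
    obtain ⟨M', _, ⟨e'⟩⟩ := S16065.isDiag_of_isDiagonalizable hdz
    haveI : Algebra.FiniteType K (MonoidAlgebra K M') :=
      Algebra.FiniteType.equiv inferInstance (e' : K ⊗[k] (A ⧸ I) ≃ₐ[K] MonoidAlgebra K M')
    haveI : Group.FG M' := Group.fg_iff_monoid_fg.mpr (MonoidAlgebra.fg_of_finiteType (R := K))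
    let P : MultTypeLib.Split k A' :=
      { S := K, M := M
        hom := (SemiBialgHom.ofBialgHom (e : K ⊗[k] A' →ₐc[K] MonoidAlgebra K M)).comp (SemiBialgHom.baseChange k K A')
        equiv := (e : K ⊗[k] A' ≃ₐ[K] MonoidAlgebra K M)
        equiv_tmul := fun _ => rfl }
    have hP : ∀ z, e ((Algebra.TensorProduct.map (AlgHom.id K K) (SGA3b.powConv k A' N)) z) =
        MonoidAlgebra.mapDomain (· ^ N) (e z) := fun z => by
      induction z using TensorProduct.induction_on with
      | zero => simp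
      | tmul c a =>
        have hc : ∀ x : A', c ⊗ₜ[k] x = c • ((1 : K) ⊗ₜ[k] x) := fun x => by
          rw [TensorProduct.smul_tmul', smul_eq_mul, mul_one]
        rw [hc, map_smul, map_smul, map_smul, MonoidAlgebra.mapDomain_smul, Algebra.TensorProduct.map_tmul, AlgHom.id_apply]
        exact congrArg (c • ·) (P.hom_powConv N a)
      | add x y hx hy => simp only [map_add, hx, hy, MonoidAlgebra.mapDomain_add]
    have htf : ∀ m' : M', IsOfFinOrder m' → m' = 1 := by
      intro m' hm'
      let σ : MonoidAlgebra K M' →ₐc[K] MonoidAlgebra K M := ((e : K ⊗[k] A' →ₐc[K] _).comp F).comp (e'.symm : _ →ₐc[K] _)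
      have hσinj : Function.Injective σ := e.injective.comp (hFinj.comp e'.symm.injective)
      obtain ⟨m₀, hm₀⟩ := MonoidAlgebra.isGroupLikeElem_iff_mem_range_single_one.mp
        ((MonoidAlgebra.isGroupLikeElem_single_one m').map σ)
      obtain ⟨x, hx⟩ : ∃ x, x ^ N = m₀ := by
        obtain ⟨z, hz⟩ := hRs (e'.symm (MonoidAlgebra.single m' 1))
        have h : σ (MonoidAlgebra.single m' 1) = MonoidAlgebra.mapDomain (· ^ N) (e z) := by
          show e (F (e'.symm _)) = _
          rw [← hz, hFR, hP]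
        rw [← hm₀] at h
        by_contra! hne
        have h0 := congrArg (fun y => MonoidAlgebra.coeff y m₀) h
        simp only [MonoidAlgebra.coeff_single, Finsupp.single_eq_same, MonoidAlgebra.coeff_mapDomain] at h0
        rw [Finsupp.mapDomain_notin_range _ _ (fun ⟨x, hx⟩ => hne x hx)] at h0
        exact one_ne_zero h0
      obtain ⟨j, hj, hj'⟩ := isOfFinOrder_iff_pow_eq_one.mp hm'
      have hpow := congrArg σ (show MonoidAlgebra.single m' (1 : K) ^ j = 1 by
        rw [MonoidAlgebra.single_pow, hj', one_pow, MonoidAlgebra.one_def])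
      rw [map_pow, map_one, ← hm₀, MonoidAlgebra.single_pow, one_pow, MonoidAlgebra.one_def] at hpow
      have h1 : m₀ ^ j = 1 := by simpa using Finsupp.single_left_injective one_ne_zero (congrArg MonoidAlgebra.coeff hpow)
      have hm0 : m₀ = 1 := by
        rw [← hx]
        refine hMN x (isOfFinOrder_iff_pow_eq_one.mpr ⟨N * j, Nat.mul_pos hN hj, ?_⟩)
        rw [pow_mul, hx, h1]
      refine MonoidAlgebra.single_left_injective one_ne_zero (hσinj ?_)
      show σ (MonoidAlgebra.single m' 1) = σ (MonoidAlgebra.single 1 1)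
      rw [← MonoidAlgebra.one_def, map_one, ← hm₀, hm0, MonoidAlgebra.one_def]
    obtain ⟨r', ⟨eM⟩⟩ := exists_free_model M' htf
    obtain ⟨d⟩ := MultConjLib.nonempty_bialgEquiv_of_mulEquiv K eM
    exact isTorus_sp K (e'.trans d)
  · refine Ideal.Quotient.eq_zero_iff_mem.mp ?_
    show mk (SGA3b.powConv k A N a) = 0
    have h2 : mk (SGA3b.powConv k A N a) = SGA3b.powConv k A' N (mk a) :=
      (AlgHom.congr_fun (bialgHom_comp_powConv mk N) a).symm
    rw [h2, ← MultTypeLib.powBialg_apply]
    exact ha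

open GrpSchLib.UniPart in
/-- Some power map of a commutative affine group in characteristic `p` lands in the largest torus. -/
theorem exists_pow_kill (p : ℕ) [Fact p.Prime] [CharP k p] {A : Type u} [CommRing A] [HopfAlgebra k A]
    [Algebra.FiniteType k A] [Coalgebra.IsCocomm k A] {I : Ideal A} {N : ℕ} (hN : 0 < N)
    (hI : ∀ a ∈ I, SGA3b.powConv k A N a ∈ J k A) :
    ∃ n : ℕ, 0 < n ∧ ∀ a ∈ I, SGA3b.powConv k A n a = 0 := by
  obtain ⟨m, hm⟩ := exists_pow_kill_J (k := k) p A
  exact ⟨p ^ m * N, Nat.mul_pos (pow_pos (Fact.out : p.Prime).pos _) hN, fun a ha => by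
    rw [powConv_mul]; exact hm _ (hI a ha)⟩

end Torus

end Groth.Agent.Chevalley.CommAff
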