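import Groth.Agent.Chevalley.CommAff.SemiAb
import Groth.Agent.FibDim.BaseField
import Groth.Agent.BertiniAff.Basic

/-!
Dimension of a torus and degree of its power maps.
-/

set_option autoImplicit false
set_option backward.isDefEq.respectTransparency false
set_option maxHeartbeats 1000000
set_option linter.style.haveILetI false
universe u
open CategoryTheory CategoryTheory.Limits AlgebraicGeometry MonoidalCategory CartesianMonoidalCategory
open scoped MonObj
open TensorProduct WithConv

namespace Groth.Agent.Chevalley.CommAff

open Groth.Agent.GrpSchLib Groth.Agent.GrpSchLib.AffineHopf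

section Alg

variable (K : Type u) [Field K] (r : ℕ)

local notation "C" => MonoidAlgebra K (Multiplicative (Fin r → ℤ))

/-- The polynomial ring inside the ring of Laurent polynomials. -/
noncomputable def polyToLaurent : MvPolynomial (Fin r) K →ₐ[K] C :=
  MvPolynomial.aeval fun i => MonoidAlgebra.single (Multiplicative.ofAdd (Pi.single i (1 : ℤ))) (1 : K)

theorem polyToLaurent_monomial (s : Fin r →₀ ℕ) (c : K) :
    polyToLaurent K r (MvPolynomial.monomial s c) =
      MonoidAlgebra.single (Multiplicative.ofAdd fun i => (s i : ℤ)) c := by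
  induction s using Finsupp.induction generalizing c with
  | zero =>
    rw [show MvPolynomial.monomial 0 c = MvPolynomial.C c from rfl, MvPolynomial.algHom_C]
    simp [Algebra.algebraMap_eq_smul_one, MonoidAlgebra.one_def,
      show (fun _ : Fin r => (0 : ℤ)) = 0 from rfl]
  | single_add i b s _ _ ih =>
    rw [show MvPolynomial.monomial (Finsupp.single i b + s) c =
      MvPolynomial.X i ^ b * MvPolynomial.monomial s c by
        rw [MvPolynomial.X_pow_eq_monomial, MvPolynomial.monomial_mul, one_mul], map_mul, ih, map_pow]
    simp only [polyToLaurent, MvPolynomial.aeval_X, MonoidAlgebra.single_pow, one_pow, MonoidAlgebra.single_mul_single,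
      one_mul]
    congr 1
    rw [← ofAdd_nsmul, ← ofAdd_add]
    congr 1
    funext j
    by_cases h : j = i
    · subst h; simp
    · simp [h, Ne.symm h]

theorem polyToLaurent_injective : Function.Injective (polyToLaurent K r) := by
  have h : ∀ p : MvPolynomial (Fin r) K, (polyToLaurent K r p) =
      MonoidAlgebra.mapDomain (fun m : Multiplicative (Fin r →₀ ℕ) =>
        Multiplicative.ofAdd fun i => ((Multiplicative.toAdd m) i : ℤ))
        (AddMonoidAlgebra.toMultiplicative K (Fin r →₀ ℕ) p) := by
    intro p
    induction p using MvPolynomial.induction_on' with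
    | monomial s c =>
      rw [polyToLaurent_monomial]
      simp [← MvPolynomial.single_eq_monomial, MonoidAlgebra.mapDomain_single]
    | add p q hp hq => rw [map_add, hp, hq, map_add, MonoidAlgebra.mapDomain_add]
  intro p q hpq
  rw [h, h] at hpq
  refine (AddMonoidAlgebra.toMultiplicative K (Fin r →₀ ℕ)).injective (MonoidAlgebra.mapDomain_injective ?_ hpq)
  intro a b hab
  refine Multiplicative.toAdd.injective (Finsupp.ext fun i => ?_)
  have := congrFun (Multiplicative.ofAdd.injective hab) i
  exact_mod_cast this

/-- The dimension of a split torus. -/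
theorem ringKrullDim_laurent : ringKrullDim C = r := by
  letI := (polyToLaurent K r).toRingHom.toAlgebra
  let f : MvPolynomial (Fin r) K := MvPolynomial.monomial (Finsupp.equivFunOnFinite.symm fun _ => 1) 1
  have hf : polyToLaurent K r f = MonoidAlgebra.single (Multiplicative.ofAdd fun _ => (1 : ℤ)) (1 : K) := by
    simp [f, polyToLaurent_monomial]
  have hpow : ∀ n : ℕ, algebraMap (MvPolynomial (Fin r) K) C (f ^ n) =
      MonoidAlgebra.single (Multiplicative.ofAdd fun _ => (n : ℤ)) (1 : K) := by
    intro n
    show polyToLaurent K r (f ^ n) = _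
    rw [map_pow, hf, MonoidAlgebra.single_pow, one_pow, ← ofAdd_nsmul]
    congr 2
    funext i
    simp
  haveI : IsLocalization (Submonoid.powers f) C := by
    refine ⟨?_, ?_, ?_⟩
    · rintro ⟨_, n, rfl⟩
      refine IsUnit.of_mul_eq_one (MonoidAlgebra.single (Multiplicative.ofAdd fun _ => -(n : ℤ)) (1 : K)) ?_
      rw [hpow, MonoidAlgebra.single_mul_single, one_mul, ← ofAdd_add, MonoidAlgebra.one_def]
      congr 1
      rw [← ofAdd_zero]
      congr 1
      funext i
      simp
    · intro z
      suffices h : ∃ n : ℕ, ∃ a, z * algebraMap _ C (f ^ n) = algebraMap _ C a by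
        obtain ⟨n, a, h⟩ := h
        exact ⟨(a, ⟨_, n, rfl⟩), h⟩
      induction z using MonoidAlgebra.induction_linear with
      | zero => exact ⟨0, 0, by simp⟩
      | add z w hz hw =>
        obtain ⟨n, a, ha⟩ := hz
        obtain ⟨m, b, hb⟩ := hw
        refine ⟨n + m, a * f ^ m + b * f ^ n, ?_⟩
        rw [pow_add, map_mul, map_add, map_mul, map_mul, ← ha, ← hb]
        ring
      | single v c =>
        let v' := Multiplicative.toAdd v
        let n := Finset.univ.sup fun i => (-(v' i)).toNat
        refine ⟨n, MvPolynomial.monomial (Finsupp.equivFunOnFinite.symm fun i => (v' i + n).toNat) c, ?_⟩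
        rw [hpow]
        show _ = polyToLaurent K r _
        rw [polyToLaurent_monomial, MonoidAlgebra.single_mul_single, mul_one]
        congr 1
        refine Multiplicative.toAdd.injective (funext fun i => ?_)
        have hn : (-(v' i)).toNat ≤ n := Finset.le_sup (f := fun i => (-(v' i)).toNat) (Finset.mem_univ i)
        show v' i + (n : ℤ) = ((Finsupp.equivFunOnFinite.symm fun i => (v' i + n).toNat) i : ℤ)
        simp only [Finsupp.coe_equivFunOnFinite_symm]
        omega
    · intro x y h
      exact ⟨1, by rw [polyToLaurent_injective K r h]⟩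
  let e := IsLocalization.algEquiv (Submonoid.powers f) C (Localization.Away f)
  haveI : Nontrivial (Localization.Away f) := e.symm.toEquiv.nontrivial
  rw [ringKrullDim_eq_of_ringEquiv e.toRingEquiv]
  refine BertiniAff.ringKrullDim_away_eq K (MvPolynomial (Fin r) K) r (fun P hP => ?_) f
  obtain rfl : P = ⊥ := by
    rw [IsDomain.minimalPrimes_eq_singleton_bot] at hP
    exact hP
  rw [ringKrullDim_eq_of_ringEquiv (RingEquiv.quotientBot _),
    MvPolynomial.ringKrullDim_of_isNoetherianRing, ringKrullDim_eq_zero_of_field, zero_add, Nat.card_fin]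

end Alg

theorem finrank_ringHom_of_basis {R S : Type u} [CommRing R] [CommRing S] [Nontrivial R] (φ : R →+* S) {D : Type}
    [Fintype D] (b : D → S) (hli : ∀ g : D → R, ∑ d, φ (g d) * b d = 0 → ∀ d, g d = 0)
    (hsp : ∀ z, z ∈ AddSubmonoid.closure {x | ∃ a d, x = φ a * b d}) (p : PrimeSpectrum R) :
    φ.Finite ∧ φ.Flat ∧ φ.finrank p = Fintype.card D := by
  algebraize [φ]
  have hl : LinearIndependent R b := by
    rw [Fintype.linearIndependent_iff]
    exact fun g hg => hli g (by simpa [Algebra.smul_def, RingHom.algebraMap_toAlgebra] using hg)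
  have hs : ⊤ ≤ Submodule.span R (Set.range b) := fun z _ => by
    refine AddSubmonoid.closure_induction (motive := fun x _ => x ∈ Submodule.span R (Set.range b)) ?_ (zero_mem _)
      (fun _ _ _ _ hx hy => add_mem hx hy) (hsp z)
    rintro _ ⟨a, d, rfl⟩
    rw [show φ a * b d = a • b d by rw [Algebra.smul_def, RingHom.algebraMap_toAlgebra]]
    exact Submodule.smul_mem _ _ (Submodule.subset_span ⟨d, rfl⟩)
  let B := Module.Basis.mk hl hs
  haveI := Module.Finite.of_basis B
  haveI := Module.Free.of_basis B
  refine ⟨RingHom.finite_algebraMap.mpr inferInstance, RingHom.flat_algebraMap_iff.mpr inferInstance, ?_⟩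
  rw [← RingHom.algebraMap_toAlgebra φ, RingHom.finrank_algebraMap, Module.rankAtStalk_eq_finrank_of_free,
    Pi.natCast_apply, Module.finrank_eq_card_basis B]
  simp

theorem finrank_powConv (K : Type u) [Field K] (r : ℕ) {N : ℕ} (hN : 0 < N)
    (p : PrimeSpectrum (MonoidAlgebra K (Multiplicative (Fin r → ℤ)))) :
    let φ := ((toConv (AlgHom.id K (MonoidAlgebra K (Multiplicative (Fin r → ℤ)))) ^ N).ofConv).toRingHom
    φ.Finite ∧ φ.Flat ∧ φ.finrank p = N ^ r := by
  intro φ
  let D := Fin r → Fin N
  let sh : D → Multiplicative (Fin r → ℤ) := fun d => Multiplicative.ofAdd fun i => ((d i : ℕ) : ℤ)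
  let b : D → MonoidAlgebra K (Multiplicative (Fin r → ℤ)) := fun d => MonoidAlgebra.single (sh d) 1
  have hφ : ∀ (m : Multiplicative (Fin r → ℤ)) (c : K), φ (MonoidAlgebra.single m c) = MonoidAlgebra.single (m ^ N) c :=
    fun m c => (powConv_monoidAlgebra N _).trans MonoidAlgebra.mapDomain_single
  have hcoord : ∀ (m m' : Multiplicative (Fin r → ℤ)) (d d' : D), m ^ N * sh d = m' ^ N * sh d' → m = m' ∧ d = d' := by
    intro m m' d d' h
    have h' : ∀ i, (N : ℤ) * Multiplicative.toAdd m i + ((d i : ℕ) : ℤ) = (N : ℤ) * Multiplicative.toAdd m' i + ((d' i : ℕ) : ℤ) := by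
      intro i
      have := congrFun (congrArg Multiplicative.toAdd h) i
      simpa [sh] using this
    have hd : d = d' := funext fun i => Fin.ext (by
      have e := congrArg (· % (N : ℤ)) (h' i)
      simp only [Int.mul_add_emod_self_left] at e
      rw [Int.emod_eq_of_lt (by omega) (by exact_mod_cast (d i).2),
        Int.emod_eq_of_lt (by omega) (by exact_mod_cast (d' i).2)] at e
      exact_mod_cast e)
    subst hd
    refine ⟨Multiplicative.toAdd.injective (funext fun i => ?_), rfl⟩
    exact mul_left_cancel₀ (by exact_mod_cast hN.ne' : (N : ℤ) ≠ 0) (by linarith [h' i])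
  have hcard : Fintype.card D = N ^ r := by simp [D]
  rw [← hcard]
  refine finrank_ringHom_of_basis φ b (fun g hg d => ?_) (fun z => ?_) p
  · refine MonoidAlgebra.ext (Finsupp.ext fun m => ?_)
    have key : ∀ (a : MonoidAlgebra K (Multiplicative (Fin r → ℤ))) (d' : D), (φ a * b d').coeff (m ^ N * sh d) = if d' = d then a.coeff m else 0 := by
      intro a d'
      induction a using MonoidAlgebra.induction_linear with
      | zero => simp
      | add a a' ha ha' =>
        rw [map_add, add_mul, MonoidAlgebra.coeff_add, Finsupp.add_apply, ha, ha', MonoidAlgebra.coeff_add, Finsupp.add_apply]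
        split_ifs <;> simp
      | single m' c =>
        rw [hφ, MonoidAlgebra.single_mul_single, mul_one, MonoidAlgebra.coeff_single, MonoidAlgebra.coeff_single,
          Finsupp.single_apply, Finsupp.single_apply]
        by_cases h : m' ^ N * sh d' = m ^ N * sh d
        · obtain ⟨h1, h2⟩ := hcoord _ _ _ _ h
          subst h1; subst h2; simp
        · rw [if_neg h]
          by_cases h2 : d' = d
          · subst h2
            rw [if_pos rfl, if_neg (fun e => h (by rw [e]))]
          · rw [if_neg h2]
    have := congrArg (fun z : MonoidAlgebra K (Multiplicative (Fin r → ℤ)) => z.coeff (m ^ N * sh d)) hg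
    simp only [MonoidAlgebra.coeff_sum, Finsupp.finsetSum_apply, key, Finset.sum_ite_eq', Finset.mem_univ,
      if_true, MonoidAlgebra.coeff_zero, Finsupp.zero_apply] at this
    simpa using this
  · induction z using MonoidAlgebra.induction_linear with
    | zero => exact zero_mem _
    | add z w hz hw => exact add_mem hz hw
    | single v c =>
      let m : Multiplicative (Fin r → ℤ) := Multiplicative.ofAdd fun i => Multiplicative.toAdd v i / (N : ℤ)
      let d : D := fun i => ⟨(Multiplicative.toAdd v i % (N : ℤ)).toNat, by
        have := Int.emod_lt_of_pos (Multiplicative.toAdd v i) (by exact_mod_cast hN : (0 : ℤ) < N)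
        omega⟩
      have hv : v = m ^ N * sh d := Multiplicative.toAdd.injective (funext fun i => by
        have h1 := Int.emod_nonneg (Multiplicative.toAdd v i) (by exact_mod_cast hN.ne' : (N : ℤ) ≠ 0)
        have h2 := Int.mul_ediv_add_emod (Multiplicative.toAdd v i) (N : ℤ)
        simp [m, d, sh, max_eq_left h1, h2])
      refine AddSubmonoid.subset_closure ⟨MonoidAlgebra.single m c, d, ?_⟩
      rw [hφ, MonoidAlgebra.single_mul_single, mul_one, ← hv]

end Groth.Agent.Chevalley.CommAff
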