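import Groth.Agent.Chevalley.CommAff.Complement
import Groth.Agent.Chevalley.CommAff.CharKill

/-!
Images of tori are tori.
-/

set_option autoImplicit false
set_option backward.isDefEq.respectTransparency false
set_option maxHeartbeats 1000000
set_option linter.style.haveILetI false
universe u
open CategoryTheory CategoryTheory.Limits AlgebraicGeometry MonoidalCategory CartesianMonoidalCategory
open scoped MonObj
open TensorProduct WithConv

namespace Groth.Agent.Chevalley.CommAff

open Groth.Agent.GrpSchLib Groth.Agent.GrpSchLib.AffineHopf Groth.Agent.MultTypeLib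
open Groth.Agent.GrpSchLib.UniPart

variable {k : Type u} [Field k]

theorem isTorus_of_iso {S : Scheme.{u}} {T T' : Over S} [GrpObj T] [GrpObj T'] (e : Grp.mk T ≅ Grp.mk T')
    (hT : Red.IsTorus T) : Red.IsTorus T' := by
  obtain ⟨S', f, h1, h2, h3, h4⟩ := hT
  refine ⟨S', f, h1, h2, h3, fun s' => ?_⟩
  obtain ⟨U, hU, r, ⟨e'⟩⟩ := h4 s'
  obtain ⟨e''⟩ := GrpSchLib.MultTypeBC.bc_iso (U.ι ≫ f) e
  exact ⟨U, hU, r, ⟨e''.symm ≪≫ e'⟩⟩

/-- The image of a torus is a torus. -/
theorem isTorus_image {T₁ I : Over (Spec (CommRingCat.of k))} [GrpObj T₁] [GrpObj I] (hT₁ : Red.IsTorus T₁)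
    (p : T₁ ⟶ I) [IsMonHom p] [Flat p.left] [Surjective p.left] [IsAffine I.left] [LocallyOfFiniteType I.hom] :
    Red.IsTorus I := by
  obtain ⟨h1, h2, h3, h4, h5⟩ := torus_props hT₁
  haveI := GrpSchLib.AntiAffine.isSeparated_grp I
  haveI : QuasiCompact (p.left ≫ I.hom) := by rw [Over.w p]; infer_instance
  haveI : QuasiCompact p.left := QuasiCompact.of_comp p.left I.hom
  haveI : IsCommMonObj I := isCommMonObj_of_cover p
  haveI : Smooth I.hom := (GrpQuotLib.props_of_cover (p := p) ⟨inferInstance, inferInstance, by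
    haveI : LocallyOfFiniteType (p.left ≫ I.hom) := by rw [Over.w p]; infer_instance
    haveI := locallyOfFiniteType_of_comp p.left I.hom
    haveI : IsLocallyNoetherian I.left := LocallyOfFiniteType.isLocallyNoetherian I.hom
    infer_instance⟩).2.2 inferInstance
  haveI := GrpSchLib.isReduced_of_smooth_field I.hom
  obtain ⟨A, _, _, ⟨eI⟩⟩ := exists_hopf I
  obtain ⟨C, _, _, ⟨eC⟩⟩ := exists_hopf T₁
  let e : sp k A ≅ I := (Grp.forget _).mapIso eI
  let e' : sp k C ≅ T₁ := (Grp.forget _).mapIso eC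
  haveI : IsMonHom e.hom := eI.hom.hom.isMonHom_hom
  haveI : IsMonHom e.inv := eI.inv.hom.isMonHom_hom
  haveI : IsMonHom e'.hom := eC.hom.hom.isMonHom_hom
  haveI : IsIso e.inv.left := inferInstanceAs (IsIso ((Over.forget _).map e.inv))
  haveI : IsIso e.hom.left := inferInstanceAs (IsIso ((Over.forget _).map e.hom))
  haveI : IsIso e'.hom.left := inferInstanceAs (IsIso ((Over.forget _).map e'.hom))
  haveI : Coalgebra.IsCocomm k A := isCocomm_of_iso e.hom
  haveI : LocallyOfFiniteType (sp k A).hom := by rw [← Over.w e.hom]; infer_instance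
  haveI : Algebra.FiniteType k A :=
    RingHom.finiteType_algebraMap.mp ((HasRingHomProperty.Spec_iff (P := @LocallyOfFiniteType)).mp ‹_›)
  obtain ⟨F, hF⟩ := exists_bialgHom (e'.hom ≫ p ≫ e.inv)
  haveI : Surjective (spMap (F : A →ₐ[k] C)).left := by rw [← hF, Over.comp_left, Over.comp_left]; infer_instance
  haveI : Flat (spMap (F : A →ₐ[k] C)).left := by rw [← hF, Over.comp_left, Over.comp_left]; infer_instance
  have hFi : Function.Injective F := by
    have hff := (flat_and_surjective_SpecMap_iff (CommRingCat.ofHom (F : A →ₐ[k] C).toRingHom)).1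
      ⟨inferInstanceAs (Flat (spMap (F : A →ₐ[k] C)).left), inferInstanceAs (Surjective (spMap (F : A →ₐ[k] C)).left)⟩
    exact RingHom.FaithfullyFlat.injective hff
  obtain ⟨K₁, _, _, φ₁, r, ⟨e₁⟩⟩ := TorusBilin.exists_split hT₁
  letI : Algebra k K₁ := φ₁.toAlgebra
  obtain ⟨e₂⟩ := GrpSchLib.MultTypeBC.bc_iso (Spec.map (CommRingCat.ofHom (algebraMap k K₁))) eC
  obtain ⟨e₃⟩ := nonempty_bc_sp (R := k) K₁ C
  obtain ⟨ε⟩ := MultConjLib.exists_bialgEquiv (e₃.symm ≪≫ e₂ ≪≫ e₁)
  let εi : K₁ ⊗[k] C →ₐc[K₁] MonoidAlgebra K₁ (ULift.{u} (Multiplicative (Fin r → ℤ))) :=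
    (ε.symm.trans (MonoidAlgebra.domCongrBialgEquiv K₁ K₁ MulEquiv.ulift.symm) :
      K₁ ⊗[k] C ≃ₐc[K₁] MonoidAlgebra K₁ (ULift.{u} (Multiplicative (Fin r → ℤ))))
  have hJ : J k A = ⊥ := by
    refine eq_bot_iff.mpr (Ideal.span_le.mpr fun b hb => ?_)
    obtain ⟨n, hn⟩ := (mem_Bs k A b).mp hb.1
    have h := monoidAlgebra_Bn n (map_mem εi n (tmul_mem_Bn n (map_mem F n hn)))
    have h' : Coalgebra.counit (R := K₁) (εi ((1 : K₁) ⊗ₜ[k] F b)) = 0 := by
      rw [CoalgHomClass.counit_comp_apply εi, TensorProduct.counit_tmul, CoalgHomClass.counit_comp_apply F,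
        show Coalgebra.counit (R := k) b = 0 from hb.2, zero_smul]
    rw [h', map_zero] at h
    have h0 : (1 : K₁) ⊗ₜ[k] F b = 0 :=
      (ε.symm.trans (MonoidAlgebra.domCongrBialgEquiv K₁ K₁ MulEquiv.ulift.symm) :
        K₁ ⊗[k] C ≃ₐc[K₁] MonoidAlgebra K₁ (ULift.{u} (Multiplicative (Fin r → ℤ)))).injective (h.trans (map_zero _).symm)
    exact hFi ((Algebra.TensorProduct.includeRight_injective (A := K₁) (algebraMap k K₁).injective
      (h0.trans (TensorProduct.tmul_zero _ _).symm)).trans (map_zero F).symm)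
  obtain ⟨J', _, N, hN, hT, -, hI⟩ := exists_maxTorus_ideal (k := k) A
  let mkI : A →ₐc[k] A ⧸ J' := Bialgebra.Quotient.mkBialgHom J'
  let g : A ⧸ J' →ₐ[k] A := Ideal.Quotient.liftₐ J' (SGA3b.powConv k A N) fun a ha =>
    (Submodule.mem_bot A).mp (hJ ▸ hI a ha)
  have hg : spMap g ≫ spMap (mkI : A →ₐ[k] A ⧸ J') = (𝟙 (sp k A)) ^ N := by
    rw [spMap_comp, show g.comp (mkI : A →ₐ[k] A ⧸ J') = SGA3b.powConv k A N from Ideal.Quotient.liftₐ_comp _ _ _]
    exact spMap_powConv N
  let i : sp k (A ⧸ J') ⟶ I := spMap (mkI : A →ₐ[k] A ⧸ J') ≫ e.hom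
  haveI : IsMonHom i := inferInstance
  haveI : IsClosedImmersion (spMap (mkI : A →ₐ[k] A ⧸ J')).left :=
    IsClosedImmersion.spec_of_surjective _ Ideal.Quotient.mk_surjective
  haveI : IsClosedImmersion i.left := by rw [Over.comp_left]; infer_instance
  haveI : Surjective ((𝟙 I) ^ N).left := by
    haveI := surjective_pow_torus hT₁ hN
    haveI : Surjective (p.left ≫ ((𝟙 I) ^ N).left) := by
      rw [← Over.comp_left, BC.comp_pow, Category.comp_id,
        show p ^ N = ((𝟙 T₁) ^ N) ≫ p by rw [BC.pow_comp, Category.id_comp], Over.comp_left]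
      infer_instance
    exact Surjective.of_comp p.left _
  haveI : Surjective i.left := by
    have h : (e.inv ≫ spMap g) ≫ i = (𝟙 I) ^ N := by
      show (e.inv ≫ spMap g) ≫ _ ≫ e.hom = _
      rw [Category.assoc, reassoc_of% hg, BC.pow_comp, Category.id_comp, BC.comp_pow, e.inv_hom_id]
    haveI : Surjective ((e.inv ≫ spMap g).left ≫ i.left) := by rw [← Over.comp_left, h]; infer_instance
    exact Surjective.of_comp (e.inv ≫ spMap g).left i.left
  haveI : IsIso i.left := isIso_of_isClosedImmersion_of_surjective i.left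
  haveI : IsIso ((Over.forget _).map i) := ‹IsIso i.left›
  haveI : IsIso i := isIso_of_reflects_iso i (Over.forget _)
  exact isTorus_of_iso (Grp.mkIso' (asIso i)) hT

end Groth.Agent.Chevalley.CommAff
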