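import Groth.Agent.Chevalley.CommAff.Scheme
import Groth.Agent.EtNormal.Basic
import Groth.Agent.EtFound.Descent
import Groth.Agent.GrpSchLib.GeomIrr
import Groth.Agent.LargeNormal.Galois

/-!
Power maps of tori.
-/

set_option autoImplicit false
set_option backward.isDefEq.respectTransparency false
set_option maxHeartbeats 1000000
set_option linter.style.haveILetI false
universe u
open CategoryTheory CategoryTheory.Limits AlgebraicGeometry MonoidalCategory CartesianMonoidalCategory
open scoped MonObj
open TensorProduct WithConv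

namespace Groth.Agent.Chevalley.CommAff

open Groth.Agent.GrpSchLib Groth.Agent.GrpSchLib.AffineHopf

variable {k : Type u} [Field k]

theorem torus_props {T : Over (Spec (CommRingCat.of k))} [GrpObj T] (hT : Red.IsTorus T) :
    Smooth T.hom ∧ IsAffine T.left ∧ ConnectedSpace T.left ∧ IsCommMonObj T ∧ QuasiCompact T.hom := by
  haveI : Smooth T.hom := MultConjLib.smooth_of_isTorus hT
  haveI : IsAffineHom T.hom :=
    MultConjLib.isAffineHom_of_locDS (MultConjLib.isLocDS_of_multTypeFT (RankOne.isMultTypeFT_of_isTorus hT))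
  haveI := EtNormal.preconnected_of_isTorus T hT
  haveI : Nonempty T.left := ⟨η[T].left (IsLocalRing.closedPoint k)⟩
  refine ⟨inferInstance, isAffine_of_isAffineHom T.hom, ⟨inferInstance⟩, ⟨?_⟩, inferInstance⟩
  have h : μ[T] = fst T T * snd T T := by rw [Hom.mul_def, lift_fst_snd, Category.id_comp]
  rw [h, MonObj.comp_mul, braiding_hom_fst, braiding_hom_snd]
  exact TorusBilin.comm_of_isTorus hT _ _ _

theorem pow_tor_props {K : Type u} [Field K] (r : ℕ) {n : ℕ} (hn : 0 < n) :
    Surjective ((𝟙 (TorusBilin.Tor K r)) ^ n).left ∧ IsFinite ((𝟙 (TorusBilin.Tor K r)) ^ n).left := by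
  let C := TorusBilin.Coord K r
  let f : C →ₐ[K] C := (toConv (AlgHom.id K C) ^ n).ofConv
  have hf : ∀ y, f y = MonoidAlgebra.mapDomain (· ^ n) y := powConv_monoidAlgebra n
  have hinj : Function.Injective f := fun x y h => by
    rw [hf, hf] at h
    exact MonoidAlgebra.mapDomain_injective (fun a b hab => smul_right_injective (Fin r → ℤ) hn.ne'
      (show n • Multiplicative.toAdd a = n • Multiplicative.toAdd b from hab)) h
  have hint : f.toRingHom.IsIntegral := by
    intro y
    induction y using MonoidAlgebra.induction_linear with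
    | zero => exact f.toRingHom.isIntegralElem_zero
    | add a b ha hb => exact RingHom.IsIntegralElem.add _ ha hb
    | single m c =>
      rw [MonoidAlgebra.single_eq_algebraMap_mul_of, MonoidAlgebra.of_apply]
      refine RingHom.IsIntegralElem.mul _ ?_ ?_
      · rw [← f.commutes c]; exact RingHom.isIntegralElem_map _
      · letI := f.toRingHom.toAlgebra
        refine (IsIntegral.of_pow hn ?_ : IsIntegral C (MonoidAlgebra.single m (1 : K)))
        show f.toRingHom.IsIntegralElem _
        rw [MonoidAlgebra.single_pow, one_pow, ← MonoidAlgebra.mapDomain_single (f := (· ^ n)) (a := m) (r := (1 : K)),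
          ← hf]
        exact RingHom.isIntegralElem_map _
  rw [← spMap_powConv]
  refine ⟨⟨?_⟩, (IsFinite.SpecMap_iff _).mpr (RingHom.IsIntegral.to_finite hint ?_)⟩
  swap
  · refine RingHom.FiniteType.of_comp_finiteType (f := algebraMap K C) ?_
    show (f.toRingHom.comp (algebraMap K C)).FiniteType
    rw [AlgHom.toRingHom_eq_coe, f.comp_algebraMap]
    exact RingHom.finiteType_algebraMap.mpr inferInstance
  show Function.Surjective (PrimeSpectrum.comap f.toRingHom)
  letI := f.toRingHom.toAlgebra
  haveI : Algebra.IsIntegral C C := ⟨hint⟩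
  intro p
  obtain ⟨q, -, hq⟩ := Ideal.exists_ideal_over_prime_of_isIntegral (S := C) p.asIdeal (⊥ : Ideal C) (by
    intro x hx
    rw [Ideal.mem_comap, Ideal.mem_bot] at hx
    rw [hinj (hx.trans (map_zero f).symm)]
    exact zero_mem _)
  exact ⟨⟨q, hq.1⟩, PrimeSpectrum.ext hq.2⟩

theorem pow_of_iso {X Y : Over (Spec (CommRingCat.of k))} [GrpObj X] [GrpObj Y] (a : X ≅ Y) [IsMonHom a.hom]
    {n : ℕ} (h : Surjective ((𝟙 Y) ^ n).left ∧ IsFinite ((𝟙 Y) ^ n).left) :
    Surjective ((𝟙 X) ^ n).left ∧ IsFinite ((𝟙 X) ^ n).left := by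
  have h1 : (𝟙 X) ^ n = a.hom ≫ (((𝟙 Y) ^ n) ≫ a.inv) := by
    rw [← Category.assoc, Iso.eq_comp_inv, BC.comp_pow, Category.comp_id, BC.pow_comp, Category.id_comp]
  haveI : IsIso a.hom.left := inferInstanceAs (IsIso ((Over.forget _).map a.hom))
  haveI : IsIso a.inv.left := inferInstanceAs (IsIso ((Over.forget _).map a.inv))
  haveI := h.1; haveI := h.2
  rw [h1, Over.comp_left, Over.comp_left]
  exact ⟨inferInstance, inferInstance⟩

theorem isPullback_map {S U : Scheme.{u}} (φ : U ⟶ S) {A B : Over S} (f : A ⟶ B) :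
    IsPullback (pullback.fst A.hom φ) ((Over.pullback φ).map f).left f.left (pullback.fst B.hom φ) := by
  refine IsPullback.of_bot ?_ (LargeNormal.map_fst φ f).symm (IsPullback.of_hasPullback B.hom φ)
  rw [Over.w f]
  convert IsPullback.of_hasPullback A.hom φ using 1
  exact pullback.lift_snd _ _ _

/-- Power maps of tori are surjective and finite. -/
theorem pow_torus_props {T : Over (Spec (CommRingCat.of k))} [GrpObj T] (hT : Red.IsTorus T) {n : ℕ}
    (hn : 0 < n) : Surjective ((𝟙 T) ^ n).left ∧ IsFinite ((𝟙 T) ^ n).left := by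
  obtain ⟨K, _, _, φ, r, ⟨e⟩⟩ := TorusBilin.exists_split hT
  let g := Spec.map (CommRingCat.ofHom φ)
  haveI : Surjective g := ⟨fun x => ⟨IsLocalRing.closedPoint K, Subsingleton.elim _ _⟩⟩
  haveI : Flat g := GrpSchLib.flat_spec_map_field φ
  let a : Red.bc g T ≅ TorusBilin.Tor K r := (Grp.forget _).mapIso e
  haveI : IsMonHom a.hom := e.hom.hom.isMonHom_hom
  have h0 := pow_of_iso a (pow_tor_props (K := K) r hn)
  haveI := h0.1
  haveI := h0.2
  have h : (Over.pullback g).map ((𝟙 T) ^ n) = (𝟙 (Red.bc g T)) ^ n := by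
    rw [show (Over.pullback g).map ((𝟙 T) ^ n) = (Over.pullback g).homMonoidHom ((𝟙 T) ^ n) from rfl, map_pow]
    congr 1
    exact (Over.pullback g).map_id T
  refine ⟨?_, ?_⟩
  · haveI : Surjective ((Over.pullback g).map ((𝟙 T) ^ n)).left := by rw [h]; infer_instance
    haveI : Surjective (pullback.fst T.hom g ≫ ((𝟙 T) ^ n).left) := by rw [← LargeNormal.map_fst]; infer_instance
    exact Surjective.of_comp (pullback.fst T.hom g) _
  · haveI := EtFound.fpqc_isFinite.{u}
    haveI : IsFinite ((Over.pullback g).map ((𝟙 T) ^ n)).left := by rw [h]; infer_instance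
    exact MorphismProperty.of_isPullback_of_descendsAlong (Q := (@Surjective ⊓ @Flat ⊓ @QuasiCompact : MorphismProperty Scheme.{u}))
      (P := @IsFinite) (isPullback_map g ((𝟙 T) ^ n)).flip
      ⟨⟨inferInstanceAs (Surjective (pullback.fst T.hom g)), inferInstanceAs (Flat (pullback.fst T.hom g))⟩,
        inferInstanceAs (QuasiCompact (pullback.fst T.hom g))⟩ inferInstance

theorem surjective_pow_torus {T : Over (Spec (CommRingCat.of k))} [GrpObj T] (hT : Red.IsTorus T) {n : ℕ}
    (hn : 0 < n) : Surjective ((𝟙 T) ^ n).left := (pow_torus_props hT hn).1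

end Groth.Agent.Chevalley.CommAff
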